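import Cfsg.Agent.Lib.Invol.U6Cent.Lines
import Mathlib.Combinatorics.Enumerative.DoubleCounting

/-!
Owner: helper13. The component of `z` among its commuting conjugates: 693 of them, each commuting with 180
others, any two commuting or with product of order three.
-/

set_option autoImplicit false
set_option linter.unusedSectionVars false

namespace CfsgLib.U6Cent

open Cfsg CfsgLib.ThreeTrans CfsgLib.Recog.SpFourCent

section Near

variable {G : Type*} [Group G] {z a b x y : G}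

/-- Two elements with a common commuting conjugate of `z`. -/
def Near (z a x : G) : Prop := ∃ u, IsConj z u ∧ Commute u a ∧ Commute u x

theorem Near.symm (h : Near z a x) : Near z x a :=
  let ⟨u, hu, h1, h2⟩ := h; ⟨u, hu, h2, h1⟩

theorem Near.conj (c : G) (h : Near z a x) : Near z (c * a * c⁻¹) (c * x * c⁻¹) :=
  let ⟨u, hu, h1, h2⟩ := h
  ⟨c * u * c⁻¹, (member_conj_iff c u).2 hu, (Commute.conj_iff c).2 h1, (Commute.conj_iff c).2 h2⟩

theorem near_self (hz : IsConj z a) : Near z a a := ⟨a, hz, Commute.refl a, Commute.refl a⟩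

/-- The conjugates commuting with `a`, itself excepted. -/
def nbr (z a : G) : Set G := {y | IsConj z y ∧ Commute y a ∧ y ≠ a}

/-- The conjugates at distance two from `z`. -/
def outer (z : G) : Set G := {y | IsConj z y ∧ ¬ Commute y z ∧ Near z z y}

/-- The component of `z`. -/
def ball (z : G) : Set G := {y | IsConj z y ∧ Near z z y}

theorem ncard_nbr_conj (c : G) : (nbr z (c * a * c⁻¹)).ncard = (nbr z a).ncard := by
  refine (Set.ncard_congr' ((MulAut.conj c).toEquiv.subtypeEquiv fun y => ?_)).symm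
  show IsConj z y ∧ Commute y a ∧ y ≠ a ↔
    IsConj z (c * y * c⁻¹) ∧ Commute (c * y * c⁻¹) (c * a * c⁻¹) ∧ c * y * c⁻¹ ≠ c * a * c⁻¹
  rw [member_conj_iff, Commute.conj_iff, Ne, Ne, mul_left_inj, mul_right_inj]

theorem ball_eq : ball z = insert z (nbr z z ∪ outer z) := by
  ext y
  simp only [ball, nbr, outer, Set.mem_insert_iff, Set.mem_union, Set.mem_ofPred_eq]
  constructor
  · rintro ⟨h1, h2⟩
    by_cases e : y = z
    · exact Or.inl e
    by_cases hc : Commute y z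
    exacts [Or.inr (Or.inl ⟨h1, hc, e⟩), Or.inr (Or.inr ⟨h1, hc, h2⟩)]
  · rintro (rfl | ⟨h1, h2, -⟩ | ⟨h1, -, h2⟩)
    exacts [⟨IsConj.refl _, near_self (IsConj.refl _)⟩, ⟨h1, y, h1, h2, Commute.refl y⟩, ⟨h1, h2⟩]

end Near

namespace Sit

variable {G : Type*} [Group G] [Finite G] {z : G} {Q : Subgroup G} {A : Type*} [Group A] {S : Sit z Q A}

namespace Good

variable (hS : S.Good)
include hS

/-- A line through `y` has a point commuting with a conjugate at distance two. -/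
theorem exists_on_line {a y f d : G} (ha : IsConj z a) (hy : IsConj z y) (hf : IsConj z f) (hd : IsConj z d)
    (hyf : Commute y f) (hne : f ≠ y) (hay : ¬ Commute a y) (hda : Commute d a) (hdy : Commute d y) :
    ∃ u, Coll z y f u ∧ Commute u a := by
  obtain ⟨g, hg⟩ := exists_to_z hy
  have cf : Commute (g * f * g⁻¹) z := hg ▸ (Commute.conj_iff g).2 hyf.symm
  have cd : Commute (g * d * g⁻¹) z := hg ▸ (Commute.conj_iff g).2 hdy
  have ca : ¬ Commute (g * a * g⁻¹) z := fun h => hay ((Commute.conj_iff g).1 (hg.symm ▸ h))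
  obtain ⟨r, hr, hπ⟩ := hS.image_mem ((member_conj_iff g f).2 hf) cf
    fun e => hne (mul_left_cancel (mul_right_cancel (e.trans hg.symm)))
  obtain ⟨w, hw, hwz, hπw, hwa⟩ := hS.exists_one ((member_conj_iff g a).2 ha) ca ((member_conj_iff g d).2 hd) cd
    ((Commute.conj_iff g).2 hda.symm) hr
  obtain ⟨u, rfl⟩ : ∃ u, w = g * u * g⁻¹ := ⟨g⁻¹ * w * g, by group⟩
  have h := (hS.coll_iff ((member_conj_iff g f).2 hf) cf hr hπ).2 (Or.inr ⟨hw, hwz, hπw⟩)
  exact ⟨u, (Coll.conj_iff g).1 (hg.symm ▸ h), (Commute.conj_iff g).1 hwa⟩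

theorem near_step {a x f : G} (ha : IsConj z a) (hx : IsConj z x) (hf : IsConj z f) (h : Near z a x)
    (hxf : Commute x f) : Near z a f := by
  by_cases hax : Commute a x
  · exact ⟨x, hx, hax.symm, hxf⟩
  by_cases hfx : f = x
  · rwa [hfx]
  obtain ⟨d, hd, hda, hdx⟩ := h
  obtain ⟨u, hu, hua⟩ := hS.exists_on_line ha hx hf hd hxf hfx hax hda hdx
  exact ⟨u, hu.1, hua, hu.2.2.1⟩

theorem near_trans {a x b : G} (ha : IsConj z a) (hx : IsConj z x) (hb : IsConj z b) (h : Near z a x)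
    (h' : Near z x b) : Near z a b := by
  obtain ⟨u, hu, hux, hub⟩ := h'
  exact hS.near_step ha hu hb (hS.near_step ha hx hu h hux.symm) hub

/-- The elements moving `z` inside its component. -/
def stab : Subgroup G where
  carrier := {g | Near z z (g * z * g⁻¹)}
  one_mem' := by
    show Near z z (1 * z * 1⁻¹)
    rw [one_mul, inv_one, mul_one]; exact near_self (IsConj.refl z)
  mul_mem' {g h} hg hh := by
    show Near z z (g * h * z * (g * h)⁻¹)
    have e : g * h * z * (g * h)⁻¹ = g * (h * z * h⁻¹) * g⁻¹ := by group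
    rw [e]
    exact hS.near_trans (IsConj.refl z) (member_conj (IsConj.refl z) g)
      (member_conj (member_conj (IsConj.refl z) h) g) hg (Near.conj g hh)
  inv_mem' {g} hg := by
    show Near z z (g⁻¹ * z * g⁻¹⁻¹)
    have h := Near.conj g⁻¹ hg
    rw [show g⁻¹ * (g * z * g⁻¹) * g⁻¹⁻¹ = z by group] at h
    exact h.symm

theorem mem_stab {g : G} : g ∈ hS.stab ↔ Near z z (g * z * g⁻¹) := Iff.rfl

theorem mem_stab_of_commute {g : G} (hg : Commute g z) : g ∈ hS.stab := by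
  rw [hS.mem_stab, hg.eq, mul_inv_cancel_right]
  exact near_self (IsConj.refl z)

theorem conj_mem_ball {g x : G} (hg : g ∈ hS.stab) (hx : x ∈ ball z) : g * x * g⁻¹ ∈ ball z :=
  ⟨member_conj hx.1 g, hS.near_trans (IsConj.refl z) (member_conj (IsConj.refl z) g) (member_conj hx.1 g) hg
    (Near.conj g hx.2)⟩

theorem commute_or_braid {x y : G} (hx : x ∈ ball z) (hy : y ∈ ball z) :
    Commute x y ∨ x * y * x = y * x * y := by
  obtain ⟨u, hu, hux, huy⟩ := hS.near_trans hx.1 (IsConj.refl z) hy.1 hx.2.symm hy.2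
  exact hS.two_step hu hx.1 hy.1 hux.symm huy.symm

theorem ball_subset_stab : ball z ⊆ (hS.stab : Set G) := by
  intro x hx
  show Near z z (x * z * x⁻¹)
  rw [inv_eq_of_mul_eq_one_left (member_sq S hx.1)]
  rcases hS.commute_or_braid ⟨IsConj.refl z, near_self (IsConj.refl z)⟩ hx with h | h
  · rw [← h.eq, mul_assoc, member_sq S hx.1, mul_one]
    exact near_self (IsConj.refl z)
  · rw [← h]
    have h' := Near.conj z hx.2
    rwa [show z * z * z⁻¹ = z by group, S.h.inv_z] at h'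

theorem isThreeTranspositionSet : IsThreeTranspositionSet (ball z) := by
  refine ⟨fun x hx => ?_, fun x hx y hy => ?_⟩
  · refine orderOf_eq_prime (by rw [pow_two]; exact member_sq S hx.1) fun e => ?_
    obtain ⟨g, hg⟩ := isConj_iff.1 hx.1
    exact S.h.z_ne_one (conj_eq_one_iff.1 (hg.trans e))
  · have hxx := member_sq S hx.1
    have hyy := member_sq S hy.1
    rcases hS.commute_or_braid hx hy with h | h
    · exact Or.inl (by rw [pow_two, h.symm.mul_mul_mul_comm, hxx, hyy, one_mul])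
    · refine Or.inr ?_
      calc (x * y) ^ 3 = x * y * x * (y * x * y) := by rw [pow_succ, pow_two]; simp only [mul_assoc]
        _ = y * x * y * (y * x * y) := by rw [h]
        _ = 1 := by simp only [mul_assoc]; simp only [← mul_assoc y y, hyy, one_mul, ← mul_assoc x x, hxx]

/-! The numbers. -/

/-- Four conjugates above each member with a property. -/
theorem ncard_over_pred {e : G} (he : e ∈ nbr z z) (P : P43 → Prop) :
    {w | IsConj z w ∧ Commute w z ∧ ∃ r ∈ T, P r ∧ S.π w = S.j r}.ncard = 4 * {r | r ∈ T ∧ P r}.ncard := by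
  classical
  haveI := Fintype.ofFinite G
  haveI := Fintype.ofFinite P43
  set F : P43 → Finset G := fun r => {w | IsConj z w ∧ Commute w z ∧ S.π w = S.j r}.toFinset with hF
  have h4 : ∀ r ∈ {r | r ∈ T ∧ P r}.toFinset, (F r).card = 4 := by
    intro r hr
    rw [Set.mem_toFinset] at hr
    obtain ⟨w, hw, hwz, hπ⟩ := hS.exists_over he.1 he.2.1 he.2.2 hr.1
    rw [hF, ← Set.ncard_eq_toFinset_card', hS.ncard_over hw hwz hr.1 hπ]
  have e : {w | IsConj z w ∧ Commute w z ∧ ∃ r ∈ T, P r ∧ S.π w = S.j r}.toFinset =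
      {r | r ∈ T ∧ P r}.toFinset.biUnion F := by
    ext w
    simp only [Set.mem_toFinset, Finset.mem_biUnion, hF, Set.mem_ofPred_eq]
    exact ⟨fun ⟨h1, h2, r, hr, hP, h⟩ => ⟨r, ⟨hr, hP⟩, h1, h2, h⟩,
      fun ⟨r, ⟨hr, hP⟩, h1, h2, h⟩ => ⟨h1, h2, r, hr, hP, h⟩⟩
  rw [Set.ncard_eq_toFinset_card', e, Finset.card_biUnion, Finset.sum_congr rfl h4, Finset.sum_const, smul_eq_mul,
    Set.ncard_eq_toFinset_card', mul_comm]
  intro r _ s _ hrs
  rw [Function.onFun, Finset.disjoint_left]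
  intro w hw hw'
  simp only [hF, Set.mem_toFinset, Set.mem_ofPred_eq] at hw hw'
  exact hrs (S.j_inj (hw.2.2.symm.trans hw'.2.2))

variable {e : G} (he : e ∈ nbr z z)
include he

theorem ncard_nbr : (nbr z z).ncard = 180 := by
  have h : nbr z z = {w | IsConj z w ∧ Commute w z ∧ ∃ r ∈ T, True ∧ S.π w = S.j r} := by
    ext w
    refine ⟨fun h => ?_, fun h => ⟨h.1, h.2.1, ?_⟩⟩
    · obtain ⟨r, hr, hπ⟩ := hS.image_mem h.1 h.2.1 h.2.2
      exact ⟨h.1, h.2.1, r, hr, trivial, hπ⟩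
    · obtain ⟨r, hr, -, hπ⟩ := h.2.2
      exact hS.ne_z_of hr hπ
  rw [h, hS.ncard_over_pred he]
  simp only [and_true, Set.ofPred_mem_eq, ncard_T]

theorem ncard_inside {d : G} (hd : d ∈ nbr z z) : {w | w ∈ nbr z d ∧ Commute w z}.ncard = 52 := by
  classical
  obtain ⟨hd1, hdz, hdne⟩ := hd
  obtain ⟨t, ht, hπ⟩ := hS.image_mem hd1 hdz hdne
  set U := {w | IsConj z w ∧ Commute w z ∧ ∃ r ∈ T, Commute t r ∧ S.π w = S.j r} with hU
  have hdU : d ∈ U := ⟨hd1, hdz, t, ht, Commute.refl t, hπ⟩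
  have hzU : z ∉ U := fun ⟨_, _, r, hr, _, h⟩ => hS.ne_z_of hr h rfl
  have h : {w | w ∈ nbr z d ∧ Commute w z} = insert z (U \ {d}) := by
    ext w
    constructor
    · rintro ⟨⟨hw, hwd, hwne⟩, hwz⟩
      by_cases hne : w = z
      · exact Or.inl hne
      obtain ⟨r, hr, hπw⟩ := hS.image_mem hw hwz hne
      exact Or.inr ⟨⟨hw, hwz, r, hr, hS.image_commute hd1 hw hdz hwz ht hr hπ hπw hwd.symm, hπw⟩, hwne⟩
    · rintro (rfl | ⟨⟨hw, hwz, r, hr, htr, hπw⟩, hwne⟩)
      · exact ⟨⟨IsConj.refl _, hdz.symm, Ne.symm hdne⟩, Commute.refl _⟩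
      · exact ⟨⟨hw, hS.commute_of_image hw hd1 hwz hdz hr ht hπw hπ htr.symm, hwne⟩, hwz⟩
  have h13 : {r | r ∈ T ∧ Commute t r} = insert t (Nb t) := by
    ext r
    constructor
    · rintro ⟨hr, hc⟩
      by_cases e : r = t
      exacts [Or.inl e, Or.inr ⟨hr, e, hc⟩]
    · rintro (rfl | ⟨hr, -, hc⟩)
      exacts [⟨ht, Commute.refl _⟩, ⟨hr, hc⟩]
  rw [h, Set.ncard_insert_of_notMem (fun h => hzU h.1) (Set.toFinite _),
    Set.ncard_sdiff (Set.singleton_subset_iff.2 hdU) (Set.toFinite _), Set.ncard_singleton, hU,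
    hS.ncard_over_pred he, h13, Set.ncard_insert_of_notMem (fun h => h.2.1 rfl) (Set.toFinite _), ncard_Nb ht]

theorem ncard_beyond {d : G} (hd : d ∈ nbr z z) : {w | w ∈ nbr z d ∧ ¬ Commute w z}.ncard = 128 := by
  have h1 := Set.ncard_inter_add_ncard_sdiff_eq_ncard (nbr z d) {w | Commute w z} (Set.toFinite _)
  have e1 : nbr z d ∩ {w | Commute w z} = {w | w ∈ nbr z d ∧ Commute w z} := rfl
  have e2 : nbr z d \ {w | Commute w z} = {w | w ∈ nbr z d ∧ ¬ Commute w z} := rfl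
  have h180 : (nbr z d).ncard = 180 := by
    obtain ⟨g, rfl⟩ := isConj_iff.1 hd.1
    rw [ncard_nbr_conj, hS.ncard_nbr he]
  rw [e1, e2, h180, hS.ncard_inside he hd] at h1
  omega

theorem ncard_back {y : G} (hy : y ∈ outer z) : {d | d ∈ nbr z z ∧ Commute d y}.ncard = 45 := by
  obtain ⟨hy1, hyz, d0, hd0, hd0z, hd0y⟩ := hy
  rw [← ncard_T]
  have him : ∀ d ∈ {d | d ∈ nbr z z ∧ Commute d y}, ∃ r ∈ T, S.π d = S.j r := fun d hd =>
    hS.image_mem hd.1.1 hd.1.2.1 hd.1.2.2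
  choose f hf1 hf2 using him
  refine Set.ncard_congr f hf1 (fun a b ha hb h => ?_) fun r hr => ?_
  · exact hS.unique_one hy1 hyz ha.1.1 hb.1.1 ha.1.2.1 hb.1.2.1 (hf1 a ha) (hf2 a ha) (h ▸ hf2 b hb) ha.2 hb.2
  · obtain ⟨w, hw, hwz, hπ, hwy⟩ := hS.exists_one hy1 hyz hd0 hd0z hd0y.symm hr
    have hm : w ∈ {d | d ∈ nbr z z ∧ Commute d y} := ⟨⟨hw, hwz, hS.ne_z_of hr hπ⟩, hwy⟩
    exact ⟨w, hm, S.j_inj ((hf2 w hm).symm.trans hπ)⟩

theorem ncard_outer : (outer z).ncard = 512 := by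
  classical
  haveI := Fintype.ofFinite G
  have h := Finset.card_mul_eq_card_mul (s := (nbr z z).toFinset) (t := (outer z).toFinset) (fun d y : G => Commute d y)
    (m := 128) (n := 45) (fun d hd => ?_) fun y hy => ?_
  · rw [← Set.ncard_eq_toFinset_card', ← Set.ncard_eq_toFinset_card', hS.ncard_nbr he] at h
    omega
  · rw [Set.mem_toFinset] at hd
    rw [← hS.ncard_beyond he hd, Set.ncard_eq_toFinset_card']
    congr 1
    ext w
    simp only [Finset.mem_bipartiteAbove, Set.mem_toFinset]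
    show w ∈ outer z ∧ Commute d w ↔ w ∈ nbr z d ∧ ¬ Commute w z
    constructor
    · rintro ⟨⟨hw, hwz, -⟩, hdw⟩
      exact ⟨⟨hw, hdw.symm, fun e => hwz (e ▸ hd.2.1)⟩, hwz⟩
    · rintro ⟨⟨hw, hwd, -⟩, hwz⟩
      exact ⟨⟨hw, hwz, d, hd.1, hd.2.1, hwd.symm⟩, hwd.symm⟩
  · rw [Set.mem_toFinset] at hy
    rw [← hS.ncard_back he hy, Set.ncard_eq_toFinset_card']
    congr 1
    ext d
    simp only [Finset.mem_bipartiteBelow, Set.mem_toFinset]
    rfl

theorem ncard_ball : (ball z).ncard = 693 := by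
  rw [ball_eq, Set.ncard_insert_of_notMem ?_ (Set.toFinite _),
    Set.ncard_union_eq ?_ (Set.toFinite _) (Set.toFinite _), hS.ncard_nbr he, hS.ncard_outer he]
  · exact Set.disjoint_left.2 fun y h h' => h'.2.1 h.2.1
  · rintro (h | h)
    exacts [h.2.2 rfl, h.2.1 (Commute.refl z)]

theorem ncard_valency : {y | y ∈ ball z ∧ y ≠ z ∧ Commute z y}.ncard = 180 := by
  rw [← hS.ncard_nbr he]
  congr 1
  ext y
  exact ⟨fun h => ⟨h.1.1, h.2.2.symm, h.2.1⟩,
    fun h => ⟨⟨h.1, y, h.1, h.2.1, Commute.refl y⟩, h.2.2, h.2.1.symm⟩⟩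

/-- The component is one class under the group it generates. -/
theorem exists_mem_conj {x : G} (hx : x ∈ ball z) : ∃ h ∈ Subgroup.closure (ball z), h * z * h⁻¹ = x := by
  have hzb : z ∈ ball z := ⟨IsConj.refl z, near_self (IsConj.refl z)⟩
  have key : ∀ a ∈ ball z, ∀ b ∈ ball z, ¬ Commute a b →
      a * b ∈ Subgroup.closure (ball z) ∧ a * b * a * (a * b)⁻¹ = b := by
    intro a ha b hb hab
    refine ⟨mul_mem (Subgroup.subset_closure ha) (Subgroup.subset_closure hb), ?_⟩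
    have h := (hS.commute_or_braid ha hb).resolve_left hab
    rw [mul_inv_rev, h, inv_eq_of_mul_eq_one_left (member_sq S ha.1),
      inv_eq_of_mul_eq_one_left (member_sq S hb.1)]
    simp only [mul_assoc, ← mul_assoc b b, member_sq S hb.1, one_mul, member_sq S ha.1, mul_one]
  by_cases hxz : Commute x z
  · by_cases hne : x = z
    · exact ⟨1, one_mem _, by rw [hne]; group⟩
    obtain ⟨y, hy, hxy⟩ : ∃ y ∈ outer z, ¬ Commute x y := by
      by_contra hno
      push Not at hno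
      have h := Set.ncard_le_ncard (s := outer z) (t := {w | w ∈ nbr z x ∧ ¬ Commute w z})
        (fun y hy => ⟨⟨hy.1, (hno y hy).symm, fun e => hy.2.1 (e ▸ hxz)⟩, hy.2.1⟩) (Set.toFinite _)
      rw [hS.ncard_outer he, hS.ncard_beyond he ⟨hx.1, hxz, hne⟩] at h
      omega
    obtain ⟨h1, e1⟩ := key z hzb y ⟨hy.1, hy.2.2⟩ fun h => hy.2.1 h.symm
    obtain ⟨h2, e2⟩ := key y ⟨hy.1, hy.2.2⟩ x hx fun h => hxy h.symm
    refine ⟨y * x * (z * y), mul_mem h2 h1, ?_⟩
    calc y * x * (z * y) * z * (y * x * (z * y))⁻¹ = y * x * (z * y * z * (z * y)⁻¹) * (y * x)⁻¹ := by group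
      _ = x := by rw [e1, e2]
  · obtain ⟨h1, e1⟩ := key z hzb x hx fun h => hxz h.symm
    exact ⟨_, h1, e1⟩

end Good

end Sit

end CfsgLib.U6Cent
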