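import Cfsg.Agent.Lib.Invol.U6Cent.Tools
import Cfsg.Agent.Lib.ThreeTrans.LargeGeneration
import Mathlib.LinearAlgebra.Dimension.Free
import Mathlib.FieldTheory.Finiteness
import Mathlib.Algebra.Module.ZMod

/-!
Owner: helper13. Building the setting.
-/

set_option autoImplicit false

namespace CfsgLib.U6Cent

open Cfsg CfsgLib.ThreeTrans

variable {G : Type*} [Group G] [Finite G] {z : G} {Q : Subgroup G}

theorem exists_setting {A : Type*} [Group A] (h : LargeData z Q) (hcard : Nat.card Q = 2 ^ 9)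
    (φ : ↥(Subgroup.centralizer ({z} : Set G)) →* A)
    (hker : ∀ c, φ c = 1 ↔ (c : G) ∈ Q)
    (hsurj : Function.Surjective φ) : Nonempty (Setting z Q A) := by
  classical
  haveI : Fact (Nat.Prime 2) := ⟨Nat.prime_two⟩
  have hcomm : ∀ a b : ↥Q ⧸ Subgroup.center ↥Q, a * b = b * a := by
    intro a b
    obtain ⟨a, rfl⟩ := QuotientGroup.mk_surjective a
    obtain ⟨b, rfl⟩ := QuotientGroup.mk_surjective b
    have e : (QuotientGroup.mk (a * b * a⁻¹ * b⁻¹) : ↥Q ⧸ Subgroup.center ↥Q) = 1 :=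
      (QuotientGroup.eq_one_iff _).2
        (by simpa [commutatorElement_def] using CfsgLib.PGroups.IsExtraspecial.comm_mem h.hE a b)
    rw [QuotientGroup.mk_mul, QuotientGroup.mk_mul, QuotientGroup.mk_mul,
      QuotientGroup.mk_inv, QuotientGroup.mk_inv, mul_inv_eq_one, mul_inv_eq_iff_eq_mul] at e
    exact e
  letI : CommGroup (↥Q ⧸ Subgroup.center ↥Q) :=
    { (inferInstance : Group (↥Q ⧸ Subgroup.center ↥Q)) with mul_comm := hcomm }
  letI : Module (ZMod 2) (Additive (↥Q ⧸ Subgroup.center ↥Q)) := AddCommGroup.zmodModule (fun x => by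
    obtain ⟨y, hy⟩ := QuotientGroup.mk_surjective (Additive.toMul x)
    apply Additive.toMul.injective
    rw [toMul_nsmul, ← hy, toMul_zero, ← QuotientGroup.mk_pow, QuotientGroup.eq_one_iff]
    exact CfsgLib.PGroups.IsExtraspecial.pow_mem_center h.hE y)
  let W := Additive (↥Q ⧸ Subgroup.center ↥Q)
  have hW : Nat.card W = 2 ^ 8 := by
    have := (Subgroup.center ↥Q).card_mul_index
    rw [h.hE.2, hcard, Subgroup.index_eq_card] at this
    show Nat.card (↥Q ⧸ Subgroup.center ↥Q) = _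
    omega
  have hfin : Module.finrank (ZMod 2) W = 8 := by
    have := Module.natCard_eq_pow_finrank (K := ZMod 2) (V := W)
    rw [hW, Nat.card_zmod] at this
    exact (Nat.pow_right_injective le_rfl this).symm
  let b : Module.Basis (Fin 8) (ZMod 2) W := Module.finBasisOfFinrankEq _ _ hfin
  let L : W ≃ₗ[ZMod 2] V := b.equivFun
  let ψ₀ : ↥Q → V := fun a => L (Additive.ofMul (QuotientGroup.mk a))
  let ψ : G → V := fun g => if hg : g ∈ Q then ψ₀ ⟨g, hg⟩ else 0
  have hval : ∀ a (ha : a ∈ Q), ψ a = L (Additive.ofMul (QuotientGroup.mk (⟨a, ha⟩ : ↥Q))) :=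
    fun a ha => dif_pos ha
  have hmul : ∀ a ∈ Q, ∀ c ∈ Q, ψ (a * c) = ψ a + ψ c := fun a ha c hc => by
    rw [hval _ (mul_mem ha hc), hval a ha, hval c hc, ← map_add, ← ofMul_mul, ← QuotientGroup.mk_mul]
    rfl
  have hsurj : ∀ v, ∃ a ∈ Q, ψ a = v := fun v => by
    obtain ⟨a, ha⟩ := QuotientGroup.mk_surjective (Additive.toMul (L.symm v))
    refine ⟨a, a.2, ?_⟩
    rw [hval _ a.2, ha]
    exact L.apply_symm_apply v
  have hzero : ∀ a ∈ Q, (ψ a = 0 ↔ a ∈ Subgroup.zpowers z) := fun a ha => by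
    have e : (⟨a, ha⟩ : ↥Q) ∈ Subgroup.center ↥Q ↔ a ∈ Subgroup.zpowers z := h.center_mem_iff ⟨a, ha⟩
    rw [hval a ha, LinearEquiv.map_eq_zero_iff, ← e, ← QuotientGroup.eq_one_iff]
    exact ofMul_eq_zero
  choose sec hsecQ hsec using hsurj
  have hclose : ∀ a ∈ Q, a = sec (ψ a) ∨ a = z * sec (ψ a) := fun a ha => by
    have h0 : ψ (a * (sec (ψ a))⁻¹) = 0 := by
      have h1 := hmul _ (mul_mem ha (inv_mem (hsecQ (ψ a)))) _ (hsecQ (ψ a))
      rw [inv_mul_cancel_right, hsec] at h1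
      exact right_eq_add.mp h1
    rcases h.eq_or ((hzero _ (mul_mem ha (inv_mem (hsecQ _)))).1 h0) with e | e
    · exact Or.inl (mul_inv_eq_one.1 e)
    · exact Or.inr (mul_inv_eq_iff_eq_mul.1 e)
  have hψz : ∀ a ∈ Q, ψ (z * a) = ψ a := fun a ha => by
    rw [hmul z h.z_mem a ha, (hzero z h.z_mem).2 (Subgroup.mem_zpowers z), zero_add]
  let π : G → A := fun g => if hg : g ∈ Subgroup.centralizer ({z} : Set G) then φ ⟨g, hg⟩ else 1
  have hπ : ∀ c (hc : Commute c z), π c = φ ⟨c, mem_centralizer_singleton_iff'.2 hc.eq⟩ := fun c hc =>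
    dif_pos (mem_centralizer_singleton_iff'.2 hc.eq)
  refine ⟨{ h := h, hcard := hcard, π := π, π_mul := ?_, π_eq_one := ?_, π_surj := ?_, ψ := ψ,
            q := fun v => if sec v * sec v = 1 then 0 else 1, act := fun c v => ψ (c * sec v * c⁻¹),
            ψ_mul := hmul, ψ_surj := fun v => ⟨sec v, hsecQ v, hsec v⟩, ψ_eq_zero := hzero, q_eq_zero := ?_,
            ψ_conj := ?_ }⟩
  · intro a c ha hc
    rw [hπ _ (ha.mul_left hc), hπ a ha, hπ c hc, ← map_mul]
    rfl
  · intro c hc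
    rw [hπ c hc, hker]
  · intro a
    obtain ⟨x, hx⟩ := hsurj a
    exact ⟨x, mem_centralizer_singleton_iff'.1 x.2, by rw [hπ _ (mem_centralizer_singleton_iff'.1 x.2)]; exact hx⟩
  · intro a ha
    have hsq : a * a = sec (ψ a) * sec (ψ a) := by
      rcases hclose a ha with e | e
      · exact congrArg (fun x => x * x) e
      · refine (congrArg (fun x => x * x) e).trans ?_
        show z * sec (ψ a) * (z * sec (ψ a)) = _
        rw [(h.commute_z (hsecQ (ψ a))).mul_mul_mul_comm, h.mul_self_z, one_mul]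
    rw [hsq]
    split_ifs with hh
    · exact iff_of_true rfl hh
    · exact iff_of_false one_ne_zero hh
  · intro c hc a ha
    show ψ (c * a * c⁻¹) = ψ (c * sec (ψ a) * c⁻¹)
    rcases hclose a ha with e | e
    · exact congrArg (fun x => ψ (c * x * c⁻¹)) e
    · refine (congrArg (fun x => ψ (c * x * c⁻¹)) e).trans ?_
      show ψ (c * (z * sec (ψ a)) * c⁻¹) = _
      rw [show c * (z * sec (ψ a)) * c⁻¹ = c * z * c⁻¹ * (c * sec (ψ a) * c⁻¹) by group, hc.eq,
        mul_inv_cancel_right, hψz _ (h.conj_mem hc (hsecQ _))]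


end CfsgLib.U6Cent
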