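import Cfsg.Agent.Lib.Invol.U6Cent.Ball

/-!
Owner: helper13. Involutions of the inner part of the centralizer of `z`: conjugates, products of two commuting
conjugates, or products of three with a conjugate distinguishing them from these.
-/

set_option autoImplicit false
set_option linter.unusedSectionVars false

namespace CfsgLib.U6Cent

open Cfsg CfsgLib.ThreeTrans CfsgLib.Recog.SpFourCent

/-- A product of two distinct commuting members of the component. -/
def BallPair {G : Type*} [Group G] (z w : G) : Prop :=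
  ∃ p ∈ ball z, ∃ q ∈ ball z, p ≠ q ∧ Commute p q ∧ w = p * q

theorem nbr_subset_ball {G : Type*} [Group G] {z x : G} (h : x ∈ nbr z z) : x ∈ ball z :=
  ⟨h.1, x, h.1, h.2.1, Commute.refl x⟩

theorem z_mem_ball {G : Type*} [Group G] {z : G} : z ∈ ball z := ⟨IsConj.refl z, near_self (IsConj.refl z)⟩

namespace Sit

variable {G : Type*} [Group G] [Finite G] {z : G} {Q : Subgroup G} {A : Type*} [Group A] {S : Sit z Q A}

namespace Good

variable (hS : S.Good)
include hS

theorem mem_nbr_of_image {w : G} (hw : IsConj z w) (hwz : Commute w z) {t : P43} (ht : t ∈ T)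
    (hπ : S.π w = S.j t) : w ∈ nbr z z := ⟨hw, hwz, hS.ne_z_of ht hπ⟩

/-- A member commuting with a pair commutes with both. -/
theorem commute_pair_split {a p q : G} (ha : a ∈ ball z) (hp : p ∈ ball z) (hq : q ∈ ball z)
    (hpq : Commute p q) (hne : p ≠ q) (h : Commute a (p * q)) : Commute a p ∧ Commute a q := by
  have hpp := member_sq S hp.1
  have hqq := member_sq S hq.1
  have e1 : p * a * p = q * a * q := by
    calc p * a * p = p * (a * (p * q)) * q := by simp only [mul_assoc, hqq, mul_one]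
      _ = p * ((p * q) * a) * q := by rw [h.eq]
      _ = q * a * q := by simp only [← mul_assoc, hpp, one_mul]
  rcases hS.commute_or_braid ha hp with hap | hap
  · refine ⟨hap, ?_⟩
    have h' := hap.mul_right h
    rwa [← mul_assoc, hpp, one_mul] at h'
  rcases hS.commute_or_braid ha hq with haq | haq
  · refine ⟨?_, haq⟩
    have h' := h.mul_right haq
    rwa [mul_assoc, hqq, mul_one] at h'
  exfalso
  rw [← hap, ← haq] at e1
  exact hne (mul_left_cancel (mul_right_cancel e1))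

/-- A commutator and its translate by `z` as products of two conjugates with one image. -/
theorem exists_partner {y : G} (hy : IsConj z y) (hyz : Commute y z) {t : P43} (ht : t ∈ T) (hπ : S.π y = S.j t)
    {q : G} (hq : q ∈ Q) (h0 : S.ψ (cm y q) ≠ 0) :
    ∃ q2 ∈ Q, z * cm y q = cm y q2 * cm y (q * q2) := by
  have hyy := member_sq S hy
  have hc := S.toSetting.cm_mem hyz hyy hq
  obtain ⟨u, hu⟩ : ∃ u, S.toSetting.B u (S.ψ (cm y q)) = 1 := by
    by_contra hno
    push Not at hno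
    refine h0 (S.toSetting.nondeg fun u => ?_)
    rw [S.toSetting.B_comm]
    exact (two_cases _).resolve_right (hno u)
  obtain ⟨q2, hq2, rfl⟩ := S.ψ_surj u
  refine ⟨q2, hq2, ?_⟩
  have hc2 := S.toSetting.cm_mem hyz hyy hq2
  have e := (S.toSetting.B_eq_one (inv_mem hq2) hc).1 (by rw [S.toSetting.ψ_inv hq2]; exact hu)
  rw [inv_inv] at e
  have h2 : cm y q2 * cm y q2 = 1 := (S.toSetting.sq_one_iff hc2).2 (by
    rw [hS.ψ_cm hy hyz hπ hq2]
    exact hS.nat.img_singular ht (S.Φ.mem_img.2 ⟨_, rfl⟩))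
  rw [cm_mul hyy, e, ← mul_assoc, h2, one_mul]

/-- The product of a conjugate with a translate of it. -/
theorem mul_translate {y : G} (hy : IsConj z y) (q : G) : y * (q⁻¹ * y * q) = cm y q := by
  rw [conj_eq_cm (member_sq S hy), ← mul_assoc, member_sq S hy, one_mul]

theorem translate_over {y : G} (hy : IsConj z y) (hyz : Commute y z) {t : P43} (hπ : S.π y = S.j t) {q : G}
    (hq : q ∈ Q) : IsConj z (q⁻¹ * y * q) ∧ Commute (q⁻¹ * y * q) z ∧ S.π (q⁻¹ * y * q) = S.j t := by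
  have hqz : Commute q z := S.h.commute_z hq
  refine ⟨member_conj' hy q, (hqz.inv_left.mul_left hyz).mul_left hqz, ?_⟩
  rw [S.π_mul _ _ (hqz.inv_left.mul_left hyz) hqz, S.π_mul _ _ hqz.inv_left hyz,
    S.toSetting.π_of_mem (inv_mem hq), S.toSetting.π_of_mem hq, one_mul, mul_one, hπ]

/-- An element of `Q` with a non-zero vector in a plane is a product of two conjugates acting as its member. -/
theorem pair_of_plane {y : G} (hy : IsConj z y) (hyz : Commute y z) {t : P43} (ht : t ∈ T) (hπ : S.π y = S.j t)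
    {k : G} (hk : k ∈ Q) (hkW : S.ψ k ∈ S.Φ.img t) (h0 : S.ψ k ≠ 0) :
    ∃ u v, (IsConj z u ∧ Commute u z ∧ S.π u = S.j t) ∧ (IsConj z v ∧ Commute v z ∧ S.π v = S.j t) ∧
      u ≠ v ∧ Commute u v ∧ k = u * v := by
  have key : ∀ u v, (IsConj z u ∧ Commute u z ∧ S.π u = S.j t) → (IsConj z v ∧ Commute v z ∧ S.π v = S.j t) →
      k = u * v → u ≠ v ∧ Commute u v := fun u v hu hv e =>
    ⟨fun h => h0 (by rw [e, h, member_sq S hv.1, S.toSetting.ψ_one]),
      hS.commute_same hu.1 hv.1 hu.2.1 hv.2.1 ht hu.2.2 hv.2.2⟩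
  obtain ⟨q, hq, rfl | rfl⟩ := hS.decomp hy hyz hπ hk hkW
  · exact ⟨y, _, ⟨hy, hyz, hπ⟩, hS.translate_over hy hyz hπ hq, (key _ _ ⟨hy, hyz, hπ⟩ (hS.translate_over hy hyz hπ hq)
      (hS.mul_translate hy q).symm).1, (key _ _ ⟨hy, hyz, hπ⟩ (hS.translate_over hy hyz hπ hq)
      (hS.mul_translate hy q).symm).2, (hS.mul_translate hy q).symm⟩
  · have hc := S.toSetting.cm_mem hyz (member_sq S hy) hq
    obtain ⟨q2, hq2, e⟩ := hS.exists_partner hy hyz ht hπ hq (fun h => h0 (by rw [S.toSetting.ψ_zmul hc, h]))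
    have h2 := hS.translate_over hy hyz hπ hq2
    have h3 := hS.translate_over hy hyz hπ (mul_mem hq hq2)
    have e' : z * cm y q = (q2⁻¹ * y * q2) * ((q * q2)⁻¹ * y * (q * q2)) := by
      rw [e, ← hS.mul_translate hy q2, ← hS.mul_translate hy (q * q2)]
      have hc2 := hS.commute_same hy h2.1 hyz h2.2.1 ht hπ h2.2.2
      generalize q2⁻¹ * y * q2 = y2 at hc2
      calc y * y2 * (y * ((q * q2)⁻¹ * y * (q * q2))) = y2 * (y * y) * ((q * q2)⁻¹ * y * (q * q2)) := by
            rw [hc2.eq]; simp only [mul_assoc]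
        _ = _ := by rw [member_sq S hy, mul_one]
    exact ⟨_, _, h2, h3, (key _ _ h2 h3 e').1, (key _ _ h2 h3 e').2, e'⟩

/-- Five conjugates commuting with `z` and a given one, `z` among them, with product one. -/
theorem exists_five {y : G} (hy : y ∈ nbr z z) :
    ∃ l : List G, l.length = 5 ∧ l.prod = 1 ∧ (∀ s ∈ l, s ∈ ball z ∧ Commute s z ∧ Commute s y) ∧
      ∀ s ∈ l, ∀ r ∈ l, Commute s r := by
  obtain ⟨t, ht, hπ⟩ := hS.image_mem hy.1 hy.2.1 hy.2.2
  obtain ⟨v, hv, hv0⟩ := Finset.exists_mem_ne (s := S.Φ.img t) (by rw [hS.nat.card_img ht]; norm_num) 0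
  obtain ⟨w, hw⟩ := S.Φ.mem_img.1 hv
  obtain ⟨q, hq, rfl⟩ := S.ψ_surj w
  rw [← hS.ψ_cm hy.1 hy.2.1 hπ hq] at hw
  obtain ⟨q2, hq2, e⟩ := hS.exists_partner hy.1 hy.2.1 ht hπ hq (hw ▸ hv0)
  have hin : ∀ s, (s = z ∨ s = y ∨ s = q⁻¹ * y * q ∨ s = q2⁻¹ * y * q2 ∨ s = (q * q2)⁻¹ * y * (q * q2)) →
      s = z ∨ (IsConj z s ∧ Commute s z ∧ S.π s = S.j t) := by
    rintro s (rfl | rfl | rfl | rfl | rfl)
    exacts [Or.inl rfl, Or.inr ⟨hy.1, hy.2.1, hπ⟩, Or.inr (hS.translate_over hy.1 hy.2.1 hπ hq),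
      Or.inr (hS.translate_over hy.1 hy.2.1 hπ hq2), Or.inr (hS.translate_over hy.1 hy.2.1 hπ (mul_mem hq hq2))]
  have hcomm : ∀ s r, (s = z ∨ (IsConj z s ∧ Commute s z ∧ S.π s = S.j t)) →
      (r = z ∨ (IsConj z r ∧ Commute r z ∧ S.π r = S.j t)) → Commute s r := by
    rintro s r (rfl | ⟨hs, hsz, hπs⟩) (rfl | ⟨hr, hrz, hπr⟩)
    exacts [Commute.refl _, hrz.symm, hsz, hS.commute_same hs hr hsz hrz ht hπs hπr]
  refine ⟨[z, y, q⁻¹ * y * q, q2⁻¹ * y * q2, (q * q2)⁻¹ * y * (q * q2)], rfl, ?_, ?_, ?_⟩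
  · have hc := hcomm y (q2⁻¹ * y * q2) (hin _ (by simp)) (hin _ (by simp))
    have hq1 := hS.mul_translate hy.1 q
    have hq3 := hS.mul_translate hy.1 (q * q2)
    have hq2' := hS.mul_translate hy.1 q2
    have hzc : z * cm y q = q2⁻¹ * y * q2 * ((q * q2)⁻¹ * y * (q * q2)) := by
      rw [e, ← hq2', ← hq3]
      generalize q2⁻¹ * y * q2 = y2 at hc
      calc y * y2 * (y * ((q * q2)⁻¹ * y * (q * q2))) = y2 * (y * y) * ((q * q2)⁻¹ * y * (q * q2)) := by
            rw [hc.eq]; simp only [mul_assoc]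
        _ = _ := by rw [member_sq S hy.1, mul_one]
    have hzz : z * cm y q * (z * cm y q) = 1 := by
      have hm := S.toSetting.cm_mem hy.2.1 (member_sq S hy.1) hq
      rw [S.toSetting.sq_one_iff (mul_mem S.h.z_mem hm), S.toSetting.ψ_zmul hm, hw]
      exact hS.nat.img_singular ht hv
    rw [List.prod_cons, List.prod_cons, List.prod_cons, List.prod_cons, List.prod_cons, List.prod_nil, mul_one,
      ← hzc, ← mul_assoc y, hq1, ← mul_assoc z, hzz]
  · intro s hs
    have h := hin s (by simpa using hs)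
    refine ⟨?_, ?_, hcomm s y h (hin y (by simp))⟩
    · rcases h with rfl | ⟨h1, h2, h3⟩
      exacts [z_mem_ball, nbr_subset_ball (hS.mem_nbr_of_image h1 h2 ht h3)]
    · exact hcomm s z h (Or.inl rfl)
  · exact fun s hs r hr => hcomm s r (hin s (by simpa using hs)) (hin r (by simpa using hr))

/-- No member times a foreign element of `Q` is a pair. -/
theorem not_pair {v k : G} (hv : IsConj z v) (hvz : Commute v z) {s : P43} (hs : s ∈ T) (hπ : S.π v = S.j s)
    (hk : k ∈ Q) (hns : S.ψ k ∉ S.Φ.img s) : ¬ BallPair z (v * k) := by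
  have hkz : Commute k z := S.h.commute_z hk
  have hvk : S.π (v * k) = S.j s := by rw [S.π_mul _ _ hvz hkz, S.toSetting.π_of_mem hk, mul_one, hπ]
  rintro ⟨p, hp, q, hq, hne, hpq, e⟩
  obtain ⟨hzp, hzq⟩ := hS.commute_pair_split z_mem_ball hp hq hpq hne (e ▸ (hvz.mul_left hkz).symm)
  have key : ∀ r ∈ ball z, Commute z r → v * k = z * r → False := fun r hr hzr h => by
    have hπr : S.π r = S.j s := by
      rw [h, S.π_mul _ _ (Commute.refl z) hzr.symm, S.toSetting.π_of_mem S.h.z_mem, one_mul] at hvk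
      exact hvk
    obtain ⟨-, hq'⟩ := hS.ψ_quot hv hr.1 hvz hzr.symm hs hπ hπr
    have hr' : r = z * (v * k) := by rw [h, ← mul_assoc, S.h.mul_self_z, one_mul]
    rw [show v * r = z * k by
      rw [hr', ← mul_assoc v z, hvz.eq, mul_assoc, ← mul_assoc v v, member_sq S hv, one_mul],
      S.toSetting.ψ_zmul hk] at hq'
    exact hns hq'
  by_cases hpz : p = z
  · exact key q hq hzq (hpz ▸ e)
  by_cases hqz : q = z
  · exact key p hp hzp (by rw [e, hpq.eq, hqz])
  obtain ⟨a, ha, ea⟩ := hS.image_mem hp.1 hzp.symm hpz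
  obtain ⟨b, hb, eb⟩ := hS.image_mem hq.1 hzq.symm hqz
  rw [e, S.π_mul _ _ hzp.symm hzq.symm, ea, eb, ← map_mul] at hvk
  have h := S.j_inj hvk
  refine mul_notMem_T ha hb (hS.image_commute hp.1 hq.1 hzp.symm hzq.symm ha hb ea eb hpq) ?_ (h ▸ hs)
  intro e'
  exact ne_one_T hs (by rw [← h, e', sq_T hb])

variable {e : G} (he : e ∈ nbr z z)
include he

/-- The involutions of the inner part. -/
theorem invol_cases {t : G} (ht2 : t * t = 1) (ht1 : t ≠ 1) (htz : Commute t z) {g : P43} (hπ : S.π t = S.j g) :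
    t ∈ ball z ∨ BallPair z t ∨ ∃ a f : G, a ∈ ball z ∧ f ∈ ball z ∧ Commute a t ∧ Commute f t ∧
      BallPair z (a * t) ∧ ¬ BallPair z (f * t) := by
  classical
  have hzb : z ∈ ball z := z_mem_ball
  have hg2 : g * g = 1 := S.j_inj (by
    rw [map_mul, ← hπ, ← S.π_mul _ _ htz htz, ht2, S.toSetting.π_one, map_one])
  by_cases hg1 : g = 1
  · have hQ : t ∈ Q := (S.π_eq_one t htz).1 (by rw [hπ, hg1, map_one])
    by_cases h0 : S.ψ t = 0
    · rcases S.h.eq_or ((S.ψ_eq_zero t hQ).1 h0) with h | h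
      exacts [absurd h ht1, Or.inl (h ▸ hzb)]
    obtain ⟨r, hr, htr⟩ := hS.nat.exists_plane (v := S.ψ t) ((S.toSetting.sq_one_iff hQ).1 ht2) h0
    obtain ⟨y, hy, hyz, hy'⟩ := hS.exists_over he.1 he.2.1 he.2.2 hr
    obtain ⟨u, v, hu, hv, hne, huv, e'⟩ := hS.pair_of_plane hy hyz hr hy' hQ htr h0
    exact Or.inr (Or.inl ⟨u, nbr_subset_ball (hS.mem_nbr_of_image hu.1 hu.2.1 hr hu.2.2), v,
      nbr_subset_ball (hS.mem_nbr_of_image hv.1 hv.2.1 hr hv.2.2), hne, huv, e'⟩)
  rcases inv_cases hg2 hg1 with hgT | ⟨a, b, ha, hb, hab, hne, rfl⟩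
  · obtain ⟨y, hy, hyz, hy'⟩ := hS.exists_over he.1 he.2.1 he.2.2 hgT
    have hyy := member_sq S hy
    have hyn := hS.mem_nbr_of_image hy hyz hgT hy'
    set k := y * t with hk
    have hte : t = y * k := by rw [hk, ← mul_assoc, hyy, one_mul]
    have hkQ : k ∈ Q := by
      rw [← S.π_eq_one _ (hyz.mul_left htz), S.π_mul _ _ hyz htz, hy', hπ, ← map_mul, sq_T hgT, map_one]
    have hconj : y * k * y⁻¹ = k⁻¹ := by
      rw [hk, mul_inv_rev, inv_eq_of_mul_eq_one_left hyy, inv_eq_of_mul_eq_one_left ht2, ← mul_assoc, hyy, one_mul]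
    have hfix : S.act y (S.ψ k) = S.ψ k := by
      rw [← S.ψ_conj y hyz k hkQ, hconj, S.toSetting.ψ_inv hkQ]
    have hky : Commute k y := hS.fix_commute hy hyz hyn.2.2 hkQ hfix
    have hyt : Commute y t := hte ▸ (Commute.refl y).mul_right hky.symm
    have hk2 : k * k = 1 := by
      rw [hk, hyt.symm.mul_mul_mul_comm, hyy, ht2, one_mul]
    by_cases h0 : S.ψ k = 0
    · rcases S.h.eq_or ((S.ψ_eq_zero k hkQ).1 h0) with h | h
      · rw [hte, h, mul_one]
        exact Or.inl (nbr_subset_ball hyn)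
      · exact Or.inr (Or.inl ⟨y, nbr_subset_ball hyn, z, hzb, hyn.2.2, hyz, by rw [hte, h]⟩)
    obtain ⟨s, hs, hks⟩ := hS.nat.exists_plane (v := S.ψ k) ((S.toSetting.sq_one_iff hkQ).1 hk2) h0
    by_cases hsg : s = g
    · subst hsg
      obtain ⟨q, hq, h | h⟩ := hS.decomp hy hyz hy' hkQ hks
      · rw [hte, h, ← conj_eq_cm hyy]
        exact Or.inl (nbr_subset_ball (hS.mem_nbr_of_image (hS.translate_over hy hyz hy' hq).1
          (hS.translate_over hy hyz hy' hq).2.1 hgT (hS.translate_over hy hyz hy' hq).2.2))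
      · have h' := hS.translate_over hy hyz hy' hq
        refine Or.inr (Or.inl ⟨z, hzb, q⁻¹ * y * q, nbr_subset_ball (hS.mem_nbr_of_image h'.1 h'.2.1 hgT h'.2.2),
          (hS.ne_z_of hgT h'.2.2).symm, h'.2.1.symm, ?_⟩)
        rw [hte, h, ← mul_assoc, hyz.eq, mul_assoc, ← conj_eq_cm hyy]
    · have hsc : Commute s g := by
        by_contra hc
        refine h0 (hS.nat.moved hs hgT hc hks ?_)
        rw [← S.act_eq hyz hy', hfix]
      obtain ⟨y', hy'1, hy'z, hy'π⟩ := hS.exists_over he.1 he.2.1 he.2.2 hs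
      obtain ⟨u, v, hu, hv, hne, huv, e'⟩ := hS.pair_of_plane hy'1 hy'z hs hy'π hkQ hks h0
      refine Or.inr (Or.inr ⟨y, z, nbr_subset_ball hyn, hzb, hyt, htz.symm,
        ⟨u, nbr_subset_ball (hS.mem_nbr_of_image hu.1 hu.2.1 hs hu.2.2), v,
          nbr_subset_ball (hS.mem_nbr_of_image hv.1 hv.2.1 hs hv.2.2), hne, huv, e'⟩, ?_⟩)
      rw [hte, ← mul_assoc, ← hyz.eq, mul_assoc]
      refine hS.not_pair hy hyz hgT hy' (mul_mem S.h.z_mem hkQ) fun h => h0 ?_
      rw [S.toSetting.ψ_zmul hkQ] at h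
      exact hS.nat.disjoint hs hgT hsg hks h
  · obtain ⟨ya, hya, hyaz, eya⟩ := hS.exists_over he.1 he.2.1 he.2.2 ha
    obtain ⟨yb, hyb, hybz, eyb⟩ := hS.exists_over he.1 he.2.1 he.2.2 hb
    have hcy := hS.commute_of_image hya hyb hyaz hybz ha hb eya eyb hab
    set w := ya * yb with hw
    have hwz : Commute w z := hyaz.mul_left hybz
    have hww : w * w = 1 := by
      rw [hw, hcy.symm.mul_mul_mul_comm, member_sq S hya, member_sq S hyb, one_mul]
    have hwπ : S.π w = S.j (a * b) := by rw [hw, S.π_mul _ _ hyaz hybz, eya, eyb, map_mul]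
    set k := w * t with hk
    have hkQ : k ∈ Q := by
      rw [← S.π_eq_one _ (hwz.mul_left htz), S.π_mul _ _ hwz htz, hwπ, hπ, ← map_mul, hg2, map_one]
    have hfix : S.Φ.R (a * b) (S.ψ k) = S.ψ k := by
      rw [← S.act_eq hwz hwπ, ← S.ψ_conj w hwz k hkQ, ← S.toSetting.ψ_inv hkQ]
      congr 1
      rw [hk, mul_inv_rev w t, ← mul_assoc w w t, hww, one_mul, inv_eq_of_mul_eq_one_left ht2]
    have hkL : S.ψ k ∈ S.Φ.img (a * b) := by
      set L := S.Φ.img (a * b) with hL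
      have hsub : L ⊆ S.toSetting.perp L := fun i hi => S.toSetting.mem_perp.2 fun m hm =>
        hS.nat.img_pair_orth ha hb hab hm hi
      have hcard := S.toSetting.card_mul_perp (S.Φ.img_sub (a * b))
      rw [← hL, show L.card = 16 from hS.nat.card_img_pair ha hb hab hne] at hcard
      rw [Finset.eq_of_subset_of_card_le hsub (by rw [show L.card = 16 from hS.nat.card_img_pair ha hb hab hne]; omega),
        S.toSetting.mem_perp]
      intro m hm
      rw [S.toSetting.B_comm]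
      exact (S.Φ.fixed_iff hg2).1 hfix m hm
    obtain ⟨x, hx, x', hx', exx⟩ := S.Φ.img_mul_subset hab hkL
    obtain ⟨va, hva⟩ := S.Φ.mem_img.1 hx
    obtain ⟨qa, hqa, rfl⟩ := S.ψ_surj va
    obtain ⟨vb, hvb⟩ := S.Φ.mem_img.1 hx'
    obtain ⟨qb, hqb, rfl⟩ := S.ψ_surj vb
    have hca := S.toSetting.cm_mem hyaz (member_sq S hya) hqa
    have hcb := S.toSetting.cm_mem hybz (member_sq S hyb) hqb
    have hψa : S.ψ (cm ya qa) = x := by rw [hS.ψ_cm hya hyaz eya hqa, hva]
    have hψb : S.ψ (cm yb qb) = x' := by rw [hS.ψ_cm hyb hybz eyb hqb, hvb]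
    have hcab : Commute (cm ya qa) yb := hS.fix_commute hyb hybz (hS.ne_z_of hb eyb) hca (by
      rw [S.act_eq hybz eyb, hψa]
      exact hS.nat.fix_of_commute ha hb hab hx)
    set u := qa⁻¹ * ya * qa with hu'
    set v := qb⁻¹ * yb * qb with hv'
    obtain ⟨hu, huz, huπ⟩ := hS.translate_over hya hyaz eya hqa
    obtain ⟨hv, hvz, hvπ⟩ := hS.translate_over hyb hybz eyb hqb
    have hub := nbr_subset_ball (hS.mem_nbr_of_image hu huz ha huπ)
    have hvb' := nbr_subset_ball (hS.mem_nbr_of_image hv hvz hb hvπ)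
    have huv : Commute u v := hS.commute_of_image hu hv huz hvz ha hb huπ hvπ hab
    have hune : u ≠ v := fun h => hne (S.j_inj (huπ.symm.trans ((congrArg S.π h).trans hvπ)))
    have hprod : w * (cm ya qa * cm yb qb) = u * v := by
      rw [hw, hu', hv', conj_eq_cm (member_sq S hya), conj_eq_cm (member_sq S hyb), mul_assoc ya,
        ← mul_assoc yb, ← hcab.eq, mul_assoc ya, mul_assoc (cm ya qa)]
    have hte : t = w * k := by rw [hk, ← mul_assoc, hww, one_mul]
    rcases (S.toSetting.ψ_eq_iff (mul_mem hca hcb) hkQ).1 (by rw [S.ψ_mul _ hca _ hcb, hψa, hψb, exx]) with h | h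
    · exact Or.inr (Or.inl ⟨u, hub, v, hvb', hune, huv, by rw [hte, h, hprod]⟩)
    · have htuv : t = z * (u * v) := by
        rw [hte, h, ← mul_assoc w z, hwz.eq, mul_assoc, hprod]
      obtain ⟨f, ⟨hf, hfz, hfπ⟩, hfu⟩ : ∃ f ∈ {f | IsConj z f ∧ Commute f z ∧ S.π f = S.j a}, f ≠ u :=
        Set.exists_ne_of_one_lt_ncard (by rw [hS.ncard_over hu huz ha huπ]; norm_num) u
      obtain ⟨hQf, hψf⟩ := hS.ψ_quot hu hf huz hfz ha huπ hfπ
      have hcuf : Commute u f := hS.commute_same hu hf huz hfz ha huπ hfπ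
      have hcfv : Commute f v := hS.commute_of_image hf hv hfz hvz ha hb hfπ hvπ hab
      refine Or.inr (Or.inr ⟨z, f, hzb, nbr_subset_ball (hS.mem_nbr_of_image hf hfz ha hfπ), htz.symm,
        htuv ▸ hfz.mul_right (hcuf.symm.mul_right hcfv), ?_, ?_⟩)
      · exact ⟨u, hub, v, hvb', hune, huv, by rw [htuv, ← mul_assoc, S.h.mul_self_z, one_mul]⟩
      have e' : f * t = v * (z * (u * f)) := by
        have hc : Commute v (z * (u * f)) := (hvz).mul_right (huv.symm.mul_right hcfv.symm)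
        rw [hc.eq, htuv, ← mul_assoc f, hfz.eq, mul_assoc z f, ← mul_assoc f u, hcuf.symm.eq, mul_assoc z]
      rw [e']
      refine hS.not_pair hv hvz hb hvπ (mul_mem S.h.z_mem hQf) fun h' => ?_
      rw [S.toSetting.ψ_zmul hQf] at h'
      exact hfu (hS.eq_or_of_ψ hu hf huz ha huπ hQf (hS.nat.disjoint ha hb hne hψf h'))

end Good

end Sit

end CfsgLib.U6Cent
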