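import Cfsg.Agent.Lib.Invol.U6Cent.Hull
import Cfsg.Agent.Lib.Invol.U6Cent.Involution
import Cfsg.Agent.Lib.Recog.FiTrans22.Exit

/-!
Owner: helper13. With inner centralizer the group of the component is the whole group.
-/

set_option autoImplicit false
set_option linter.unusedSectionVars false

namespace CfsgLib.U6Cent

open Cfsg CfsgLib.ThreeTrans CfsgLib.Recog.SpFourCent
open CfsgLib.Recog.FiTrans22 (Controlled Enclosed IsPair controlled_member)

namespace Sit

universe u

variable {G : Type u} [Group G] [Finite G] {z : G} {Q : Subgroup G} {A : Type*} [Group A] {S : Sit z Q A}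

namespace Good

variable (hS : S.Good)
include hS

/-- An involution moving `z` inside the component fixes one of its members. -/
theorem exists_fixed {e t : G} (he : e ∈ nbr z z) (ht : t ∈ hS.stab) (h2 : t * t = 1) :
    ∃ b ∈ ball z, Commute t b := by
  classical
  haveI : Fintype ↥(ball z) := Fintype.ofFinite _
  haveI : Fact (Nat.Prime 2) := ⟨Nat.prime_two⟩
  let f : ↥(ball z) → ↥(ball z) := fun x => ⟨t * x.1 * t⁻¹, hS.conj_mem_ball ht x.2⟩
  have hf : Function.Involutive f := fun x => Subtype.ext (by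
    show t * (t * x.1 * t⁻¹) * t⁻¹ = x.1
    rw [show t * (t * x.1 * t⁻¹) * t⁻¹ = (t * t) * x.1 * (t * t)⁻¹ by group, h2, one_mul, inv_one, mul_one])
  have hσ : hf.toPerm f ^ 2 ^ 1 = 1 := by
    rw [pow_one, pow_two]
    ext x
    exact congrArg Subtype.val (hf x)
  obtain ⟨a, ha⟩ := Equiv.Perm.exists_fixed_point_of_prime (p := 2) (n := 1) (by
    rw [← Nat.card_eq_fintype_card, Nat.card_coe_set_eq, hS.ncard_ball he]; decide) hσ
  exact ⟨a.1, a.2, mul_inv_eq_iff_eq_mul.1 (congrArg Subtype.val ha)⟩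

theorem mem_ball_of_stab {e x : G} (he : e ∈ nbr z z) (hx : IsConj z x) (hxS : x ∈ hS.stab) : x ∈ ball z := by
  obtain ⟨b, hb, hxb⟩ := hS.exists_fixed he hxS (member_sq S hx)
  exact ⟨hx, hS.near_trans (IsConj.refl z) hb.1 hx hb.2 ⟨b, hb.1, Commute.refl b, hxb.symm⟩⟩

theorem ballPair_iff {e w : G} (he : e ∈ nbr z z) :
    IsPair (conjugatesOf z) (hull z) w ↔ BallPair z w := by
  constructor
  · rintro ⟨p, q, hp, hpH, hq, hqH, hne, hc, rfl⟩
    exact ⟨p, hS.mem_ball_of_stab he hp (hS.hull_le_stab hpH), q, hS.mem_ball_of_stab he hq (hS.hull_le_stab hqH),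
      hne, hc, rfl⟩
  · rintro ⟨p, hp, q, hq, hne, hc, rfl⟩
    exact ⟨p, q, hp.1, Subgroup.subset_closure hp, hq.1, Subgroup.subset_closure hq, hne, hc, rfl⟩

variable (hsurj : Function.Surjective S.j) {e : G} (he : e ∈ nbr z z)
include hsurj he

theorem cent_mem {g : G} (hg : Commute g z) : g ∈ hull z := by
  obtain ⟨r, hr⟩ := hsurj (S.π g)
  exact hS.inner_mem he hg hr.symm

theorem cent_member {x g : G} (hx : x ∈ ball z) (hg : Commute g x) : g ∈ hull z := by
  obtain ⟨h, hh, rfl⟩ := hS.exists_mem_conj he hx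
  have hc : Commute (h⁻¹ * g * h) z := by
    have := (Commute.conj_iff h⁻¹).2 hg
    rwa [show h⁻¹ * (h * z * h⁻¹) * h⁻¹⁻¹ = z by group, inv_inv] at this
  rw [show g = h * (h⁻¹ * g * h) * h⁻¹ by group]
  exact mul_mem (mul_mem hh (hS.cent_mem hsurj he hc)) (inv_mem hh)

theorem controlled {x : G} (hx : x ∈ ball z) : Controlled (hull z) x := by
  refine controlled_member (D := conjugatesOf z) (fun g y hy => member_conj hy g) mem_conjugatesOf_self
    hS.z_mem_hull (fun y hy hyH => ?_)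
    (fun y hy hyH g hg => hS.cent_member hsurj he (hS.mem_ball_of_stab he hy (hS.hull_le_stab hyH)) hg)
    hx.1 (Subgroup.subset_closure hx)
  obtain ⟨h, hh, e'⟩ := hS.exists_mem_conj he (hS.mem_ball_of_stab he hy (hS.hull_le_stab hyH))
  exact ⟨h⁻¹, inv_mem hh, by rw [← e']; group⟩

/-- The centralizer of the product of `z` and a neighbour. -/
theorem pair_cent_std {y g : G} (hy : y ∈ nbr z z) (hg : Commute g (z * y)) : g ∈ hull z := by
  obtain ⟨l, hlen, hprod, hmem, hcomm⟩ := hS.exists_five hy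
  have hyb := nbr_subset_ball hy
  have hne : z ≠ y := Ne.symm hy.2.2
  let E : Subgroup G := Subgroup.closure {s | s ∈ l}
  have hElem : IsElementaryAbelian 2 E := by
    haveI hc := Subgroup.isMulCommutative_closure (k := {s | s ∈ l}) fun s hs r hr => (hcomm s hs r hr).eq
    refine ⟨hc, fun a ha => ?_⟩
    induction ha using Subgroup.closure_induction with
    | mem s hs => rw [pow_two]; exact member_sq S (hmem s hs).1.1
    | one => exact one_pow 2
    | mul x w hx hw ex ew =>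
      have hxw : Commute x w := congrArg Subtype.val (hc.is_comm.comm (⟨x, hx⟩ : E) ⟨w, hw⟩)
      rw [hxw.mul_pow, ex, ew, one_mul]
    | inv x hx ex => rw [inv_pow, ex, inv_one]
  refine Recog.FiTrans22.pair_cent (H := hull z) S.h.mul_self_z (member_sq S hy.1) S.h.z_ne_one ?_ hne hy.2.1.symm
    (hS.controlled hsurj he z_mem_ball) (hS.controlled hsurj he hyb) (fun k hk hkc => ?_) hElem
    (fun v hv => ?_) (fun B hB hidx => ?_) g hg
  · intro h
    obtain ⟨c, hc⟩ := isConj_iff.1 hy.1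
    exact S.h.z_ne_one (conj_eq_one_iff.1 (hc.trans h))
  · set a := k * z * k⁻¹ with ha
    have hab : a ∈ ball z := hS.conj_mem_ball (hS.hull_le_stab hk) z_mem_ball
    have haw : Commute a (z * y) := by
      have h := (Commute.conj_iff k).2 ((Commute.refl z).mul_right hy.2.1.symm)
      rwa [hkc.eq, mul_inv_cancel_right] at h
    obtain ⟨haz, hay⟩ := hS.commute_pair_split hab z_mem_ball hyb hy.2.1.symm hne haw
    by_cases h1 : a = z
    · exact Or.inl h1
    refine Or.inr ?_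
    by_contra h2
    set b := k * y * k⁻¹ with hb
    have hbb : b ∈ ball z := hS.conj_mem_ball (hS.hull_le_stab hk) hyb
    have hab' : a * b = z * y := by
      rw [ha, hb, conj_mul, hkc.eq, mul_inv_cancel_right]
    have hcab : Commute a b := (Commute.conj_iff k).2 hy.2.1.symm
    have hbne : a ≠ b := fun e => hne (mul_left_cancel (mul_right_cancel e))
    have hbz : Commute b z :=
      (hS.commute_pair_split z_mem_ball hab hbb hcab hbne (hab'.symm ▸ (Commute.refl z).mul_right hy.2.1.symm)).2.symm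
    by_cases hb1 : b = z
    · refine h2 ?_
      rw [hb1] at hab' hcab
      exact mul_right_cancel (hab'.trans hy.2.1.symm.eq)
    obtain ⟨ra, hra, ea⟩ := hS.image_mem hab.1 haz h1
    obtain ⟨rb, hrb, eb⟩ := hS.image_mem hbb.1 hbz hb1
    obtain ⟨t, ht, hπ⟩ := hS.image_mem hy.1 hy.2.1 hy.2.2
    have h := congrArg S.π hab'
    rw [S.π_mul _ _ haz hbz, S.π_mul _ _ (Commute.refl z) hy.2.1, ea, eb, hπ, S.toSetting.π_of_mem S.h.z_mem,
      one_mul, ← map_mul] at h
    have h' := S.j_inj h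
    refine mul_notMem_T hra hrb (hS.image_commute hab.1 hbb.1 haz hbz hra hrb ea eb hcab) ?_ (h' ▸ ht)
    intro e'
    exact ne_one_T ht (by rw [← h', e', sq_T hrb])
  · induction hv using Subgroup.closure_induction with
    | mem s hs => exact (hmem s hs).2.1.mul_right (hmem s hs).2.2
    | one => exact Commute.one_left _
    | mul x w _ _ ex ew => exact ex.mul_left ew
    | inv x _ ex => exact ex.inv_left
  · obtain ⟨s, hs, hsB⟩ := Recog.FiTrans22.exists_mem_of_odd_relation hB hidx l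
      (fun s hs => Subgroup.subset_closure hs) (by rw [hlen]; decide) hprod
    exact ⟨s, hsB, hS.controlled hsurj he (hmem s hs).1⟩

theorem pair_cent_all {w g : G} (hw : BallPair z w) (hg : Commute g w) : g ∈ hull z := by
  obtain ⟨p, hp, q, hq, hne, hpq, rfl⟩ := hw
  obtain ⟨h, hh, rfl⟩ := hS.exists_mem_conj he hp
  obtain ⟨y, rfl⟩ : ∃ y, q = h * y * h⁻¹ := ⟨h⁻¹ * q * h, by group⟩
  obtain ⟨k, rfl⟩ : ∃ k, g = h * k * h⁻¹ := ⟨h⁻¹ * g * h, by group⟩
  rw [conj_mul] at hg
  have hy : y ∈ nbr z z := ⟨(member_conj_iff h y).1 hq.1, ((Commute.conj_iff h).1 hpq).symm,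
    fun e => hne (by rw [e])⟩
  exact mul_mem (mul_mem hh (hS.pair_cent_std hsurj he hy ((Commute.conj_iff h).1 hg))) (inv_mem hh)

theorem invol_conj {t : G} (ht : t ∈ hull z) (h2 : t * t = 1) (h1 : t ≠ 1) :
    t ∈ ball z ∨ BallPair z t ∨ ∃ a f : G, a ∈ ball z ∧ f ∈ ball z ∧ Commute a t ∧ Commute f t ∧
      BallPair z (a * t) ∧ ¬ BallPair z (f * t) := by
  obtain ⟨b, hb, hc⟩ := hS.exists_fixed he (hS.hull_le_stab ht) h2
  obtain ⟨h, hh, rfl⟩ := hS.exists_mem_conj he hb
  obtain ⟨s, rfl⟩ : ∃ s, t = h * s * h⁻¹ := ⟨h⁻¹ * t * h, by group⟩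
  have hsz : Commute s z := (Commute.conj_iff h).1 hc
  have hst := hS.hull_le_stab hh
  have hball : ∀ {x}, x ∈ ball z → h * x * h⁻¹ ∈ ball z := fun hx => hS.conj_mem_ball hst hx
  have hpair : ∀ {w}, BallPair z w → BallPair z (h * w * h⁻¹) := by
    rintro w ⟨p, hp, q, hq, hne, hpq, rfl⟩
    exact ⟨_, hball hp, _, hball hq, fun e => hne (mul_left_cancel (mul_right_cancel e)),
      (Commute.conj_iff h).2 hpq, conj_mul.symm⟩
  have hback : ∀ {w}, BallPair z (h * w * h⁻¹) → BallPair z w := by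
    rintro w ⟨p, hp, q, hq, hne, hpq, e⟩
    have hp' := hS.conj_mem_ball (inv_mem hst) hp
    have hq' := hS.conj_mem_ball (inv_mem hst) hq
    refine ⟨_, hp', _, hq', fun e => hne (mul_left_cancel (mul_right_cancel e)), (Commute.conj_iff h⁻¹).2 hpq, ?_⟩
    rw [conj_mul, ← e]; group
  obtain ⟨r, hr⟩ := hsurj (S.π s)
  have hs2 : s * s = 1 := conj_eq_one_iff.1 (conj_mul.symm.trans h2)
  have hs1 : s ≠ 1 := fun e => h1 (by rw [e, mul_one, mul_inv_cancel])
  rcases hS.invol_cases he hs2 hs1 hsz hr.symm with h' | h' | ⟨a, f, ha, hf, has, hfs, hp, hnp⟩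
  · exact Or.inl (hball h')
  · exact Or.inr (Or.inl (hpair h'))
  · refine Or.inr (Or.inr ⟨_, _, hball ha, hball hf, (Commute.conj_iff h).2 has, (Commute.conj_iff h).2 hfs, ?_, ?_⟩)
    · rw [conj_mul]; exact hpair hp
    · rw [conj_mul]; exact fun h' => hnp (hback h')

theorem enclosed : Enclosed (conjugatesOf z) (hull z) z := by
  refine ⟨fun g x hx => member_conj hx g, fun x hx => member_sq S hx, fun x hx h => ?_, mem_conjugatesOf_self,
    hS.z_mem_hull, fun x hx => ?_, fun x hx hxH => ?_,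
    fun x hx hxH g hg => hS.cent_member hsurj he (hS.mem_ball_of_stab he hx (hS.hull_le_stab hxH)) hg,
    fun w hw g hg => hS.pair_cent_all hsurj he ((hS.ballPair_iff he).1 hw) hg, fun w hw hwD => ?_,
    ⟨e, he.1, he.2.2, he.2.1.symm⟩, fun t ht h2 h1 => ?_⟩
  · obtain ⟨c, hc⟩ := isConj_iff.1 (hx : IsConj z x)
    exact S.h.z_ne_one (conj_eq_one_iff.1 (hc.trans h))
  · obtain ⟨c, hc⟩ := exists_to_z (hx : IsConj z x)
    exact ⟨c, hc⟩
  · obtain ⟨h, hh, e'⟩ := hS.exists_mem_conj he (hS.mem_ball_of_stab he hx (hS.hull_le_stab hxH))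
    exact ⟨h⁻¹, inv_mem hh, by rw [← e']; group⟩
  · obtain ⟨p, hp, q, hq, hne, hpq, rfl⟩ := (hS.ballPair_iff he).1 hw
    obtain ⟨h, hh, rfl⟩ := hS.exists_mem_conj he hp
    obtain ⟨y, rfl⟩ : ∃ y, q = h * y * h⁻¹ := ⟨h⁻¹ * q * h, by group⟩
    rw [conj_mul] at hwD
    exact hS.mul_z_false ((member_conj_iff h y).1 hq.1) ((Commute.conj_iff h).1 hpq).symm
      (fun e' => hne (by rw [e'])) ((member_conj_iff h _).1 hwD)
  · rcases hS.invol_conj hsurj he ht h2 h1 with h | h | ⟨a, f, ha, hf, hat, hft, hp, hnp⟩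
    · exact Or.inl h.1
    · exact Or.inr (Or.inl ((hS.ballPair_iff he).2 h))
    · exact Or.inr (Or.inr ⟨a, f, ha.1, Subgroup.subset_closure ha, hf.1, Subgroup.subset_closure hf, hat, hft,
        (hS.ballPair_iff he).2 hp, fun h => hnp ((hS.ballPair_iff he).1 h)⟩)

/-- The group is `PSU₆(2)`. -/
theorem nonempty_equiv {K : Type*} [Field K] [Fintype K] (hK : Fintype.card K = 4) :
    Nonempty (G ≃* Cfsg.PSU 6 K 2) := by
  obtain ⟨φ⟩ := hS.nonempty_hull_equiv he hK
  exact ⟨(Subgroup.topEquiv.symm.trans (MulEquiv.subgroupCongr (hS.enclosed hsurj he).eq_top.symm)).trans φ⟩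

end Good

end Sit

end CfsgLib.U6Cent
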