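import Cfsg.Agent.Lib.Recog.SpFourCent.Count
import Cfsg.Agent.Lib.Recog.SpFourCent.Fusion

/-!
Owner: helper13. `PSp₄(3)` as a group of three-transpositions: the class of the standard central involution.
-/

set_option autoImplicit false
set_option linter.unusedSectionVars false
set_option maxRecDepth 100000

namespace CfsgLib.U6Cent

open CfsgLib.Recog.SpFourCent CfsgLib.Sporadic

instance : IsSimpleGroup P43 := CfsgLib.Classical.Symp.isSimpleGroup_psp (by norm_num) (Or.inl ⟨le_rfl, by decide⟩)

/-- The numbering of the centralizer of the standard involution by itself. -/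
theorem exists_numbering : ∃ K : Ctx P43, K.tt = tau ∧ K.Fused := by
  have hne : ∀ H : Subgroup P43, H.index ≠ 2 := by
    intro H hH
    haveI := Subgroup.normal_of_index_eq_two hH
    rcases IsSimpleGroup.eq_bot_or_eq_top_of_normal H inferInstance with rfl | rfl
    · rw [Subgroup.index_bot] at hH
      have h24 : qx 24 ≠ 1 := fun e => by
        have := qx_inj (x := 24) (y := 0) (by norm_num) (by norm_num) (e.trans qx_zero.symm)
        omega
      have h50 : qx 50 ≠ 1 := fun e => by
        have := qx_inj (x := 50) (y := 0) (by norm_num) (by norm_num) (e.trans qx_zero.symm)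
        omega
      have hne' : qx 24 ≠ qx 50 := fun e => by
        have := qx_inj (x := 24) (y := 50) (by norm_num) (by norm_num) e
        omega
      have h3 : ({1, qx 24, qx 50} : Set P43).ncard = 3 :=
        Set.ncard_eq_three.2 ⟨_, _, _, h24.symm, h50.symm, hne', rfl⟩
      have := Set.ncard_le_card ({1, qx 24, qx 50} : Set P43)
      omega
    · simp at hH
  let K : Ctx P43 := ⟨qx, fun hx hy => qx_mul hx hy, fun hx hy h => qx_inj hx hy h,
    fun {c} hc => tau_cent hc, hne⟩
  obtain ⟨K', hK', hf⟩ := K.exists_fused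
  exact ⟨K', hK', hf⟩

/-- The class of the standard involution. -/
def T : Set P43 := conjugatesOf tau

theorem mem_T_iff {K : Ctx P43} (hK : K.tt = tau) {x : P43} : x ∈ T ↔ IsConj K.tt x := by
  rw [hK]; rfl

theorem tau_mem : tau ∈ T := mem_conjugatesOf_self

theorem conj_mem_T (g : P43) {a : P43} (ha : a ∈ T) : g * a * g⁻¹ ∈ T :=
  IsConj.trans ha (isConj_iff.2 ⟨g, rfl⟩)

theorem exists_conj_T {a b : P43} (ha : a ∈ T) (hb : b ∈ T) : ∃ g, g * a * g⁻¹ = b :=
  isConj_iff.1 (IsConj.trans (IsConj.symm ha) hb)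

theorem orderOf_T {a : P43} (ha : a ∈ T) : orderOf a = 2 := by
  obtain ⟨K, hK, -⟩ := exists_numbering
  obtain ⟨g, rfl⟩ := isConj_iff.1 ha
  rw [← hK]
  exact ((MulAut.conj g).orderOf_eq K.tt).trans K.tau_order

theorem sq_T {a : P43} (ha : a ∈ T) : a * a = 1 := by
  have h := pow_orderOf_eq_one a
  rw [orderOf_T ha, pow_two] at h
  exact h

theorem inv_T {a : P43} (ha : a ∈ T) : a⁻¹ = a := inv_eq_of_mul_eq_one_left (sq_T ha)

theorem ne_one_T {a : P43} (ha : a ∈ T) : a ≠ 1 := fun e => by
  have := orderOf_T ha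
  rw [e, orderOf_one] at this
  omega

theorem ncard_T : T.ncard = 45 := by
  obtain ⟨K, hK, hf⟩ := exists_numbering
  rw [T, ← hK]
  exact hf.ncard_class

/-- The members commuting with a member. -/
def Nb (a : P43) : Set P43 := {y | y ∈ T ∧ y ≠ a ∧ Commute a y}

theorem ncard_Nb {a : P43} (ha : a ∈ T) : (Nb a).ncard = 12 := by
  obtain ⟨K, hK, hf⟩ := exists_numbering
  obtain ⟨g, rfl⟩ := isConj_iff.1 ha
  have h := hf.ncard_nb
  rw [hK] at h
  rw [← h]
  refine (Set.ncard_congr' ((MulAut.conj g).toEquiv.subtypeEquiv fun y => ?_)).symm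
  show y ∈ T ∧ y ≠ tau ∧ Commute tau y ↔
    g * y * g⁻¹ ∈ T ∧ g * y * g⁻¹ ≠ g * tau * g⁻¹ ∧ Commute (g * tau * g⁻¹) (g * y * g⁻¹)
  refine and_congr ⟨conj_mem_T g, fun h' => ?_⟩ (and_congr ?_ (Commute.conj_iff g).symm)
  · simpa [mul_assoc] using conj_mem_T g⁻¹ h'
  · rw [Ne, Ne, mul_left_inj, mul_right_inj]

theorem pow_three {a b : P43} (ha : a ∈ T) (hb : b ∈ T) (h : ¬ Commute a b) : (a * b) ^ 3 = 1 := by
  obtain ⟨K, hK, hf⟩ := exists_numbering
  rcases hf.three_transpositions a ((mem_T_iff hK).1 ha) b ((mem_T_iff hK).1 hb) with e | e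
  · refine absurd ?_ h
    show a * b = b * a
    rw [pow_two] at e
    rw [eq_inv_of_mul_eq_one_left e, mul_inv_rev, inv_T ha, inv_T hb]
  · exact e

theorem braid_T {a b : P43} (ha : a ∈ T) (hb : b ∈ T) (h : ¬ Commute a b) : a * b * a = b * a * b := by
  have e := pow_three ha hb h
  have e' : a * b * a * (b * a * b) = 1 := by rw [← e, pow_succ, pow_two]; simp only [mul_assoc]
  rw [eq_inv_of_mul_eq_one_left e']
  simp only [mul_inv_rev, inv_T ha, inv_T hb, mul_assoc]

/-- The product of two commuting members is no member. -/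
theorem mul_notMem_T {a b : P43} (ha : a ∈ T) (hb : b ∈ T) (hc : Commute a b) (hne : a ≠ b) : a * b ∉ T := by
  obtain ⟨K, hK, hf⟩ := exists_numbering
  intro hab
  obtain ⟨g, m, hm, rfl, rfl⟩ := hf.exists_pair ((mem_T_iff hK).1 ha) ((mem_T_iff hK).1 hb) hc hne
  have hm' := (lt_of_D (List.mem_cons_of_mem 24 hm)).1
  have h24 : (24 : ℕ) < 576 := by norm_num
  have hchk := times_tau_check
  simp only [Bool.and_eq_true, List.all_eq_true, List.contains_iff_mem] at hchk
  have hB := hchk.1.1 m hm
  have hmm : mul 24 m = mul m 24 := (elim_comm_tau hm').symm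
  have hU : IsConj (K.psi 74) (g * (K.tt * K.psi m) * g⁻¹) := by
    refine IsConj.trans (hf.conjU (mul 24 m) ?_) (isConj_iff.2 ⟨g, ?_⟩)
    · rw [hmm]; exact List.mem_append_right _ hB
    · rw [K.psi_mul h24 hm']
  refine hf.not_conj (IsConj.trans (IsConj.trans ((mem_T_iff hK).1 hab) ?_) hU.symm)
  exact isConj_iff.2 ⟨1, by group⟩

/-- Every involution is a member or a product of two commuting members. -/
theorem inv_cases {g : P43} (hg : g * g = 1) (hg1 : g ≠ 1) :
    g ∈ T ∨ ∃ a b, a ∈ T ∧ b ∈ T ∧ Commute a b ∧ a ≠ b ∧ g = a * b := by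
  obtain ⟨K, hK, hf⟩ := exists_numbering
  rcases hf.cover g (orderOf_eq_prime (by rw [pow_two, hg]) hg1) with h | h
  · exact Or.inl ((mem_T_iff hK).2 h)
  · refine Or.inr ?_
    obtain ⟨c, rfl⟩ := isConj_iff.1 h
    have h1 : (1 : ℕ) < 576 := by norm_num
    have h75 : (75 : ℕ) < 576 := by norm_num
    refine ⟨c * K.psi 1 * c⁻¹, c * K.psi 75 * c⁻¹, conj_mem_T c ((mem_T_iff hK).2 (hf.conjA 1 (by decide))),
      conj_mem_T c ((mem_T_iff hK).2 (hf.conjA 75 (by decide))), (Commute.conj_iff c).2 ((K.psi_commute h1 h75).2 five_pair.1),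
      fun e => absurd (K.psi_inj h1 h75 (mul_left_cancel (mul_right_cancel e))) (by norm_num), ?_⟩
    rw [show (74 : ℕ) = mul 1 75 from five_arith.2.2.1.symm, K.psi_mul h1 h75]
    group

/-- Two members commuting with both members of a commuting pair commute. -/
theorem commute_common {a b f f' : P43} (ha : a ∈ T) (hb : b ∈ T) (hc : Commute a b) (hne : a ≠ b)
    (hf : f ∈ T) (hf' : f' ∈ T) (hfa : Commute f a) (hfb : Commute f b) (hfa' : Commute f' a)
    (hfb' : Commute f' b) : Commute f f' := by
  obtain ⟨K, hK, hF⟩ := exists_numbering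
  exact hF.commute_of_pair ((mem_T_iff hK).1 ha) ((mem_T_iff hK).1 hb) hc hne ((mem_T_iff hK).1 hf) ((mem_T_iff hK).1 hf') hfa hfa' (hfa.mul_right hfb)
    (hfa'.mul_right hfb')

theorem line_check : (listA.all fun a => Nat.beq ((listA.filter fun b =>
    cm a b && Bool.not (Nat.beq a b)).length) 3 && Nat.beq ((listA.filter fun b => cm a b).foldl mul 24) 0) = true := by
  decide +kernel

/-- The members commuting with both members of a commuting pair, the pair included. -/
def Line (a b : P43) : Set P43 := {y | y ∈ T ∧ Commute a y ∧ Commute b y}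

theorem ncard_Line {a b : P43} (ha : a ∈ T) (hb : b ∈ T) (hc : Commute a b) (hne : a ≠ b) :
    (Line a b).ncard = 5 := by
  classical
  obtain ⟨K, hK, hf⟩ := exists_numbering
  obtain ⟨g, m, hm, rfl, rfl⟩ := hf.exists_pair ((mem_T_iff hK).1 ha) ((mem_T_iff hK).1 hb) hc hne
  have hm' := (lt_of_D (List.mem_cons_of_mem 24 hm)).1
  set L : List ℕ := 24 :: listA.filter fun y => cm m y with hL
  have hLm : ∀ {y}, y ∈ L → y ∈ 24 :: listA := fun {y} hy => by
    rw [hL, List.mem_cons, List.mem_filter] at hy
    rcases hy with rfl | hy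
    · exact List.mem_cons_self
    · exact List.mem_cons_of_mem _ hy.1
  have hnd : L.Nodup := by
    rw [hL, List.nodup_cons]
    exact ⟨fun h => absurd (List.mem_filter.1 h).1 (by decide), lists_nodup.1.filter _⟩
  have hlen : L.length = 5 := by
    have h := line_check
    simp only [List.all_eq_true, Bool.and_eq_true, Nat.beq_eq] at h
    have h3 := (h m hm).1
    have h4 : (listA.filter fun y => cm m y).length = 4 := by
      have hperm : ((listA.filter fun y => cm m y).filter fun y => Bool.not (Nat.beq m y)) =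
          (listA.filter fun y => cm m y).erase m := by
        rw [List.Nodup.erase_eq_filter (lists_nodup.1.filter _)]
        refine List.filter_congr fun y _ => ?_
        by_cases e : y = m
        · subst e; simp [Nat.beq_eq]
        · have e' : Nat.beq m y = false := by
            cases hb : Nat.beq m y
            · rfl
            · exact absurd (Nat.eq_of_beq_eq_true hb).symm e
          simp [e, e']
      have hmem : m ∈ listA.filter fun y => cm m y := List.mem_filter.2 ⟨hm, cm_iff.2 rfl⟩
      have := List.length_erase_of_mem hmem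
      rw [← hperm, List.filter_filter] at this
      have e2 : (listA.filter fun b => cm m b && Bool.not (Nat.beq m b)) =
          listA.filter fun y => (Bool.not (Nat.beq m y)) && cm m y :=
        List.filter_congr fun y _ => Bool.and_comm _ _
      rw [e2] at h3
      have := List.length_pos_of_mem hmem
      omega
    rw [hL, List.length_cons, h4]
  have key : Line (g * K.tt * g⁻¹) (g * K.psi m * g⁻¹) = (fun y => g * K.psi y * g⁻¹) '' ↑L.toFinset := by
    ext y
    simp only [Line, Set.mem_ofPred_eq, List.coe_toFinset, Set.mem_image]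
    constructor
    · rintro ⟨hy, h1, h2⟩
      obtain ⟨n, hn, hne'⟩ := hf.exists_D_code (d := g⁻¹ * y * g)
        ((Commute.conj_iff g).1 (by simpa [mul_assoc] using h1.symm))
        ((mem_T_iff hK).1 (by have h' := conj_mem_T g⁻¹ hy; rwa [inv_inv] at h'))
      have hy' : g * K.psi n * g⁻¹ = y := by rw [hne']; group
      refine ⟨n, ?_, hy'⟩
      rcases List.mem_cons.1 hn with rfl | hn'
      · exact List.mem_cons_self
      · refine List.mem_cons_of_mem _ (List.mem_filter.2 ⟨hn', ?_⟩)
        rw [← hy'] at h2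
        exact (K.psi_commute hm' (lt_of_D hn).1).1 ((Commute.conj_iff g).1 h2)
    · rintro ⟨n, hn, rfl⟩
      have hn' := (lt_of_D (hLm hn)).1
      refine ⟨conj_mem_T g ((mem_T_iff hK).2 (hf.D_code (hLm hn))), (Commute.conj_iff g).2 (K.comm_tt hn').symm,
        (Commute.conj_iff g).2 ((K.psi_commute hm' hn').2 ?_)⟩
      rw [hL, List.mem_cons, List.mem_filter] at hn
      rcases hn with rfl | hn
      · exact cm_iff.2 (elim_comm_tau hm')
      · exact hn.2
  rw [key, Set.ncard_image_of_injOn, Set.ncard_coe_finset, List.toFinset_card_of_nodup hnd, hlen]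
  intro x hx y hy e
  rw [List.coe_toFinset] at hx hy
  exact K.psi_inj (lt_of_D (hLm hx)).1 (lt_of_D (hLm hy)).1 (mul_left_cancel (mul_right_cancel e))

theorem syl_elem_count : (forallLt 576 fun x => Bool.not (isInv x && inSyl x) || listE.contains x ||
    Nat.blt (countLt 576 fun y => isInv y && inSyl y && cm x y) 16) = true := by decide +kernel

/-- An elementary abelian two-subgroup has order at most 16. -/
theorem elem_card_le (P : Subgroup P43) (h2 : ∀ a ∈ P, a * a = 1) : Nat.card P ≤ 16 := by
  classical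
  obtain ⟨K, -, -⟩ := exists_numbering
  haveI : Fact (Nat.Prime 2) := ⟨Nat.prime_two⟩
  have hP : IsPGroup 2 P := fun a => ⟨1, Subtype.ext (by rw [pow_one, pow_two]; exact h2 _ a.2)⟩
  obtain ⟨c, hc⟩ := K.pgroup_conj_le hP
  have hsyl : ∀ s ∈ P, ∃ x < 576, inSyl x = true ∧ K.psi x = c * s * c⁻¹ := fun s hs => hc s hs
  choose f hf1 hf2 hf3 using hsyl
  have hcomm : ∀ s ∈ P, ∀ r ∈ P, s * r = r * s := fun s hs r hr => by
    have e := h2 _ (mul_mem hs hr)
    rw [eq_inv_of_mul_eq_one_left e, mul_inv_rev, inv_eq_of_mul_eq_one_left (h2 s hs),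
      inv_eq_of_mul_eq_one_left (h2 r hr)]
  let S : Finset ℕ := Finset.univ.image fun s : P => f s.1 s.2
  have hS : S.card = Nat.card P := by
    rw [Finset.card_image_of_injective _ fun a b e => Subtype.ext ?_, Finset.card_univ, Nat.card_eq_fintype_card]
    have h := (hf3 a.1 a.2).symm.trans ((congrArg K.psi e).trans (hf3 b.1 b.2))
    exact mul_left_cancel (mul_right_cancel h)
  have hinv : ∀ (s : P43) (hs : s ∈ P), s ≠ 1 → isInv (f s hs) = true := fun s hs h1 => by
    rw [isInv_iff]
    refine ⟨fun e => h1 ?_, ?_⟩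
    · have h := hf3 s hs
      rw [e, K.psi_zero, eq_comm, conj_eq_one_iff] at h
      exact h
    · refine K.psi_inj (mul_lt (hf1 s hs) (hf1 s hs)) (by norm_num) ?_
      rw [K.psi_mul (hf1 s hs) (hf1 s hs), hf3, conj_mul, h2 s hs, mul_one, mul_inv_cancel, K.psi_zero]
  by_cases hall : ∀ (s : P43) (hs : s ∈ P), s ≠ 1 → listE.contains (f s hs) = true
  · have hsub : S ⊆ listE.toFinset := by
      intro x hx
      obtain ⟨⟨s, hs⟩, -, rfl⟩ := Finset.mem_image.1 hx
      by_cases h1 : s = 1
      · have : f s hs = 0 := K.psi_inj (hf1 s hs) (by norm_num)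
          (by rw [hf3, K.psi_zero, h1, mul_one, mul_inv_cancel])
        show f s hs ∈ listE.toFinset
        rw [this]; decide
      · exact List.mem_toFinset.2 (List.contains_iff_mem.1 (hall s hs h1))
    have := (Finset.card_le_card hsub).trans (List.toFinset_card_le _)
    rw [hS] at this
    exact this.trans (by decide)
  · push Not at hall
    obtain ⟨s, hs, h1, hout⟩ := hall
    have hchk := forallLt_elim syl_elem_count (hf1 s hs)
    rw [hinv s hs h1, hf2 s hs] at hchk
    simp only [Bool.and_self, Bool.not_true, Bool.false_or, Bool.or_eq_true] at hchk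
    have hlt := Nat.blt_eq.mp (hchk.resolve_left hout)
    rw [countLt_eq] at hlt
    have hsub : S ⊆ insert 0 ((Finset.range 576).filter fun y => (isInv y && inSyl y && cm (f s hs) y) = true) := by
      intro x hx
      obtain ⟨⟨r, hr⟩, -, rfl⟩ := Finset.mem_image.1 hx
      by_cases hr1 : r = 1
      · refine Finset.mem_insert.2 (Or.inl ?_)
        subst hr1
        exact K.psi_inj (hf1 _ hr) (by norm_num) (by rw [hf3, K.psi_zero]; simp)
      · refine Finset.mem_insert.2 (Or.inr (Finset.mem_filter.2 ⟨Finset.mem_range.2 (hf1 r hr), ?_⟩))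
        simp only [Bool.and_eq_true]
        refine ⟨⟨hinv r hr hr1, hf2 r hr⟩, (K.psi_commute (hf1 s hs) (hf1 r hr)).1 ?_⟩
        rw [hf3, hf3]
        exact (Commute.conj_iff c).2 (hcomm s hs r hr)
    have := (Finset.card_le_card hsub).trans (Finset.card_insert_le _ _)
    omega

end CfsgLib.U6Cent
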