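import Cfsg.Agent.Lib.Invol.U6Cent.Ball
import Cfsg.Agent.Lib.Recog.SympFourThreeClass.Identify
import Cfsg.Agent.Lib.Recog.UsixMult.Main

/-!
Owner: helper13. The group generated by the component: it contains the inner part of the centralizer of `z` and
is `PSU₆(2)`.
-/

set_option autoImplicit false
set_option linter.unusedSectionVars false

namespace CfsgLib.U6Cent

open Cfsg CfsgLib.ThreeTrans CfsgLib.ThreeTrans.Fischer CfsgLib.Recog.SpFourCent

universe u

/-- The members are generators. -/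
theorem closure_T : Subgroup.closure T = ⊤ := by
  have hn : (Subgroup.closure T).Normal := by
    have e : Subgroup.closure T = Subgroup.normalClosure {tau} := by
      rw [Subgroup.normalClosure, Group.conjugatesOfSet]
      simp [T]
    exact e ▸ Subgroup.normalClosure_normal
  exact (IsSimpleGroup.eq_bot_or_eq_top_of_normal _ hn).resolve_left fun h =>
    ne_one_T tau_mem (Subgroup.mem_bot.1 (h ▸ Subgroup.subset_closure tau_mem))

/-- The group generated by the component. -/
def hull {G : Type*} [Group G] (z : G) : Subgroup G := Subgroup.closure (ball z)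

/-- The member with class size 693 and valency 180. -/
theorem fam_of_693 {f : Fam} (hf : f.OK) (hv : f.tup.v = 693) (hk : f.tup.k = 180) : f = .unit 6 := by
  have hs := TupInj.shape hf
  cases f with
  | sym n => obtain ⟨-, h⟩ := hs; omega
  | sp m => obtain ⟨-, h, -⟩ := hs; omega
  | unit n =>
    have hn : 4 ≤ n := hf
    congr 1
    obtain ⟨i, rfl⟩ : ∃ i, n = i + 4 := ⟨n - 4, by omega⟩
    have h2 : isoU (2 + 4) = 693 := by decide
    rcases lt_trichotomy i 2 with h | h | h
    · have h1 : isoU (i + 4) < isoU (2 + 4) := TupInj.isoU_strict h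
      rw [hs.1] at hv; omega
    · omega
    · have h1 : isoU (2 + 4) < isoU (i + 4) := TupInj.isoU_strict h
      rw [hs.1] at hv; omega
  | oPlus m => obtain ⟨-, -, h, -⟩ := hs; omega
  | oMinus m => obtain ⟨-, -, h, -⟩ := hs; omega
  | refl N δ => obtain ⟨-, -, -, h⟩ := hs; omega
  | m22 => obtain ⟨h, -⟩ := hs; omega
  | m23 => obtain ⟨h, -⟩ := hs; omega
  | m24 => obtain ⟨h, -⟩ := hs; omega

namespace Sit

namespace Good

variable {G : Type u} [Group G] [Finite G] {z : G} {Q : Subgroup G} {A : Type*} [Group A] {S : Sit z Q A}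
variable (hS : S.Good)
include hS

theorem hull_le_stab : hull z ≤ hS.stab := (Subgroup.closure_le _).2 hS.ball_subset_stab

theorem z_mem_hull : z ∈ hull z := Subgroup.subset_closure ⟨IsConj.refl z, near_self (IsConj.refl z)⟩

theorem conj_mem_hull {g h : G} (hg : g ∈ hS.stab) (hh : h ∈ hull z) : g * h * g⁻¹ ∈ hull z := by
  have hle : hull z ≤ (hull z).comap (MulAut.conj g).toMonoidHom :=
    (Subgroup.closure_le _).2 fun x hx => Subgroup.subset_closure (hS.conj_mem_ball hg hx)
  exact hle hh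

variable {e : G} (he : e ∈ nbr z z)
include he

theorem singular_mem {k : G} (hk : k ∈ Q) (h2 : k * k = 1) : k ∈ hull z := by
  by_cases h0 : S.ψ k = 0
  · rcases S.h.eq_or ((S.ψ_eq_zero k hk).1 h0) with rfl | rfl
    exacts [one_mem _, hS.z_mem_hull]
  obtain ⟨t, ht, hkt⟩ := hS.nat.exists_plane (v := S.ψ k) ((S.toSetting.sq_one_iff hk).1 h2) h0
  obtain ⟨y, hy, hyz, hπ⟩ := hS.exists_over he.1 he.2.1 he.2.2 ht
  have hyb : ∀ q ∈ Q, cm y q ∈ hull z := fun q hq => by
    have hmem : q⁻¹ * y * q ∈ ball z := by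
      have hqz : Commute q z := S.h.commute_z hq
      exact ⟨member_conj' hy q, _, member_conj' hy q, (hqz.inv_left.mul_left hyz).mul_left hqz, Commute.refl _⟩
    have hyb' : y ∈ ball z := ⟨hy, y, hy, hyz, Commute.refl y⟩
    have h : y * (q⁻¹ * y * q) ∈ hull z :=
      mul_mem (Subgroup.subset_closure hyb') (Subgroup.subset_closure hmem)
    rwa [conj_eq_cm (member_sq S hy), ← mul_assoc, member_sq S hy, one_mul] at h
  obtain ⟨q, hq, rfl | rfl⟩ := hS.decomp hy hyz hπ hk hkt
  exacts [hyb q hq, mul_mem hS.z_mem_hull (hyb q hq)]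

theorem le_hull : Q ≤ hull z := by
  classical
  haveI := Fintype.ofFinite P43
  intro k hk
  rcases two_cases (S.q (S.ψ k)) with h | h
  · exact hS.singular_mem he hk ((S.toSetting.sq_one_iff hk).2 h)
  obtain ⟨m, hm, hm0, hB⟩ : ∃ m ∈ Q, S.q (S.ψ m) = 0 ∧ S.toSetting.B (S.ψ k) (S.ψ m) = 1 := by
    by_contra hno
    push Not at hno
    have hne : S.ψ k ≠ 0 := fun e => by rw [e, S.toSetting.q_zero] at h; exact zero_ne_one h
    have hsub : T.toFinset.biUnion (fun t => (S.Φ.img t).erase 0) ⊆ S.toSetting.perp {0, S.ψ k} := by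
      intro v hv
      obtain ⟨t, ht, hvt⟩ := Finset.mem_biUnion.1 hv
      obtain ⟨m, hm, rfl⟩ := S.ψ_surj v
      have h0 := (two_cases _).resolve_right
        (hno m hm (hS.nat.img_singular (Set.mem_toFinset.1 ht) (Finset.mem_erase.1 hvt).2))
      refine S.toSetting.mem_perp.2 fun x hx => ?_
      rcases Finset.mem_insert.1 hx with rfl | hx
      · exact S.toSetting.B_zero _
      · rw [Finset.mem_singleton.1 hx]; exact h0
    have h3 : ∀ t ∈ T.toFinset, ((S.Φ.img t).erase 0).card = 3 := fun t ht => by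
      rw [Finset.card_erase_of_mem (S.Φ.img_sub t).zero, hS.nat.card_img (Set.mem_toFinset.1 ht)]
    have := Finset.card_le_card hsub
    rw [S.card_perp_two hne, Finset.card_biUnion, Finset.sum_congr rfl h3, Finset.sum_const,
      ← Set.ncard_eq_toFinset_card', ncard_T, smul_eq_mul] at this
    · omega
    · intro s hs t ht hst
      rw [Function.onFun, Finset.disjoint_left]
      intro v hv hv'
      exact (Finset.mem_erase.1 hv).1 (hS.nat.disjoint (Set.mem_toFinset.1 hs) (Set.mem_toFinset.1 ht) hst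
        (Finset.mem_erase.1 hv).2 (Finset.mem_erase.1 hv').2)
  have h1 := hS.singular_mem he hm ((S.toSetting.sq_one_iff hm).2 hm0)
  have h2 : k * m * (k * m) = 1 := by
    rw [S.toSetting.sq_one_iff (mul_mem hk hm), S.ψ_mul _ hk _ hm, S.toSetting.q_add, h, hm0, hB]
    decide
  simpa using mul_mem (hS.singular_mem he (mul_mem hk hm) h2) (inv_mem h1)

/-- The inner part of the centralizer lies in the hull. -/
theorem inner_mem {c : G} (hc : Commute c z) {r : P43} (hπ : S.π c = S.j r) : c ∈ hull z := by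
  let M : Subgroup P43 :=
    { carrier := {r | ∃ c ∈ hull z, Commute c z ∧ S.π c = S.j r}
      one_mem' := ⟨1, one_mem _, Commute.one_left z, by rw [S.toSetting.π_one, map_one]⟩
      mul_mem' := fun ⟨a, ha, haz, ea⟩ ⟨b, hb, hbz, eb⟩ =>
        ⟨a * b, mul_mem ha hb, haz.mul_left hbz, by rw [S.π_mul _ _ haz hbz, ea, eb, map_mul]⟩
      inv_mem' := fun ⟨a, ha, haz, ea⟩ =>
        ⟨a⁻¹, inv_mem ha, haz.inv_left, by rw [S.toSetting.π_inv haz, ea, map_inv]⟩ }
  have hM : M = ⊤ := top_le_iff.1 (closure_T ▸ (Subgroup.closure_le M).2 fun t ht => by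
    obtain ⟨y, hy, hyz, hy'⟩ := hS.exists_over he.1 he.2.1 he.2.2 ht
    exact ⟨y, Subgroup.subset_closure ⟨hy, y, hy, hyz, Commute.refl y⟩, hyz, hy'⟩)
  obtain ⟨b, hb, hbz, hb'⟩ : r ∈ M := hM ▸ Subgroup.mem_top r
  have hQ := (S.toSetting.π_eq_iff hbz hc).1 (hb'.trans hπ.symm)
  simpa using mul_mem hb (hS.le_hull he hQ)

theorem minimal {K : Subgroup G} (hK : ∀ x ∈ K, Commute x z)
    (hKQ : ∀ q ∈ Q, ∀ x ∈ K, q * x * q⁻¹ ∈ K) (hne : K ≠ ⊥) : z ∈ K := by
  by_cases hcap : ∃ k ∈ K, k ∈ Q ∧ k ≠ 1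
  · obtain ⟨k, hk, hkQ, hk1⟩ := hcap
    by_cases hkz : k ∈ Subgroup.zpowers z
    · rcases S.h.eq_or hkz with h | h
      exacts [absurd h hk1, h ▸ hk]
    obtain ⟨q, hq, hqk⟩ := S.h.exists_move hkQ hkz
    have := mul_mem (hKQ q hq k hk) (inv_mem hk)
    rwa [hqk, mul_inv_cancel_right] at this
  · push Not at hcap
    refine absurd ((Subgroup.eq_bot_iff_forall K).2 fun k hk => hcap k hk ?_) hne
    refine S.toSetting.mem_of_act (hK k hk) fun v => ?_
    obtain ⟨q, hq, rfl⟩ := S.ψ_surj v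
    have hmem : k * (q * k⁻¹ * q⁻¹) ∈ K := mul_mem hk (hKQ q hq _ (inv_mem hk))
    have hQ : k * (q * k⁻¹ * q⁻¹) ∈ Q := by
      rw [show k * (q * k⁻¹ * q⁻¹) = k * q * k⁻¹ * q⁻¹ by group]
      exact mul_mem (S.h.conj_mem (hK k hk) hq) (inv_mem hq)
    have h := hcap _ hmem hQ
    rw [show k * (q * k⁻¹ * q⁻¹) = k * q * k⁻¹ * q⁻¹ by group, mul_inv_eq_one] at h
    rw [← S.ψ_conj k (hK k hk) q hq, h]

/-- The hull is `PSU₆(2)`. -/
theorem nonempty_hull_equiv {K : Type*} [Field K] [Fintype K] (hK : Fintype.card K = 4) :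
    Nonempty (↥(hull z) ≃* Cfsg.PSU 6 K 2) := by
  have hzb : z ∈ ball z := ⟨IsConj.refl z, near_self (IsConj.refl z)⟩
  have hball : ball z ⊆ hull z := Subgroup.subset_closure
  set H := hull z with hH
  let z' : H := ⟨z, hball hzb⟩
  let D : Set H := {x | (x : G) ∈ ball z}
  have htp := hS.isThreeTranspositionSet
  have hzord : orderOf z' = 2 := by rw [← Subgroup.orderOf_coe]; exact htp.1 z hzb
  have hconj : D = conjugatesOf z' := by
    ext x
    refine ⟨fun hx => ?_, fun hx => ?_⟩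
    · obtain ⟨h, hh, e'⟩ := hS.exists_mem_conj he hx
      exact isConj_iff.2 ⟨⟨h, hh⟩, Subtype.ext e'⟩
    · obtain ⟨h, rfl⟩ := isConj_iff.1 hx
      exact hS.conj_mem_ball (hS.hull_le_stab h.2) hzb
  have hgen : Subgroup.closure D = ⊤ := Subgroup.closure_preimage_eq_top _
  have hclass : IsThreeTranspositionClass D :=
    ⟨⟨fun d hd => by rw [← Subgroup.orderOf_coe]; exact htp.1 _ hd, fun d hd f hf => by
      rcases htp.2 _ hd _ hf with h | h
      exacts [Or.inl (Subtype.ext h), Or.inr (Subtype.ext h)]⟩, ⟨z', hzb, hconj⟩, hgen⟩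
  obtain ⟨b, hbD, hbne, hbz⟩ : ∃ b ∈ D, b ≠ z' ∧ Commute z' b :=
    ⟨⟨e, hball ⟨he.1, e, he.1, he.2.1, Commute.refl e⟩⟩, ⟨he.1, e, he.1, he.2.1, Commute.refl e⟩,
      fun h => he.2.2 (congrArg Subtype.val h), Subtype.ext he.2.1.symm.eq⟩
  have hzN : ∀ N : Subgroup H, N.Normal → N ≠ ⊥ → z' ∈ N := fun N hN hN1 => by
    refine Recog.SympFourThreeClass.mem_of_normal hzord (fun J hJ hJn hJ1 => ?_)
      ((Set.ext_iff.1 hconj b).1 hbD : IsConj z' b) hbne hbz hN hN1
    have hcomm : ∀ x ∈ J.map H.subtype, Commute x z := by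
      rintro - ⟨x, hx, rfl⟩
      exact congrArg Subtype.val (Subgroup.mem_centralizer_singleton_iff.1 (hJ hx))
    obtain ⟨x, hx, hxz⟩ := hS.minimal he (K := J.map H.subtype) hcomm (fun q hq => by
      rintro - ⟨x, hx, rfl⟩
      exact ⟨_, hJn ⟨q, hS.le_hull he hq⟩
        (Subgroup.mem_centralizer_singleton_iff.2 (Subtype.ext (S.h.commute_z hq))) x hx, rfl⟩)
      fun h => hJ1 ((Subgroup.map_eq_bot_iff_of_injective _ H.subtype_injective).1 h)
    exact (Subtype.ext hxz : x = z') ▸ hx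
  have htop : ∀ N : Subgroup H, N.Normal → N ≠ ⊥ → N = ⊤ := fun N hN hN1 => by
    rw [← top_le_iff, ← hgen, Subgroup.closure_le]
    intro x hx
    obtain ⟨h, rfl⟩ := isConj_iff.1 ((Set.ext_iff.1 hconj x).1 hx : IsConj z' x)
    exact hN.conj_mem z' (hzN N hN hN1) h
  obtain ⟨y, hy⟩ : (outer z).Nonempty :=
    Set.nonempty_of_ncard_ne_zero (by rw [hS.ncard_outer he]; norm_num)
  have hy' : y ∈ ball z := ⟨hy.1, hy.2.2⟩
  have hnc : ¬ Commute z' ⟨y, hball hy'⟩ := fun h => hy.2.1 (congrArg Subtype.val h.eq).symm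
  have hperf : commutator H = ⊤ := htop _ inferInstance fun h => hnc (by
    have hm := Subgroup.commutator_mem_commutator (Subgroup.mem_top z') (Subgroup.mem_top (⟨y, hball hy'⟩ : H))
    rw [← commutator_def, h, Subgroup.mem_bot] at hm
    exact commutatorElement_eq_one_iff_mul_comm.1 hm)
  have hns : ¬ Group.IsSolvable H := fun h => by
    have hz1 : (⊤ : Subgroup H) ≠ ⊥ := fun e' => by
      have : z' = 1 := Subgroup.mem_bot.1 (e' ▸ Subgroup.mem_top z')
      rw [this, orderOf_one] at hzord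
      omega
    have hlt := Group.IsSolvable.commutator_lt_of_ne_bot hz1
    rw [← commutator_def, hperf] at hlt
    exact lt_irrefl _ hlt
  have hsol : ∀ N : Subgroup H, N.Normal → Group.IsSolvable ↥N → N = ⊥ := fun N hN hNs => by
    by_contra hne
    obtain rfl := htop N hN hne
    exact hns (Group.isSolvable_of_surjective (f := (Subgroup.topEquiv : (⊤ : Subgroup H) ≃* H).toMonoidHom)
      Subgroup.topEquiv.surjective)
  have hw : ∃ a ∈ D, ∃ b' ∈ D, a ≠ b' ∧ Commute a b' := ⟨z', hzb, b, hbD, Ne.symm hbne, hbz⟩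
  have hset := RankThree.setting_of_perfect hclass hsol (by rw [hperf, ← commutator_def, hperf]) hw
  have hZ : Subgroup.center H = ⊥ := hsol _ inferInstance
    (Group.isSolvable_of_comm fun a b => Subtype.ext (Subgroup.mem_center_iff.1 b.2 a))
  obtain ⟨f, hf, htup, -, hpol⟩ := numeric polStatement fiveStatement sectionStatement pairStatement
    arithStatement tupInjStatement killStatement H D hset hZ
  have himg : H.subtype '' D = ball z := Set.ext fun x =>
    ⟨by rintro ⟨w, hw', rfl⟩; exact hw', fun hx => ⟨⟨x, hball hx⟩, hx, rfl⟩⟩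
  have hv : D.ncard = 693 := by
    rw [← hS.ncard_ball he, ← himg, Set.ncard_image_of_injective _ H.subtype_injective]
  have hk : (CoreNC.nb D z').ncard = 180 := by
    rw [← hS.ncard_valency he, ← Set.ncard_image_of_injective _ H.subtype_injective]
    congr 1
    ext x
    constructor
    · rintro ⟨w, ⟨hw', hne, hc⟩, rfl⟩
      exact ⟨hw', fun e' => hne (Subtype.ext e'), congrArg Subtype.val hc.eq⟩
    · rintro ⟨hx, hne, hc⟩
      exact ⟨⟨x, hball hx⟩, ⟨hx, fun e' => hne (congrArg Subtype.val e'), Subtype.ext hc.eq⟩, rfl⟩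
  obtain rfl := fam_of_693 hf (htup.card.symm.trans hv) ((htup.valency _ (show z' ∈ D from hzb)).symm.trans hk)
  obtain ⟨f', hf', -, hmod, htup', -⟩ := polStatement H D (hpol.1 trivial)
  obtain rfl := fam_of_693 hf' (htup'.card.symm.trans hv) ((htup'.valency _ (show z' ∈ D from hzb)).symm.trans hk)
  obtain ⟨F, hF1, hF2, hF4, ψ, -⟩ := hmod
  exact ⟨ψ.trans ((Recog.UsixMult.exists_psu_equiv hF4).some.symm.trans (Recog.UsixMult.exists_psu_equiv hK).some)⟩

end Good

end Sit

end CfsgLib.U6Cent
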