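import Cfsg.Agent.Lib.Invol.U6Cent.Rotation

/-!
Owner: helper13. A totally singular space fixed by the stabiliser of one of its vectors contains the plane of that
vector; a Sylow two-subgroup of `PSp₄(3)` has more than two commutators.
-/

set_option autoImplicit false
set_option linter.unusedSectionVars false
set_option maxRecDepth 100000

namespace CfsgLib.U6Cent

open CfsgLib.Recog.SpFourCent CfsgLib.Sporadic

/-- A commutator in codes. -/
def ccm (a b : ℕ) : ℕ := mul (mul (mul a b) (inv a)) (inv b)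

theorem syl_comm_check : ([50, 62, 70, 74, 86, 94, 1, 75].any fun a => inSyl a &&
    [50, 62, 70, 74, 86, 94, 1, 75].any fun b => inSyl b && Bool.not (Nat.beq (ccm a b) 0) &&
      [50, 62, 70, 74, 86, 94, 1, 75].any fun c => inSyl c &&
        [50, 62, 70, 74, 86, 94, 1, 75].any fun d => inSyl d && Bool.not (Nat.beq (ccm c d) 0) &&
          Bool.not (Nat.beq (ccm a b) (ccm c d))) = true := by decide +kernel

theorem sylow_commutators (P : Subgroup P43) (hP : IsPGroup 2 P) (h64 : 64 ≤ Nat.card P) (w : P43) :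
    ∃ a ∈ P, ∃ b ∈ P, a * b * a⁻¹ * b⁻¹ ≠ 1 ∧ a * b * a⁻¹ * b⁻¹ ≠ w := by
  classical
  obtain ⟨K, -, -⟩ := exists_numbering
  obtain ⟨g, hg⟩ := K.pgroup_conj_le hP
  have hmap : P.map (MulAut.conj g).toMonoidHom = K.syl := by
    refine Subgroup.eq_of_le_of_card_ge ?_ ?_
    · rintro _ ⟨s, hs, rfl⟩; exact hg s hs
    · rw [K.card_syl, Subgroup.card_map_of_injective (MulAut.conj g).injective]
      exact h64
  by_contra hcon
  push Not at hcon
  have hall : ∀ a b, a < 576 → b < 576 → inSyl a = true → inSyl b = true → Nat.beq (ccm a b) 0 = false →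
      K.psi (ccm a b) = g * w * g⁻¹ := by
    intro a b ha hb sa sb hne
    obtain ⟨a', ha', ea⟩ : K.psi a ∈ P.map (MulAut.conj g).toMonoidHom := hmap ▸ K.mem_syl ha sa
    obtain ⟨b', hb', eb⟩ : K.psi b ∈ P.map (MulAut.conj g).toMonoidHom := hmap ▸ K.mem_syl hb sb
    have hl1 := mul_lt ha hb
    have hl2 := mul_lt hl1 (inv_spec ha).1
    have e : K.psi (ccm a b) = g * (a' * b' * a'⁻¹ * b'⁻¹) * g⁻¹ := by
      rw [ccm, K.psi_mul hl2 (inv_spec hb).1, K.psi_mul hl1 (inv_spec ha).1, K.psi_mul ha hb, K.psi_inv ha,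
        K.psi_inv hb, ← ea, ← eb]
      show g * a' * g⁻¹ * (g * b' * g⁻¹) * (g * a' * g⁻¹)⁻¹ * (g * b' * g⁻¹)⁻¹ = _
      group
    rw [e, hcon a' ha' b' hb' fun e1 => ?_]
    rw [e1, mul_one, mul_inv_cancel, ← K.psi_zero] at e
    have e0 : ccm a b = 0 := K.psi_inj (mul_lt hl2 (inv_spec hb).1) (by norm_num) e
    rw [e0] at hne
    exact Bool.noConfusion hne
  have h := syl_comm_check
  simp only [List.any_eq_true, Bool.and_eq_true, Bool.not_eq_true'] at h
  obtain ⟨a, ha, sa, b, hb, ⟨sb, hab⟩, c, hc, sc, d, hd, ⟨sd, hcd⟩, hne⟩ := h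
  have hlt : ∀ x ∈ ([50, 62, 70, 74, 86, 94, 1, 75] : List ℕ), x < 576 := by decide
  have e1 := hall a b (hlt a ha) (hlt b hb) sa sb hab
  have e2 := hall c d (hlt c hc) (hlt d hd) sc sd hcd
  have hl : ∀ a b, a < 576 → b < 576 → ccm a b < 576 := fun a b ha hb =>
    mul_lt (mul_lt (mul_lt ha hb) (inv_spec ha).1) (inv_spec hb).1
  rw [← e2] at e1
  rw [K.psi_inj (hl a b (hlt a ha) (hlt b hb)) (hl c d (hlt c hc) (hlt d hd)) e1] at hne
  cases hh : Nat.beq (ccm c d) (ccm c d)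
  · simp at hh
  · rw [hh] at hne; exact Bool.noConfusion hne

theorem line_comm {a b x y : P43} (ha : a ∈ T) (hb : b ∈ T) (hc : Commute a b) (hne : a ≠ b)
    (hx : x ∈ Line a b) (hy : y ∈ Line a b) : Commute x y :=
  commute_common ha hb hc hne hx.1 hy.1 hx.2.1.symm hx.2.2.symm hy.2.1.symm hy.2.2.symm

namespace Act.Natural

variable {Φ : Act} (hN : Φ.Natural)
include hN

/-- The members fixing a non-zero vector of a plane commute with its member. -/
theorem commute_of_fix {t r : P43} (ht : t ∈ T) (hr : r ∈ T) {a : V} (ha : a ∈ Φ.img t) (ha0 : a ≠ 0)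
    (h : Φ.R r a = a) : Commute t r := by
  by_contra hc
  exact ha0 (hN.moved ht hr hc ha h)

theorem fix_of_commute {t r : P43} (ht : t ∈ T) (hr : r ∈ T) (hc : Commute t r) {a : V} (ha : a ∈ Φ.img t) :
    Φ.R r a = a :=
  (Φ.fixed_iff (sq_T hr)).2 fun _ hb => hN.orth_of_commute ht hr hc ha hb

/-- The plane inside an invariant totally singular space. -/
theorem plane_in_invariant {t : P43} (ht : t ∈ T) {x : V} (hx : x ∈ Φ.img t) (hx0 : x ≠ 0) {U : Finset V}
    (hU : IsSub U) (h8 : 8 ≤ U.card) (hxU : x ∈ U) (hiso : ∀ a ∈ U, ∀ b ∈ U, Φ.B a b = 0)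
    (hsing : ∀ a ∈ U, Φ.q a = 0)
    (hinv : ∀ r ∈ T, Commute t r → ∀ a ∈ U, Φ.R r a ∈ U) : ∃ y ∈ U, y ∈ Φ.img t ∧ y ≠ 0 ∧ y ≠ x := by
  classical
  by_contra hcon
  push Not at hcon
  have hW : ∀ y ∈ U, y ∈ Φ.img t → y = 0 ∨ y = x := fun y hy hy' => or_iff_not_imp_left.2 (hcon y hy hy')
  have hdiff : ∀ r ∈ T, Commute t r → ∀ a ∈ U, Φ.R r a + a ∈ U ∧ Φ.R r a + a ∈ Φ.img r := fun r hr hc a ha =>
    ⟨hU.add (hinv r hr hc a ha) ha, Φ.mem_img.2 ⟨a, rfl⟩⟩
  -- a vector of the plane of a neighbour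
  obtain ⟨r, hr, hrt, htr, u, huU, hur, hu0⟩ :
      ∃ r ∈ T, r ≠ t ∧ Commute t r ∧ ∃ u ∈ U, u ∈ Φ.img r ∧ u ≠ 0 := by
    obtain ⟨v, hvU, hv⟩ := Finset.exists_mem_notMem_of_card_lt_card (s := ({0, x} : Finset V)) (t := U)
      (lt_of_le_of_lt Finset.card_le_two (by omega))
    simp only [Finset.mem_insert, Finset.mem_singleton, not_or] at hv
    obtain ⟨r, hr, hvr⟩ := hN.exists_plane (hsing v hvU) hv.1
    by_cases hrt : r = t
    · subst hrt
      exact absurd (hW v hvU hvr) (by simp [hv])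
    by_cases htr : Commute t r
    · exact ⟨r, hr, hrt, htr, v, hvU, hvr, hv.1⟩
    -- a neighbour moving `v`
    obtain ⟨r', hr', hr'T, hc'⟩ : ∃ r' ∈ Nb t, r' ∈ T ∧ ¬ Commute r r' := by
      by_contra hno
      push Not at hno
      obtain ⟨r1, h1⟩ := Set.nonempty_of_ncard_ne_zero (s := Nb t) (by rw [ncard_Nb ht]; norm_num)
      obtain ⟨r2, h2, h2'⟩ : ∃ r2 ∈ Line t r1, r2 ∉ ({t, r1} : Set P43) := by
        by_contra hsub
        push Not at hsub
        have := (Set.ncard_le_ncard (show Line t r1 ⊆ {t, r1} from hsub)).trans (Set.ncard_insert_le _ _)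
        rw [ncard_Line ht h1.1 h1.2.2 (Ne.symm h1.2.1), Set.ncard_singleton] at this
        omega
      simp only [Set.mem_insert_iff, Set.mem_singleton_iff, not_or] at h2'
      have h2n : r2 ∈ Nb t := ⟨h2.1, h2'.1, h2.2.1⟩
      refine htr (commute_common h1.1 h2.1 h2.2.2 (Ne.symm h2'.2) hr ht ?_ ?_ h1.2.2 h2.2.1).symm
      · exact hno r1 h1 h1.1
      · exact hno r2 h2n h2.1
    obtain ⟨hu, hu'⟩ := hdiff r' hr'T hr'.2.2 v hvU
    refine ⟨r', hr'T, hr'.2.1, hr'.2.2, _, hu, hu', fun e => hv.1 (hN.moved hr hr'T hc' hvr (v_add_eq_zero.1 e))⟩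
  -- a second neighbour
  obtain ⟨r2, hr2, hc2⟩ : ∃ r2 ∈ Nb t, ¬ Commute r r2 := by
    by_contra hno
    push Not at hno
    have hsub : Nb t ⊆ Line t r := fun y hy => ⟨hy.1, hy.2.2, hno y hy⟩
    have := Set.ncard_le_ncard hsub
    rw [ncard_Nb ht, ncard_Line ht hr htr (Ne.symm hrt)] at this
    omega
  obtain ⟨hwU, hw⟩ := hdiff r2 hr2.1 hr2.2.2 u huU
  set w := Φ.R r2 u + u
  have hw0 : w ≠ 0 := fun e => hu0 (hN.moved hr hr2.1 hc2 hur (v_add_eq_zero.1 e))
  -- the remaining members of the line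
  set M : Finset P43 := ((Set.toFinite (Line t r)).toFinset.erase t).erase r with hMdef
  have hM : ∀ {m}, m ∈ M → m ∈ T ∧ Commute t m ∧ Commute r m ∧ m ≠ t ∧ m ≠ r ∧ ¬ Commute r2 m := fun {m} hm => by
    rw [hMdef, Finset.mem_erase, Finset.mem_erase, Set.Finite.mem_toFinset] at hm
    obtain ⟨hmr, hmt, hmT, h1, h2⟩ := hm
    refine ⟨hmT, h1, h2, hmt, hmr, fun hc => hc2 ?_⟩
    exact commute_common ht hmT h1 (Ne.symm hmt) hr hr2.1 htr.symm h2 hr2.2.2.symm hc
  have hMc : M.card = 3 := by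
    have hmt : t ∈ (Set.toFinite (Line t r)).toFinset :=
      (Set.Finite.mem_toFinset _).2 ⟨ht, Commute.refl t, htr.symm⟩
    have hmr : r ∈ (Set.toFinite (Line t r)).toFinset.erase t :=
      Finset.mem_erase.2 ⟨hrt, (Set.Finite.mem_toFinset _).2 ⟨hr, htr, Commute.refl r⟩⟩
    rw [hMdef, Finset.card_erase_of_mem hmr, Finset.card_erase_of_mem hmt, ← Set.ncard_eq_toFinset_card _,
      ncard_Line ht hr htr (Ne.symm hrt)]
  let f : P43 → V := fun m => Φ.R m w + w
  have hf : ∀ m ∈ M, f m ∈ U ∧ f m ∈ Φ.img m ∧ f m ≠ 0 := fun m hm => by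
    obtain ⟨hmT, h1, -, -, -, hc⟩ := hM hm
    exact ⟨(hdiff m hmT h1 w hwU).1, (hdiff m hmT h1 w hwU).2,
      fun e => hw0 (hN.moved hr2.1 hmT hc hw (v_add_eq_zero.1 e))⟩
  set Y : Finset V := insert 0 (insert x (insert u (M.image f))) with hY
  have hYc : Y.card = 6 := by
    rw [hY, Finset.card_insert_of_notMem, Finset.card_insert_of_notMem, Finset.card_insert_of_notMem,
      Finset.card_image_of_injOn, hMc]
    · intro m hm n hn e
      by_contra hne
      exact (hf m hm).2.2 (hN.disjoint (hM hm).1 (hM hn).1 hne (hf m hm).2.1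
        (show f m ∈ Φ.img n from e ▸ (hf n hn).2.1))
    · intro h
      obtain ⟨m, hm, e⟩ := Finset.mem_image.1 h
      exact hu0 (hN.disjoint (hM hm).1 hr (hM hm).2.2.2.2.1 (e ▸ (hf m hm).2.1) hur)
    · simp only [Finset.mem_insert, Finset.mem_image, not_or]
      refine ⟨fun e => hx0 (hN.disjoint ht hr (Ne.symm hrt) hx (e ▸ hur)), fun ⟨m, hm, e⟩ => ?_⟩
      exact hx0 (hN.disjoint ht (hM hm).1 (Ne.symm (hM hm).2.2.2.1) hx (e ▸ (hf m hm).2.1))
    · simp only [Finset.mem_insert, Finset.mem_image, not_or]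
      exact ⟨Ne.symm hx0, Ne.symm hu0, fun ⟨m, hm, e⟩ => (hf m hm).2.2 e⟩
  have hY1 : ∀ a ∈ Y, a = 0 ∨ ∃ m, m ∈ T ∧ Commute t m ∧ Commute r m ∧ a ∈ Φ.img m ∧ a ∈ U ∧ a ≠ 0 := by
    intro a ha
    simp only [hY, Finset.mem_insert, Finset.mem_image] at ha
    rcases ha with rfl | rfl | rfl | ⟨m, hm, rfl⟩
    · exact Or.inl rfl
    · exact Or.inr ⟨t, ht, Commute.refl t, htr.symm, hx, hxU, hx0⟩
    · exact Or.inr ⟨r, hr, htr, Commute.refl r, hur, huU, hu0⟩
    · exact Or.inr ⟨m, (hM hm).1, (hM hm).2.1, (hM hm).2.2.1, (hf m hm).2.1, (hf m hm).1, (hf m hm).2.2⟩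
  -- a plane of the line meets the space in one further vector
  have huniq : ∀ m ∈ T, m ≠ t → Commute t m → ∀ a b, a ∈ U → b ∈ U → a ∈ Φ.img m → b ∈ Φ.img m →
      a ≠ 0 → b ≠ 0 → a = b := by
    intro m hm hmt htm a b ha hb ham hbm ha0 hb0
    by_contra hab
    obtain ⟨n, hn, hcn⟩ : ∃ n ∈ Nb t, ¬ Commute m n := by
      by_contra hno
      push Not at hno
      have := Set.ncard_le_ncard (show Nb t ⊆ Line t m from fun y hy => ⟨hy.1, hy.2.2, hno y hy⟩)
      rw [ncard_Nb ht, ncard_Line ht hm htm (Ne.symm hmt)] at this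
      omega
    obtain ⟨-, -, -, -, hall⟩ := hN.exists_basis hm ham ha0
    have hfull : ∀ c ∈ Φ.img m, c ∈ U := by
      intro c hc
      obtain ⟨c', -, -, -, hall⟩ := hN.exists_basis hm ham ha0
      rcases hall b hbm with e | e | e | e
      · exact absurd e hb0
      · exact absurd e.symm hab
      · rcases hall c hc with rfl | rfl | rfl | rfl
        exacts [hU.zero, ha, e ▸ hb, hU.add ha (e ▸ hb)]
      · have hc' : c' ∈ U := by rw [← v_cancel a c', ← e]; exact hU.add ha hb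
        rcases hall c hc with rfl | rfl | rfl | rfl
        exacts [hU.zero, ha, hc', hU.add ha hc']
    obtain ⟨hd, hd'⟩ := hdiff n hn.1 hn.2.2 a ha
    refine ha0 (hN.moved hm hn.1 hcn ham (v_add_eq_zero.1 ?_))
    refine hN.moved hn.1 hm (fun h => hcn h.symm) hd' ((Φ.fixed_iff (sq_T hm)).2 fun c hc => hiso _ hd _ (hfull c hc))
  have hclosed : IsSub Y := by
    refine ⟨Finset.mem_insert_self _ _, fun {a b} ha hb => ?_⟩
    rcases hY1 a ha with rfl | ⟨m, hm, htm, hrm, ham, haU, ha0⟩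
    · rwa [zero_add]
    rcases hY1 b hb with rfl | ⟨n, hn, htn, hrn, hbn, hbU, hb0⟩
    · rwa [add_zero]
    by_cases hab : a + b = 0
    · rw [hab]; exact Finset.mem_insert_self _ _
    obtain ⟨s, hs, hsm⟩ := hN.exists_plane (hsing _ (hU.add haU hbU)) hab
    have hfix : ∀ k ∈ T, Commute m k → Commute n k → Commute s k := fun k hk h1 h2 =>
      hN.commute_of_fix hs hk hsm hab (by
        rw [R_add, hN.fix_of_commute hm hk h1 ham, hN.fix_of_commute hn hk h2 hbn])
    have hst := hfix t ht htm.symm htn.symm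
    have hsr := hfix r hr hrm.symm hrn.symm
    by_cases hs' : s = t
    · subst hs'
      rcases hW _ (hU.add haU hbU) hsm with e | e
      · exact absurd e hab
      · rw [e]; exact Finset.mem_insert_of_mem (Finset.mem_insert_self _ _)
    by_cases hs'' : s = r
    · subst hs''
      rw [huniq _ hr hrt htr _ u (hU.add haU hbU) huU hsm hur hab hu0, hY]
      exact Finset.mem_insert_of_mem (Finset.mem_insert_of_mem (Finset.mem_insert_self _ _))
    have hsM : s ∈ M := by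
      rw [hMdef, Finset.mem_erase, Finset.mem_erase, Set.Finite.mem_toFinset]
      exact ⟨hs'', hs', hs, hst.symm, hsr.symm⟩
    rw [huniq s hs hs' hst.symm _ (f s) (hU.add haU hbU) (hf s hsM).1 hsm (hf s hsM).2.1 hab (hf s hsM).2.2, hY]
    exact Finset.mem_insert_of_mem (Finset.mem_insert_of_mem (Finset.mem_insert_of_mem
      (Finset.mem_image_of_mem f hsM)))
  let K : AddSubgroup V :=
    { carrier := Y
      zero_mem' := hclosed.zero
      add_mem' := fun ha hb => hclosed.add ha hb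
      neg_mem' := fun {a} ha => by rw [show -a = a from neg_eq_of_add_eq_zero_left (v_add_self a)]; exact ha }
  have h := K.card_addSubgroup_dvd_card
  rw [show Nat.card K = Y.card from Nat.card_eq_finsetCard Y, hYc, Nat.card_eq_fintype_card,
    show Fintype.card V = 256 by simp [V]] at h
  omega

end Act.Natural

end CfsgLib.U6Cent
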