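import Cfsg.Agent.Lib.Invol.U6Cent.Members

/-!
Owner: helper13. Lines of commuting conjugates of `z`: five conjugates to a line, and for a conjugate outside
the centralizer of `z` one point on each line through `z` commuting with it.
-/

set_option autoImplicit false
set_option linter.unusedSectionVars false

namespace CfsgLib.U6Cent

open Cfsg CfsgLib.ThreeTrans CfsgLib.Recog.SpFourCent

/-- A member commuting with a commuting pair and a point of every line through it. -/
theorem exists_commute_line {a b s : P43} (ha : a ∈ T) (hb : b ∈ T) (hc : Commute a b) (hne : a ≠ b) (hs : s ∈ T) :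
    ∃ x ∈ Line a b, Commute s x := by
  classical
  haveI := Fintype.ofFinite P43
  by_contra hcon
  push Not at hcon
  set L : Finset P43 := (Line a b).toFinset with hL
  set O : P43 → Finset P43 := fun x => (Nb x).toFinset \ L with hO
  have hmem : ∀ {x}, x ∈ L ↔ x ∈ T ∧ Commute a x ∧ Commute b x := fun {x} => by rw [hL, Set.mem_toFinset]; rfl
  have hcl : ∀ {x y}, x ∈ L → y ∈ L → Commute x y := fun {x y} hx hy =>
    commute_common ha hb hc hne (hmem.1 hx).1 (hmem.1 hy).1 (hmem.1 hx).2.1.symm (hmem.1 hx).2.2.symm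
      (hmem.1 hy).2.1.symm (hmem.1 hy).2.2.symm
  have hcard : L.card = 5 := by rw [hL, ← Set.ncard_eq_toFinset_card', ncard_Line ha hb hc hne]
  have h8 : ∀ x ∈ L, (O x).card = 8 := fun x hx => by
    have e : L ∩ (Nb x).toFinset = L.erase x := by
      ext y
      rw [Finset.mem_inter, Finset.mem_erase, Set.mem_toFinset (s := Nb x)]
      show y ∈ L ∧ y ∈ T ∧ y ≠ x ∧ Commute x y ↔ y ≠ x ∧ y ∈ L
      exact ⟨fun h => ⟨h.2.2.1, h.1⟩, fun h => ⟨h.2, (hmem.1 h.2).1, h.1, hcl hx h.2⟩⟩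
    rw [hO, Finset.card_sdiff, e, Finset.card_erase_of_mem hx, hcard, ← Set.ncard_eq_toFinset_card',
      ncard_Nb (hmem.1 hx).1]
  have hdis : (L : Set P43).PairwiseDisjoint O := by
    intro x hx y hy hxy
    rw [Function.onFun, Finset.disjoint_left]
    intro v hvx hvy
    simp only [hO, Finset.mem_sdiff, Set.mem_toFinset] at hvx hvy
    obtain ⟨⟨hvT, -, hvx'⟩, hvL⟩ := hvx
    obtain ⟨⟨-, -, hvy'⟩, -⟩ := hvy
    have hx' := hmem.1 hx
    have hy' := hmem.1 hy
    refine hvL (hmem.2 ⟨hvT, ?_, ?_⟩)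
    · exact (commute_common hx'.1 hy'.1 (hcl hx hy) hxy hvT ha hvx'.symm hvy'.symm hx'.2.1 hy'.2.1).symm
    · exact (commute_common hx'.1 hy'.1 (hcl hx hy) hxy hvT hb hvx'.symm hvy'.symm hx'.2.2 hy'.2.2).symm
  have hsub : insert s (L ∪ L.biUnion O) ⊆ T.toFinset := by
    intro x hx
    rw [Set.mem_toFinset]
    simp only [Finset.mem_insert, Finset.mem_union, Finset.mem_biUnion, hO, Finset.mem_sdiff, Set.mem_toFinset] at hx
    rcases hx with rfl | hx | ⟨y, -, hx, -⟩
    exacts [hs, (hmem.1 hx).1, hx.1]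
  have hsL : s ∉ L ∪ L.biUnion O := by
    simp only [Finset.mem_union, Finset.mem_biUnion, hO, Finset.mem_sdiff, Set.mem_toFinset]
    rintro (h | ⟨y, hy, h, -⟩)
    · exact hcon s (hmem.1 h) (Commute.refl s)
    · exact hcon y (hmem.1 hy) h.2.2.symm
  have := Finset.card_le_card hsub
  rw [Finset.card_insert_of_notMem hsL, Finset.card_union_of_disjoint, Finset.card_biUnion hdis,
    Finset.sum_congr rfl h8, Finset.sum_const, hcard, smul_eq_mul, ← Set.ncard_eq_toFinset_card', ncard_T] at this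
  · omega
  · rw [Finset.disjoint_left]
    intro x hx hx'
    simp only [Finset.mem_biUnion, hO, Finset.mem_sdiff] at hx'
    obtain ⟨_, -, -, h⟩ := hx'
    exact h hx

/-- Two members have a common neighbour. -/
theorem exists_middle {t t' : P43} (ht : t ∈ T) (ht' : t' ∈ T) :
    ∃ x ∈ T, Commute t x ∧ Commute t' x := by
  obtain ⟨b, hb, hbt, hcb⟩ : (Nb t).Nonempty := Set.nonempty_of_ncard_ne_zero (by rw [ncard_Nb ht]; norm_num)
  obtain ⟨x, ⟨hx, hxt, -⟩, hx'⟩ := exists_commute_line ht hb hcb (Ne.symm hbt) ht'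
  exact ⟨x, hx, hxt, hx'⟩

section Coll

variable {G : Type*} [Group G] {z a b w : G}

/-- The conjugates on the line through two commuting conjugates. -/
def Coll (z a b w : G) : Prop :=
  IsConj z w ∧ Commute w a ∧ Commute w b ∧ ∀ u, IsConj z u → Commute u a → Commute u b → Commute u w

theorem Coll.symm (h : Coll z a b w) : Coll z b a w :=
  ⟨h.1, h.2.2.1, h.2.1, fun u hu h1 h2 => h.2.2.2 u hu h2 h1⟩

theorem member_conj_iff (c x : G) : IsConj z (c * x * c⁻¹) ↔ IsConj z x :=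
  ⟨fun h => h.trans (isConj_iff.2 ⟨c⁻¹, by group⟩), fun h => h.trans (isConj_iff.2 ⟨c, rfl⟩)⟩

theorem Coll.conj (c : G) (h : Coll z a b w) : Coll z (c * a * c⁻¹) (c * b * c⁻¹) (c * w * c⁻¹) := by
  refine ⟨(member_conj_iff c w).2 h.1, (Commute.conj_iff c).2 h.2.1, (Commute.conj_iff c).2 h.2.2.1, fun u hu h1 h2 => ?_⟩
  obtain ⟨v, rfl⟩ : ∃ v, u = c * v * c⁻¹ := ⟨c⁻¹ * u * c, by group⟩
  exact (Commute.conj_iff c).2 (h.2.2.2 v ((member_conj_iff c v).1 hu) ((Commute.conj_iff c).1 h1)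
    ((Commute.conj_iff c).1 h2))

theorem Coll.conj_iff (c : G) : Coll z (c * a * c⁻¹) (c * b * c⁻¹) (c * w * c⁻¹) ↔ Coll z a b w := by
  refine ⟨fun h => ?_, Coll.conj c⟩
  simpa [mul_assoc] using h.conj c⁻¹

theorem exists_to_z {y : G} (hy : IsConj z y) : ∃ c : G, c * y * c⁻¹ = z := isConj_iff.1 hy.symm

end Coll

namespace Sit

variable {G : Type*} [Group G] [Finite G] {z : G} {Q : Subgroup G} {A : Type*} [Group A] {S : Sit z Q A}

namespace Good

variable (hS : S.Good)
include hS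

/-- Commuting conjugates have commuting images. -/
theorem image_commute {y w : G} (hy : IsConj z y) (hw : IsConj z w) (hyz : Commute y z) (hwz : Commute w z)
    {t s : P43} (ht : t ∈ T) (hs : s ∈ T) (hπ : S.π y = S.j t) (hπw : S.π w = S.j s) (hyw : Commute y w) :
    Commute t s := by
  by_contra hts
  have h := hS.pow_three hy hw hyz hwz ht hs hπ hπw hts
  rw [hyw.eq, mul_assoc, member_sq S hy, mul_one, mul_assoc w, hyw.eq, ← mul_assoc, member_sq S hw, one_mul] at h
  exact hts (S.j_inj (hπw.symm.trans ((congrArg S.π h).trans hπ)) ▸ Commute.refl t)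

/-- The line through `z` and a conjugate consists of `z` and the conjugates with the same image. -/
theorem coll_iff {d w : G} (hd : IsConj z d) (hdz : Commute d z) {t : P43} (ht : t ∈ T) (hπ : S.π d = S.j t) :
    Coll z z d w ↔ w = z ∨ (IsConj z w ∧ Commute w z ∧ S.π w = S.j t) := by
  constructor
  · rintro ⟨hw, hwz, hwd, hall⟩
    by_cases hne : w = z
    · exact Or.inl hne
    obtain ⟨s, hs, hπw⟩ := hS.image_mem hw hwz hne
    refine Or.inr ⟨hw, hwz, ?_⟩
    by_cases hts : t = s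
    · rw [hts]; exact hπw
    exfalso
    have hc := hS.image_commute hd hw hdz hwz ht hs hπ hπw hwd.symm
    have hsub : insert t (Nb t) ⊆ Line t s := by
      rintro r (rfl | ⟨hr, -, htr⟩)
      · exact ⟨ht, Commute.refl _, hc.symm⟩
      obtain ⟨u, hu, huz, huπ⟩ := hS.exists_over hd hdz (hS.ne_z_of ht hπ) hr
      refine ⟨hr, htr, ?_⟩
      exact hS.image_commute hw hu hwz huz hs hr hπw huπ
        (hall u hu huz (hS.commute_of_image hu hd huz hdz hr ht huπ hπ htr.symm)).symm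
    have h := Set.ncard_le_ncard hsub (Set.toFinite _)
    rw [Set.ncard_insert_of_notMem (fun h => h.2.1 rfl) (Set.toFinite _), ncard_Nb ht, ncard_Line ht hs hc hts] at h
    omega
  · rintro (rfl | ⟨hw, hwz, hπw⟩)
    · exact ⟨IsConj.refl _, Commute.refl _, hdz.symm, fun u _ h _ => h⟩
    refine ⟨hw, hwz, hS.commute_same hw hd hwz hdz ht hπw hπ, fun u hu huz hud => ?_⟩
    by_cases hne : u = z
    · subst hne; exact hwz.symm
    obtain ⟨r, hr, hπu⟩ := hS.image_mem hu huz hne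
    exact hS.commute_of_image hu hw huz hwz hr ht hπu hπw (hS.image_commute hu hd huz hdz hr ht hπu hπ hud)

/-- A line is determined by any two of its points. -/
theorem exchange {a b c : G} (ha : IsConj z a) (hb : IsConj z b) (hab : Commute a b) (hne : a ≠ b)
    (h : Coll z a b c) (hca : c ≠ a) : Coll z a c b := by
  obtain ⟨g, hg⟩ := exists_to_z ha
  refine (Coll.conj_iff g).1 ?_
  have h' := h.conj g
  rw [hg] at h' ⊢
  have hbz : Commute (g * b * g⁻¹) z := hg ▸ (Commute.conj_iff g).2 hab.symm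
  have hbne : g * b * g⁻¹ ≠ z := fun e => hne (mul_left_cancel (mul_right_cancel (hg.trans e.symm)))
  have hcne : g * c * g⁻¹ ≠ z := fun e => hca (mul_left_cancel (mul_right_cancel (e.trans hg.symm)))
  obtain ⟨t, ht, hπ⟩ := hS.image_mem ((member_conj_iff g b).2 hb) hbz hbne
  obtain ⟨hc, hcz, hπc⟩ := ((hS.coll_iff ((member_conj_iff g b).2 hb) hbz ht hπ).1 h').resolve_left hcne
  exact (hS.coll_iff hc hcz ht hπc).2 (Or.inr ⟨(member_conj_iff g b).2 hb, hbz, hπ⟩)

/-- Five conjugates to a line. -/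
theorem ncard_coll {a b : G} (ha : IsConj z a) (hb : IsConj z b) (hab : Commute a b) (hne : a ≠ b) :
    {w | Coll z a b w}.ncard = 5 := by
  obtain ⟨g, hg⟩ := exists_to_z ha
  have hbz : Commute (g * b * g⁻¹) z := hg ▸ (Commute.conj_iff g).2 hab.symm
  have hbne : g * b * g⁻¹ ≠ z := fun e => hne (mul_left_cancel (mul_right_cancel (hg.trans e.symm)))
  obtain ⟨t, ht, hπ⟩ := hS.image_mem ((member_conj_iff g b).2 hb) hbz hbne
  have e : (fun w => g * w * g⁻¹) '' {w | Coll z a b w} =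
      insert z {w | IsConj z w ∧ Commute w z ∧ S.π w = S.j t} := by
    ext w
    rw [Set.mem_insert_iff, Set.mem_ofPred_eq, ← hS.coll_iff ((member_conj_iff g b).2 hb) hbz ht hπ, Set.mem_image]
    constructor
    · rintro ⟨v, hv, rfl⟩
      have := Coll.conj g hv
      rwa [hg] at this
    · intro h
      refine ⟨g⁻¹ * w * g, ?_, by group⟩
      show Coll z a b _
      rw [← Coll.conj_iff g, hg, show g * (g⁻¹ * w * g) * g⁻¹ = w by group]
      exact h
  have hinj : Function.Injective fun w : G => g * w * g⁻¹ := fun x y e => mul_left_cancel (mul_right_cancel e)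
  rw [← Set.ncard_image_of_injective _ hinj, e, Set.ncard_insert_of_notMem ?_ (Set.toFinite _),
    hS.ncard_over ((member_conj_iff g b).2 hb) hbz ht hπ]
  rintro ⟨-, -, h⟩
  exact hS.ne_z_of ht h rfl

/-- Conjugates with a common neighbour commute or braid. -/
theorem two_step {a x y : G} (ha : IsConj z a) (hx : IsConj z x) (hy : IsConj z y) (hxa : Commute x a)
    (hya : Commute y a) : Commute x y ∨ x * y * x = y * x * y := by
  obtain ⟨g, hg⟩ := exists_to_z ha
  have hx' := (member_conj_iff g x).2 hx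
  have hy' := (member_conj_iff g y).2 hy
  have hxz : Commute (g * x * g⁻¹) z := hg ▸ (Commute.conj_iff g).2 hxa
  have hyz : Commute (g * y * g⁻¹) z := hg ▸ (Commute.conj_iff g).2 hya
  by_cases hxne : g * x * g⁻¹ = z
  · exact Or.inl ((Commute.conj_iff g).1 (hxne.symm ▸ hyz.symm))
  by_cases hyne : g * y * g⁻¹ = z
  · exact Or.inl ((Commute.conj_iff g).1 (hyne.symm ▸ hxz))
  obtain ⟨t, ht, hπx⟩ := hS.image_mem hx' hxz hxne
  obtain ⟨s, hs, hπy⟩ := hS.image_mem hy' hyz hyne
  by_cases hts : Commute t s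
  · exact Or.inl ((Commute.conj_iff g).1 (hS.commute_of_image hx' hy' hxz hyz ht hs hπx hπy hts))
  · refine Or.inr ?_
    have h := hS.pow_three hx' hy' hxz hyz ht hs hπx hπy hts
    simpa only [conj_mul, mul_left_inj, mul_right_inj] using h

/-- One step from a line with a point commuting with `y` to a neighbouring line. -/
theorem exists_one_step {y d : G} (hy : IsConj z y) (hyz : ¬ Commute y z) (hd : IsConj z d) (hdz : Commute d z)
    {t t' : P43} (ht : t ∈ T) (ht' : t' ∈ T) (hπ : S.π d = S.j t) (hyd : Commute y d) (htt : Commute t t') :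
    ∃ w, IsConj z w ∧ Commute w z ∧ S.π w = S.j t' ∧ Commute w y := by
  by_cases hne : t' = t
  · exact ⟨d, hd, hdz, hne ▸ hπ, hyd.symm⟩
  have hdne := hS.ne_z_of ht hπ
  obtain ⟨w0, hw0, hw0z, hπ0⟩ := hS.exists_over hd hdz hdne ht'
  have hw0d := hS.commute_of_image hw0 hd hw0z hdz ht' ht hπ0 hπ htt.symm
  have hw0ne : w0 ≠ d := fun e => hne (S.j_inj (hπ0.symm.trans (e.symm ▸ hπ)))
  obtain ⟨g, hg⟩ := exists_to_z hd
  have hinj : ∀ {u v : G}, g * u * g⁻¹ = g * v * g⁻¹ → u = v := fun e => mul_left_cancel (mul_right_cancel e)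
  set z1 := g * z * g⁻¹ with hz1
  set y1 := g * y * g⁻¹ with hy1
  set w1 := g * w0 * g⁻¹ with hw1
  have mz1 : IsConj z z1 := member_conj (IsConj.refl z) g
  have my1 : IsConj z y1 := member_conj hy g
  have mw1 : IsConj z w1 := member_conj hw0 g
  have cz1 : Commute z1 z := hg ▸ (Commute.conj_iff g).2 hdz.symm
  have cy1 : Commute y1 z := hg ▸ (Commute.conj_iff g).2 hyd
  have cw1 : Commute w1 z := hg ▸ (Commute.conj_iff g).2 hw0d
  have cwz1 : Commute z1 w1 := (Commute.conj_iff g).2 hw0z.symm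
  obtain ⟨r0, hr0, π0⟩ := hS.image_mem mz1 cz1 fun e => hdne (hinj (hg.trans e.symm))
  obtain ⟨s, hs, πs⟩ := hS.image_mem my1 cy1 fun e => hyz (hinj (e.trans hg.symm) ▸ hdz)
  obtain ⟨r1, hr1, π1⟩ := hS.image_mem mw1 cw1 fun e => hw0ne (hinj (e.trans hg.symm))
  have hns : ¬ Commute s r0 := fun h =>
    hyz ((Commute.conj_iff g).1 (hS.commute_of_image my1 mz1 cy1 cz1 hs hr0 πs π0 h))
  have hr01 := hS.image_commute mz1 mw1 cz1 cw1 hr0 hr1 π0 π1 cwz1
  have hnot : ¬ Coll z z1 w1 z := fun h => by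
    have h' : Coll z z w0 d := (Coll.conj_iff g).1 (hg.symm ▸ h)
    obtain ⟨-, -, e⟩ := ((hS.coll_iff hw0 hw0z ht' hπ0).1 h').resolve_left hdne
    exact hne (S.j_inj (e.symm.trans hπ))
  have hr01ne : r0 ≠ r1 := fun e => by
    have h : Coll z z z1 w1 := (hS.coll_iff mz1 cz1 hr0 π0).2 (Or.inr ⟨mw1, cw1, e ▸ π1⟩)
    refine hnot (hS.exchange mz1 (IsConj.refl z) cz1 (fun e => hdne (hinj (hg.trans e.symm))) h.symm ?_)
    exact fun e => hS.ne_z_of ht' hπ0 (hinj e)
  have hL : ∀ u ∈ {u | Coll z z1 w1 u}, ∃ x ∈ Line r0 r1, S.π u = S.j x := by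
    intro u hu
    obtain ⟨hu1, huz1, huw1, hall⟩ := hu
    have huz : Commute u z := (hall z (IsConj.refl z) cz1.symm cw1.symm).symm
    have hune : u ≠ z := fun e => hnot ((congrArg (Coll z z1 w1) e).mp ⟨hu1, huz1, huw1, hall⟩)
    obtain ⟨x, hx, πx⟩ := hS.image_mem hu1 huz hune
    exact ⟨x, ⟨hx, (hS.image_commute hu1 mz1 huz cz1 hx hr0 πx π0 huz1).symm,
      (hS.image_commute hu1 mw1 huz cw1 hx hr1 πx π1 huw1).symm⟩, πx⟩
  choose f hf1 hf2 using hL
  obtain ⟨x, hxL, hsx⟩ := exists_commute_line hr0 hr1 hr01 hr01ne hs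
  have hinjf : ∀ u v, ∀ (hu : u ∈ {u | Coll z z1 w1 u}) (hv : v ∈ {u | Coll z z1 w1 u}), f u hu = f v hv → u = v := by
    intro u v hu hv e
    by_contra huv
    obtain ⟨hu1, -, -, hallu⟩ := id hu
    obtain ⟨hv1, -, -, hallv⟩ := id hv
    have huz : Commute u z := (hallu z (IsConj.refl z) cz1.symm cw1.symm).symm
    have hvz : Commute v z := (hallv z (IsConj.refl z) cz1.symm cw1.symm).symm
    have huT := (hf1 u hu).1
    have h : Coll z z u v :=
      (hS.coll_iff hu1 huz huT (hf2 u hu)).2 (Or.inr ⟨hv1, hvz, e ▸ hf2 v hv⟩)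
    have h' := hS.exchange hu1 (IsConj.refl z) huz (hS.ne_z_of huT (hf2 u hu)) h.symm (Ne.symm huv)
    exact hnot ⟨IsConj.refl z, cz1.symm, cw1.symm, fun p hp h1 h2 =>
      h'.2.2.2 p hp (hallu p hp h1 h2) (hallv p hp h1 h2)⟩
  obtain ⟨u, hu, hux⟩ := Set.surj_on_of_inj_on_of_ncard_le f hf1 hinjf
    (by rw [ncard_Line hr0 hr1 hr01 hr01ne, hS.ncard_coll mz1 mw1 cwz1
      fun e => hS.ne_z_of ht' hπ0 (hinj e).symm]) (Set.toFinite _) x hxL
  have hu' := hu
  obtain ⟨hu1, huz1, huw1, hall⟩ := hu'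
  have huz : Commute u z := (hall z (IsConj.refl z) cz1.symm cw1.symm).symm
  have hyu := hS.commute_of_image my1 hu1 cy1 huz hs hxL.1 πs (hux ▸ hf2 u hu) hsx
  obtain ⟨w, rfl⟩ : ∃ w, u = g * w * g⁻¹ := ⟨g⁻¹ * u * g, by group⟩
  have hw : Coll z z w0 w := (Coll.conj_iff g).1 hu
  rcases (hS.coll_iff hw0 hw0z ht' hπ0).1 hw with rfl | ⟨hw1, hwz, hπw⟩
  · exact absurd ((Commute.conj_iff g).1 hyu) hyz
  · exact ⟨w, hw1, hwz, hπw, ((Commute.conj_iff g).1 hyu).symm⟩

/-- Every line through `z` has a point commuting with a conjugate outside, when one has. -/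
theorem exists_one {y d : G} (hy : IsConj z y) (hyz : ¬ Commute y z) (hd : IsConj z d) (hdz : Commute d z)
    (hyd : Commute y d) {r : P43} (hr : r ∈ T) :
    ∃ w, IsConj z w ∧ Commute w z ∧ S.π w = S.j r ∧ Commute w y := by
  obtain ⟨t, ht, hπ⟩ := hS.image_mem hd hdz fun e => hyz (e ▸ hyd)
  obtain ⟨x, hx, htx, hrx⟩ := exists_middle ht hr
  obtain ⟨d', hd', hd'z, hπ', hd'y⟩ := hS.exists_one_step hy hyz hd hdz ht hx hπ hyd htx
  exact hS.exists_one_step hy hyz hd' hd'z hx hr hπ' hd'y.symm hrx.symm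

/-- Only one point of a line through `z` commutes with a conjugate outside. -/
theorem unique_one {y w w' : G} (hy : IsConj z y) (hyz : ¬ Commute y z) (hw : IsConj z w) (hw' : IsConj z w')
    (hwz : Commute w z) (hw'z : Commute w' z) {r : P43} (hr : r ∈ T) (hπ : S.π w = S.j r) (hπ' : S.π w' = S.j r)
    (hwy : Commute w y) (hw'y : Commute w' y) : w = w' := by
  by_contra hne
  have h : Coll z z w w' := (hS.coll_iff hw hwz hr hπ).2 (Or.inr ⟨hw', hw'z, hπ'⟩)
  have h' := hS.exchange hw (IsConj.refl z) hwz (hS.ne_z_of hr hπ) h.symm (Ne.symm hne)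
  exact hyz (h'.2.2.2 y hy hwy.symm hw'y.symm)

end Good

end Sit

end CfsgLib.U6Cent
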