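import Cfsg.Agent.Lib.Invol.U6Cent.Sit

/-!
Owner: helper13. A conjugate of `z` in `Q` and `z` lie in each other's normal two-subgroup; with `PSp₄(3)` as the
whole image and the natural pattern there is no such conjugate but `z`.
-/

set_option autoImplicit false
set_option linter.unusedSectionVars false

namespace CfsgLib.U6Cent

open Cfsg CfsgLib.ThreeTrans CfsgLib.Recog.SpFourCent

namespace Sit

variable {G : Type*} [Group G] [Finite G] {z : G} {Q : Subgroup G} {A : Type*} [Group A] (S : Sit z Q A)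
include S

theorem conj_mul_self (g : G) : g * z * g⁻¹ * (g * z * g⁻¹) = 1 := by
  rw [conj_mul, S.h.mul_self_z, mul_one, mul_inv_cancel]

theorem conj_notMem_zpowers {g : G} (hne : g * z * g⁻¹ ≠ z) : g * z * g⁻¹ ∉ Subgroup.zpowers z := fun h => by
  rcases S.h.eq_or h with e | e
  · exact S.h.z_ne_one (conj_eq_one_iff.1 e)
  · exact hne e

theorem card_cq_conj {g : G} (hQ : g * z * g⁻¹ ∈ Q) (hne : g * z * g⁻¹ ≠ z) :
    Nat.card (S.toSetting.cq (g * z * g⁻¹)) = 256 := by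
  have hne0 : S.ψ (g * z * g⁻¹) ≠ 0 :=
    S.ψ_ne_zero hQ (fun e => S.h.z_ne_one (conj_eq_one_iff.1 e)) hne
  have e : S.toSetting.cq (g * z * g⁻¹) =
      S.toSetting.pre (S.toSetting.perp {0, S.ψ (g * z * g⁻¹)}) (S.toSetting.perp_sub _) := by
    ext a
    rw [Setting.mem_cq, Setting.mem_pre]
    refine and_congr_right fun ha => ?_
    rw [Setting.mem_perp]
    simp only [Finset.mem_insert, Finset.mem_singleton, forall_eq_or_imp, forall_eq,
      S.toSetting.B_zero, true_and]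
    rw [S.toSetting.sq_mul_sq hQ ha]
    exact ⟨Commute.symm, Commute.symm⟩
  rw [e, Setting.card_pre, S.card_perp_two hne0]

theorem card_range_comap (H : Subgroup A) : Nat.card H ≤ 2 * Nat.card (H.comap S.j) := by
  have h1 : Nat.card (H.comap S.j) = Nat.card (H ⊓ S.j.range : Subgroup A) := by
    rw [← Subgroup.card_map_of_injective S.j_inj, Subgroup.map_comap_eq, inf_comm]
  rw [h1]
  haveI : Finite A := Finite.of_surjective (fun c : {c : G // Commute c z} => S.π c.1)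
    fun a => let ⟨c, hc, e⟩ := S.π_surj a; ⟨⟨c, hc⟩, e⟩
  refine card_le_two_mul inf_le_left fun a ha b hb => ?_
  by_cases h1 : a ∈ S.j.range
  · exact Or.inl ⟨ha, h1⟩
  by_cases h2 : b ∈ S.j.range
  · exact Or.inr (Or.inl ⟨hb, h2⟩)
  exact Or.inr (Or.inr ⟨H.mul_mem (H.inv_mem ha) hb, S.j_two _ _ (fun h => h1 (by simpa using (S.j.range).inv_mem h)) h2⟩)

/-- `z` lies in the normal two-subgroup of the centralizer of a conjugate in `Q`. -/
theorem z_mem_conjQ {g : G} (hQ : g * z * g⁻¹ ∈ Q) (hne : g * z * g⁻¹ ≠ z) : z ∈ S.conjQ g := by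
  by_contra hz
  set x := g * z * g⁻¹ with hx
  set P := S.toSetting.cq x with hP
  have hPc : ∀ a ∈ P, Commute a x := fun a ha => (S.toSetting.mem_cq.1 ha).2
  set f := S.μHom g P hPc with hf
  have hxz : Commute z x := (S.h.commute_z hQ).symm
  have hzP : z ∈ P := S.toSetting.mem_cq.2 ⟨S.h.z_mem, hxz⟩
  have hxQ' : x ∈ S.conjQ g := by
    rw [S.mem_conjQ, hx, show g⁻¹ * (g * z * g⁻¹) * g = z by group]; exact S.h.z_mem
  have hkcases : ∀ k ∈ P, k ∈ S.conjQ g → k = 1 ∨ k = x := by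
    intro k hk hkQ'
    have hkQ := (S.toSetting.mem_cq.1 hk).1
    have hcomm : ∀ a ∈ P, Commute a k := by
      intro a ha
      rcases S.h.conj_eq_or (S.toSetting.mem_cq.1 ha).1 hkQ with e | e
      · exact mul_inv_eq_iff_eq_mul.1 e
      · exfalso
        apply hz
        have h1 := mul_mem (S.conjQ_norm (hPc a ha) hkQ') (inv_mem hkQ')
        rwa [e, mul_inv_cancel_right] at h1
    have hψ : S.ψ k = 0 ∨ S.ψ k = S.ψ x := by
      by_contra hcon
      push Not at hcon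
      obtain ⟨u, h1, h2⟩ := S.exists_separate hcon.1 (fun e => hcon.2 e.symm) (a := S.ψ x)
      obtain ⟨a, ha, rfl⟩ := S.ψ_surj u
      have haP : a ∈ P := S.toSetting.mem_cq.2 ⟨ha, (S.toSetting.sq_mul_sq ha hQ).1 h1⟩
      rw [(S.toSetting.sq_mul_sq ha hkQ).2 (hcomm a haP)] at h2
      exact zero_ne_one h2
    rcases (S.ψ_cases hQ hkQ).1 hψ with (e | e) | (e | e)
    · exact Or.inl e
    · exact absurd (e ▸ hkQ') hz
    · exact Or.inr e
    · refine absurd ?_ hz
      have h1 := mul_mem (e ▸ hkQ') (inv_mem hxQ')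
      rwa [mul_inv_cancel_right] at h1
  have hker : Nat.card f.ker ≤ 2 := by
    classical
    refine le_trans (Nat.card_le_card_of_injective (fun k : f.ker => decide ((k : ↥P) = (1 : ↥P))) ?_) (by simp)
    intro a b e
    simp only [decide_eq_decide] at e
    rcases hkcases _ a.1.2 (S.mem_ker_μHom.1 a.2) with ha | ha <;>
      rcases hkcases _ b.1.2 (S.mem_ker_μHom.1 b.2) with hb | hb
    · exact Subtype.ext (Subtype.ext (ha.trans hb.symm))
    · have h1 : ((a : ↥P) : ↥P) = 1 := Subtype.ext ha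
      exact absurd (congrArg Subtype.val (e.1 h1) : ((b : ↥P) : G) = 1)
        (fun h => S.h.z_ne_one (conj_eq_one_iff.1 (hx ▸ (hb ▸ h : x = 1))))
    · have h1 : ((b : ↥P) : ↥P) = 1 := Subtype.ext hb
      exact absurd (congrArg Subtype.val (e.2 h1) : ((a : ↥P) : G) = 1)
        (fun h => S.h.z_ne_one (conj_eq_one_iff.1 (hx ▸ (ha ▸ h : x = 1))))
    · exact Subtype.ext (Subtype.ext (ha.trans hb.symm))
  have hrange : 128 ≤ Nat.card f.range := by
    have h := f.ker.card_eq_card_quotient_mul_card_subgroup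
    rw [Nat.card_congr (QuotientGroup.quotientKerEquivRange f).toEquiv, S.card_cq_conj hQ hne] at h
    nlinarith
  have h64 : 64 ≤ Nat.card (f.range.comap S.j) := by
    have := S.card_range_comap f.range
    omega
  haveI : Fact (Nat.Prime 2) := ⟨Nat.prime_two⟩
  have hQ2 : IsPGroup 2 Q := IsPGroup.of_card S.hcard
  have hR : IsPGroup 2 (f.range.comap S.j) := by
    intro a
    obtain ⟨b, hb⟩ : ∃ b, f b = S.j a := a.2
    obtain ⟨k, hk⟩ := hQ2 ⟨(b : G), (S.toSetting.mem_cq.1 b.2).1⟩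
    refine ⟨k, Subtype.ext (S.j_inj ?_)⟩
    have hb' : b ^ 2 ^ k = 1 := Subtype.ext (by simpa using congrArg Subtype.val hk)
    rw [SubmonoidClass.coe_pow, map_pow, ← hb, ← map_pow, hb', map_one, OneMemClass.coe_one, map_one]
  obtain ⟨w, hw⟩ : ∃ w, ∀ a ∈ f.range.comap S.j, ∀ b ∈ f.range.comap S.j,
      a * b * a⁻¹ * b⁻¹ = 1 ∨ a * b * a⁻¹ * b⁻¹ = w := by
    classical
    refine ⟨if hw : ∃ w, S.j w = f ⟨z, hzP⟩ then hw.choose else 1, fun a ha b hb => ?_⟩
    obtain ⟨a', ha'⟩ : ∃ a', f a' = S.j a := ha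
    obtain ⟨b', hb'⟩ : ∃ b', f b' = S.j b := hb
    have e : S.j (a * b * a⁻¹ * b⁻¹) = f (a' * b' * a'⁻¹ * b'⁻¹) := by
      simp only [map_mul, map_inv, ha', hb']
    rcases S.h.conj_eq_or (S.toSetting.mem_cq.1 a'.2).1 (S.toSetting.mem_cq.1 b'.2).1 with c | c
    · left
      apply S.j_inj
      rw [map_one, e, show a' * b' * a'⁻¹ * b'⁻¹ = 1 from Subtype.ext (by
        show (a' : G) * b' * (a' : G)⁻¹ * (b' : G)⁻¹ = 1
        rw [c, mul_inv_cancel]), map_one]
    · right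
      have e2 : a' * b' * a'⁻¹ * b'⁻¹ = ⟨z, hzP⟩ := Subtype.ext (by
        show (a' : G) * b' * (a' : G)⁻¹ * (b' : G)⁻¹ = z
        rw [c, mul_inv_cancel_right])
      rw [e2] at e
      have hex : ∃ w, S.j w = f ⟨z, hzP⟩ := ⟨_, e⟩
      rw [dif_pos hex]
      exact S.j_inj (e.trans hex.choose_spec.symm)
  obtain ⟨a, ha, b, hb, h1, h2⟩ := sylow_commutators _ hR h64 w
  exact (hw a ha b hb).elim h1 h2

/-- No conjugate but `z` lies in `Q`. -/
theorem weakly_closed (hN : S.Φ.Natural) (hsurj : Function.Surjective S.j) {g : G} (hQ : g * z * g⁻¹ ∈ Q) :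
    g * z * g⁻¹ = z := by
  classical
  by_contra hne
  set x := g * z * g⁻¹ with hx
  have hzQ' := S.z_mem_conjQ hQ hne
  have hxQ' : x ∈ S.conjQ g := by
    rw [S.mem_conjQ, hx, show g⁻¹ * (g * z * g⁻¹) * g = z by group]; exact S.h.z_mem
  set P := S.toSetting.cq x with hP
  have hPc : ∀ a ∈ P, Commute a x := fun a ha => (S.toSetting.mem_cq.1 ha).2
  set U : Subgroup G := P ⊓ S.conjQ g with hUdef
  have hUQ : ∀ a ∈ U, a ∈ Q := fun a ha => (S.toSetting.mem_cq.1 ha.1).1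
  have hnot : x ≠ 1 := fun e => S.h.z_ne_one (conj_eq_one_iff.1 e)
  have hback : ∀ a, g⁻¹ * a * g = z ↔ a = x := fun a => by
    constructor
    · intro e; rw [hx, ← e]; group
    · intro e; rw [e, hx]; group
  -- the kernel is elementary abelian
  have hUcomm : ∀ a ∈ U, ∀ b ∈ U, Commute a b := by
    intro a ha b hb
    rcases S.h.conj_eq_or (hUQ a ha) (hUQ b hb) with e | e
    · exact mul_inv_eq_iff_eq_mul.1 e
    · exfalso
      have h2 := S.h.conj_eq_or (S.mem_conjQ.1 ha.2) (S.mem_conjQ.1 hb.2)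
      rw [show g⁻¹ * a * g * (g⁻¹ * b * g) * (g⁻¹ * a * g)⁻¹ = g⁻¹ * (a * b * a⁻¹) * g by group, e] at h2
      rcases h2 with h2 | h2
      · have h3 : z * b = b := mul_left_cancel (mul_right_cancel h2)
        exact S.h.z_ne_one (mul_eq_right.1 h3)
      · rw [show z * (g⁻¹ * b * g) = g⁻¹ * (x * b) * g by rw [hx]; group] at h2
        exact hne (mul_right_cancel (mul_left_cancel (mul_right_cancel h2))).symm
  have hUsq : ∀ a ∈ U, a * a = 1 := by
    intro a ha
    rcases S.h.eq_or (S.h.sq_mem (hUQ a ha)) with e | e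
    · exact e
    · exfalso
      have h2 := S.h.eq_or (S.h.sq_mem (S.mem_conjQ.1 ha.2))
      rw [show g⁻¹ * a * g * (g⁻¹ * a * g) = g⁻¹ * (a * a) * g by group, e] at h2
      rcases h2 with h2 | h2
      · exact S.h.z_ne_one (conj_eq_one_iff.1 (show g⁻¹ * z * g⁻¹⁻¹ = 1 by rwa [inv_inv]))
      · exact hne ((hback z).1 h2).symm
  -- its size
  set f := S.μHom g P hPc
  have himg : Nat.card f.range ≤ 16 := by
    have h1 : Nat.card f.range = Nat.card (f.range.comap S.j) := by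
      rw [← Subgroup.card_map_of_injective S.j_inj, Subgroup.map_comap_eq_self_of_surjective hsurj]
    rw [h1]
    refine elem_card_le _ fun a ha => S.j_inj ?_
    obtain ⟨a', ha'⟩ : ∃ a', f a' = S.j a := ha
    rw [map_mul, ← ha', ← map_mul, map_one]
    refine S.mem_ker_μHom.2 ?_
    rcases S.h.eq_or (S.h.sq_mem (S.toSetting.mem_cq.1 a'.2).1) with e | e
    · show (a' : G) * a' ∈ _; rw [e]; exact one_mem _
    · show (a' : G) * a' ∈ _; rw [e]; exact hzQ'
  have hU16 : 16 ≤ Nat.card U := by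
    have h := f.ker.card_eq_card_quotient_mul_card_subgroup
    rw [Nat.card_congr (QuotientGroup.quotientKerEquivRange f).toEquiv, S.card_cq_conj hQ hne] at h
    have hle : Nat.card f.ker ≤ Nat.card U := Nat.card_le_card_of_injective
      (fun k : f.ker => (⟨((k : ↥P) : G), k.1.2, S.mem_ker_μHom.1 k.2⟩ : ↥U))
      fun a b e => Subtype.ext (Subtype.ext (congrArg (fun u : ↥U => (u : G)) e))
    nlinarith
  -- the space
  set Ub : Finset V := Finset.univ.filter fun v => ∃ a ∈ U, S.ψ a = v with hUb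
  have hmem : ∀ {v}, v ∈ Ub ↔ ∃ a ∈ U, S.ψ a = v := fun {v} => by simp [Ub]
  have hsub : IsSub Ub := ⟨hmem.2 ⟨1, one_mem _, S.toSetting.ψ_one⟩, fun {u v} hu hv => by
    obtain ⟨a, ha, rfl⟩ := hmem.1 hu
    obtain ⟨b, hb, rfl⟩ := hmem.1 hv
    exact hmem.2 ⟨a * b, mul_mem ha hb, S.ψ_mul _ (hUQ a ha) _ (hUQ b hb)⟩⟩
  have h8 : 8 ≤ Ub.card := by
    have hle : Nat.card U ≤ 2 * Ub.card := by
      rw [← S.toSetting.card_pre hsub]
      exact Subgroup.card_le_of_le fun a ha => ⟨hUQ a ha, hmem.2 ⟨a, ha, rfl⟩⟩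
    omega
  have hxU : x ∈ U := ⟨S.toSetting.mem_cq.2 ⟨hQ, Commute.refl x⟩, hxQ'⟩
  have hx0 : S.ψ x ≠ 0 := S.ψ_ne_zero hQ hnot hne
  obtain ⟨t, ht, hxt⟩ := hN.exists_plane (show S.Φ.q (S.ψ x) = 0 from
    (S.toSetting.sq_one_iff hQ).1 (S.conj_mul_self g)) hx0
  obtain ⟨_, hyU, hyt, hy0, hyx⟩ := hN.plane_in_invariant ht hxt hx0 hsub h8 (hmem.2 ⟨x, hxU, rfl⟩)
    (fun a ha b hb => by
      obtain ⟨a, ha', rfl⟩ := hmem.1 ha
      obtain ⟨b, hb', rfl⟩ := hmem.1 hb
      exact (S.toSetting.sq_mul_sq (hUQ a ha') (hUQ b hb')).2 (hUcomm a ha' b hb'))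
    (fun a ha => by
      obtain ⟨a, ha', rfl⟩ := hmem.1 ha
      exact (S.toSetting.sq_one_iff (hUQ a ha')).1 (hUsq a ha'))
    (fun r hr hc a ha => by
      obtain ⟨a, ha', rfl⟩ := hmem.1 ha
      obtain ⟨c, hc1, hc2, hc3⟩ := S.exists_lift_commute hQ (S.conj_notMem_zpowers hne) (a := S.j r)
        (hN.fix_of_commute ht hr hc hxt)
      rw [← S.act_eq hc1 hc2, ← S.ψ_conj c hc1 a (hUQ a ha')]
      refine hmem.2 ⟨_, ⟨S.toSetting.mem_cq.2 ⟨S.h.conj_mem hc1 (hUQ a ha'), ?_⟩, ?_⟩, rfl⟩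
      · exact (hc3.mul_left (hPc a ha'.1)).mul_left hc3.inv_left
      · exact S.conjQ_norm hc3 ha'.2)
  obtain ⟨y, hyU', rfl⟩ := hmem.1 hyU
  -- an element seen from `x` inducing a transvection on the plane
  set y' := g⁻¹ * y * g with hy'def
  set z' := g⁻¹ * z * g with hz'def
  have hy'Q : y' ∈ Q := S.mem_conjQ.1 hyU'.2
  have hz'Q : z' ∈ Q := S.mem_conjQ.1 hzQ'
  have hy'0 : S.ψ y' ≠ 0 := by
    refine S.ψ_ne_zero hy'Q (fun e => hy0 ?_) fun e => hyx ?_
    · rw [show y = 1 from conj_eq_one_iff.1 (show g⁻¹ * y * g⁻¹⁻¹ = 1 by rwa [inv_inv]), S.toSetting.ψ_one]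
    · rw [(hback y).1 e]
  have hz'y' : S.ψ z' ≠ S.ψ y' := by
    intro e
    rcases (S.toSetting.ψ_eq_iff hz'Q hy'Q).1 e with e | e
    · refine hy0 ?_
      rw [show y = z from mul_left_cancel (mul_right_cancel (show g⁻¹ * y * g = g⁻¹ * z * g from e)),
        S.toSetting.ψ_z]
    · refine hyx ?_
      have h1 : y = x * z := by
        have h2 : g * y' * g⁻¹ = g * (z * z') * g⁻¹ := by rw [e]
        rw [hy'def, hz'def] at h2
        rw [hx]
        calc y = g * (g⁻¹ * y * g) * g⁻¹ := by group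
          _ = _ := by rw [h2]; group
      rw [h1, show x * z = z * x from S.h.commute_z hQ, S.toSetting.ψ_zmul hQ]
  obtain ⟨u, hu1, hu2⟩ := S.exists_separate hy'0 hz'y'
  obtain ⟨m', hm', rfl⟩ := S.ψ_surj u
  set m := g * m' * g⁻¹ with hmdef
  have hmz : Commute m z := by
    have h1 : Commute m' z' := (S.toSetting.sq_mul_sq hm' hz'Q).1 hu1
    have h2 := h1.map (MulAut.conj g).toMonoidHom
    simp only [MulEquiv.toMonoidHom_eq_coe, MonoidHom.coe_coe, MulAut.conj_apply] at h2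
    rwa [hz'def, show g * (g⁻¹ * z * g) * g⁻¹ = z by group, ← hmdef] at h2
  have hmx : Commute m x := by
    rw [hmdef, hx]
    exact (S.h.commute_z hm' : Commute m' z).map (MulAut.conj g).toMonoidHom
  have hmy : m * y * m⁻¹ = x * y := by
    have h := (S.toSetting.B_eq_one hm' hy'Q).1 hu2
    rw [hy'def] at h
    calc m * y * m⁻¹ = g * (m' * (g⁻¹ * y * g) * m'⁻¹) * g⁻¹ := by rw [hmdef]; group
      _ = x * y := by rw [h, hx]; group
  obtain ⟨r, hr⟩ := hsurj (S.π m)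
  have hrx : S.Φ.R r (S.ψ x) = S.ψ x := by
    rw [← S.act_eq hmz hr.symm, ← S.ψ_conj m hmz x hQ, hmx.eq, mul_inv_cancel_right]
  have hry : S.Φ.R r (S.ψ y) = S.ψ x + S.ψ y := by
    rw [← S.act_eq hmz hr.symm, ← S.ψ_conj m hmz y (hUQ y hyU'), hmy, S.ψ_mul _ hQ _ (hUQ y hyU')]
  have hrt : Commute r t := by
    have h1 : S.ψ x ∈ S.Φ.img (r * t * r⁻¹) := by
      rw [Act.img_conj, Finset.mem_image]; exact ⟨_, hxt, hrx⟩
    by_contra hc
    exact hx0 (hN.disjoint ht (conj_mem_T r ht) (fun e => hc (eq_mul_inv_iff_mul_eq.1 e).symm) hxt h1)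
  have hfin := hN.fix_plane ht hrt hxt hx0 hrx hyt
  rw [hry] at hfin
  exact hx0 (right_eq_add.1 hfin.symm)

end Sit

end CfsgLib.U6Cent
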