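import Cfsg.Agent.Lib.Invol.U6Cent.Exit
import Cfsg.Agent.Lib.Invol.U6Cent.Build
import Cfsg.Agent.Lib.Invol.U6Cent.WeakClosure
import Cfsg.Agent.Lib.Recog.SpFourCent.Setup
import Cfsg.Agent.Lib.Classical.SwapPair

/-!
Owner: helper13. From the shape of the centralizer to the two conclusions.
-/

set_option autoImplicit false
set_option linter.unusedSectionVars false

namespace CfsgLib.U6Cent

open Cfsg CfsgLib.ThreeTrans CfsgLib.Recog.SpFourCent

variable {G : Type*} [Group G]

/-- The image in `G` of the core of the centralizer is large extraspecial. -/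
theorem largeData_core [Finite G] {z : G} (hz : orderOf z = 2) {C : Subgroup G}
    (hC : C = Subgroup.centralizer ({z} : Set G)) {J : Subgroup ↥C} [J.Normal] (hJ : IsExtraspecial 2 ↥J)
    (hCJ : Subgroup.centralizer (J : Set ↥C) ≤ J) :
    LargeData z (J.map C.subtype) := by
  haveI : Fact (Nat.Prime 2) := ⟨Nat.prime_two⟩
  set Q := J.map C.subtype with hQ
  let eJ : ↥J ≃* ↥Q := J.equivMapOfInjective C.subtype C.subtype_injective
  have hzC : z ∈ C := hC ▸ Subgroup.mem_centralizer_singleton_iff.2 rfl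
  let zC : C := ⟨z, hzC⟩
  have hzz : ∀ c : C, c * zC = zC * c := fun c =>
    Subtype.ext (Subgroup.mem_centralizer_singleton_iff.1 ((SetLike.ext_iff.1 hC _).1 c.2))
  have hzJ : zC ∈ J := hCJ (Subgroup.mem_centralizer_iff.2 fun c _ => hzz c)
  have hzQ : z ∈ Q := ⟨zC, hzJ, rfl⟩
  have hE : IsExtraspecial 2 ↥Q := isExtraspecial_congr hJ eJ
  have hzc : (⟨z, hzQ⟩ : ↥Q) ∈ Subgroup.center ↥Q := Subgroup.mem_center_iff.2 fun q => by
    obtain ⟨c, -, hc⟩ := q.2
    refine Subtype.ext ?_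
    show (q : G) * z = z * q
    rw [← hc]
    exact congrArg Subtype.val (hzz c)
  have hcenter : (Subgroup.center ↥Q).map Q.subtype = Subgroup.zpowers z := by
    refine (Subgroup.eq_of_le_of_card_ge ((Subgroup.zpowers_le (H := (Subgroup.center ↥Q).map Q.subtype)).2 (Subgroup.mem_map.2 ⟨⟨z, hzQ⟩, hzc, rfl⟩)) ?_).symm
    rw [Subgroup.card_map_of_injective Q.subtype_injective, hE.2, Nat.card_zpowers]
    exact hz.ge
  refine ⟨hz, hE, hcenter, le_antisymm (fun x hx => ?_) ?_, fun c hc => ?_⟩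
  · have hxC : x ∈ C := (SetLike.ext_iff.1 hC _).2
      (Subgroup.mem_centralizer_singleton_iff.2 (Subgroup.mem_centralizer_iff.1 hx z hzQ).symm)
    have hxJ : (⟨x, hxC⟩ : C) ∈ J := hCJ (Subgroup.mem_centralizer_iff.2 fun c hc =>
      Subtype.ext (Subgroup.mem_centralizer_iff.1 hx c ⟨c, hc, rfl⟩))
    rw [← hcenter]
    exact ⟨⟨x, ⟨⟨x, hxC⟩, hxJ, rfl⟩⟩, Subgroup.mem_center_iff.2 fun q =>
      Subtype.ext (Subgroup.mem_centralizer_iff.1 hx q q.2), rfl⟩
  · rw [Subgroup.zpowers_le, Subgroup.mem_centralizer_iff]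
    rintro - ⟨c, -, rfl⟩
    exact congrArg Subtype.val (hzz c)
  · replace hc : c ∈ C := (SetLike.ext_iff.1 hC _).2 hc
    have key : ∀ c' : C, ∀ q ∈ Q, (c' : G) * q * (c' : G)⁻¹ ∈ Q := by
      rintro c' - ⟨q, hq, rfl⟩
      exact ⟨c' * q * c'⁻¹, Subgroup.Normal.conj_mem inferInstance q hq c', rfl⟩
    refine Subgroup.mem_normalizer_iff.2 fun q => ⟨key ⟨c, hc⟩ q, fun h => ?_⟩
    have := key ⟨c, hc⟩⁻¹ _ h
    simpa [mul_assoc] using this

/-- `PSp₄(3)` over any field of three elements. -/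
theorem exists_psp_equiv {F : Type*} [Field F] [Fintype F] (hF : Fintype.card F = 3) :
    Nonempty (Cfsg.PSp 2 F ≃* P43) := by
  obtain ⟨b⟩ := CfsgLib.Classical.exists_zmod_equiv F (p := 3) hF
  exact ⟨(QuotientGroup.congr _ _ (CfsgLib.Classical.symplecticMap b (Fin 2))
    (CfsgLib.Classical.Herm.map_center_of_equiv (CfsgLib.Classical.symplecticMap b (Fin 2)))).symm⟩

/-- `z` isolated or `G` is `PSU₆(2)`, given that the split pattern isolates `z`. -/
theorem main_of_split [Finite G] {z : G} {Q : Subgroup G} (S : Sit z Q P43) (hsurj : Function.Surjective S.j)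
    (hsplit : S.Φ.Split → ∀ g : G, Commute (g * z * g⁻¹) z → g * z * g⁻¹ = z)
    {K : Type*} [Field K] [Fintype K] (hK : Fintype.card K = 4) :
    Nonempty (G ≃* Cfsg.PSU 6 K 2) ∨ Subgroup.centralizer ({z} : Set G) ⊔ Cfsg.oddCore G = ⊤ := by
  have hiso : (∀ g : G, Commute (g * z * g⁻¹) z → g * z * g⁻¹ = z) →
      Subgroup.centralizer ({z} : Set G) ⊔ Cfsg.oddCore G = ⊤ := fun h =>
    CfsgLib.Classical.SwapPair.sup_oddCore_eq_top_of_isolated ⟨S.h.hz, fun g hc => h g hc.symm⟩
  rcases S.Φ.natural_or_split with hN | hS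
  · have hgood : S.Good :=
      { nat := hN
        weak := fun g hg => S.weakly_closed hN hsurj hg
        elem := fun P hP => by
          rw [← Subgroup.card_map_of_injective
            (f := (MulEquiv.ofBijective S.j ⟨S.j_inj, hsurj⟩).symm.toMonoidHom)
            (MulEquiv.ofBijective S.j ⟨S.j_inj, hsurj⟩).symm.injective]
          refine elem_card_le _ ?_
          rintro - ⟨a, ha, rfl⟩
          rw [← map_mul, hP a ha, map_one]
        inner := fun y _ _ => (hsurj (S.π y)).imp fun _ h => h.symm }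
    by_cases he : ∀ g : G, Commute (g * z * g⁻¹) z → g * z * g⁻¹ = z
    · exact Or.inr (hiso he)
    · push Not at he
      obtain ⟨g, hc, hne⟩ := he
      exact Or.inl (hgood.nonempty_equiv hsurj ⟨isConj_iff.2 ⟨g, rfl⟩, hc, hne⟩ hK)
  · exact Or.inr (hiso (hsplit hS))

/-- The situation belonging to the hypotheses. -/
theorem exists_sit [Finite G] {z : G} (hz : orderOf z = 2)
    {J : Subgroup ↥(Subgroup.centralizer ({z} : Set G))} [J.Normal] (hJ : IsExtraspecial 2 ↥J)
    (hJc : Nat.card ↥J = 2 ^ 9)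
    (hCJ : Subgroup.centralizer (J : Set ↥(Subgroup.centralizer ({z} : Set G))) ≤ J)
    (e : (↥(Subgroup.centralizer ({z} : Set G)) ⧸ J) ≃* P43) :
    ∃ S : Sit z (J.map (Subgroup.centralizer ({z} : Set G)).subtype) P43, Function.Surjective S.j := by
  obtain ⟨S⟩ := exists_setting (largeData_core hz rfl hJ hCJ)
    (by rw [Subgroup.card_map_of_injective (Subgroup.centralizer ({z} : Set G)).subtype_injective, hJc])
    (e.toMonoidHom.comp (QuotientGroup.mk' J)) (fun c => by
      rw [MonoidHom.comp_apply, MulEquiv.coe_toMonoidHom, map_eq_one_iff e e.injective,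
        QuotientGroup.mk'_apply, QuotientGroup.eq_one_iff, Subgroup.mem_map]
      exact ⟨fun h => ⟨c, h, rfl⟩, fun ⟨d, hd, h⟩ => Subtype.ext h ▸ hd⟩)
    (e.surjective.comp (QuotientGroup.mk'_surjective J))
  exact ⟨{ toSetting := S
           j := MonoidHom.id P43
           j_inj := Function.injective_id
           j_normal := fun a g => ⟨a * g * a⁻¹, rfl⟩
           j_two := fun a b _ _ => ⟨a * b, rfl⟩ }, Function.surjective_id⟩

end CfsgLib.U6Cent
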