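import Cfsg.Agent.Lib.Invol.U6Cent.Group

/-!
Owner: helper13. The Siegel subgroup of order 27 of `PSp₄(3)`, the images of the matrices normalising it, and
their action on the thirteen lines of its dual.
-/

set_option autoImplicit false
set_option linter.unusedSectionVars false
set_option maxRecDepth 100000

namespace CfsgLib.U6Cent

open CfsgLib.Recog.SpFourCent Matrix

instance (M : M4) : Decidable (M ∈ Matrix.symplecticGroup (Fin 2) (ZMod 3)) :=
  decidable_of_iff _ SymplecticGroup.mem_iff.symm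

/-- The class of a symplectic matrix. -/
noncomputable def cl (M : M4) : P43 :=
  if h : M ∈ Matrix.symplecticGroup (Fin 2) (ZMod 3) then QuotientGroup.mk (⟨M, h⟩ : Sp4) else 1

theorem cl_of_mem {M : M4} (h : M ∈ Matrix.symplecticGroup (Fin 2) (ZMod 3)) :
    cl M = QuotientGroup.mk (⟨M, h⟩ : Sp4) := dif_pos h

theorem cl_mul {M N : M4} (hM : M ∈ Matrix.symplecticGroup (Fin 2) (ZMod 3))
    (hN : N ∈ Matrix.symplecticGroup (Fin 2) (ZMod 3)) : cl (M * N) = cl M * cl N := by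
  rw [cl_of_mem hM, cl_of_mem hN, cl_of_mem (mul_mem hM hN), ← QuotientGroup.mk_mul]
  rfl

theorem cl_one : cl 1 = 1 := by
  rw [cl_of_mem (one_mem _)]
  exact QuotientGroup.mk_one _

theorem cl_neg {M : M4} (h : M ∈ Matrix.symplecticGroup (Fin 2) (ZMod 3)) : cl (-M) = cl M := by
  rw [cl_of_mem h, cl_of_mem (SymplecticGroup.neg_mem h), mk_eq_iff]
  exact Or.inr (neg_neg M).symm

theorem cl_eq_one_iff {M : M4} (h : M ∈ Matrix.symplecticGroup (Fin 2) (ZMod 3)) :
    cl M = 1 ↔ M = 1 ∨ M = -1 := by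
  rw [cl_of_mem h, eq_comm, ← QuotientGroup.mk_one, mk_eq_iff]
  rfl

/-- Parameters of the Siegel subgroup. -/
abbrev Par : Type := ZMod 3 × ZMod 3 × ZMod 3

/-- The symmetric matrix. -/
def symm2 (p : Par) : Matrix (Fin 2) (Fin 2) (ZMod 3) := !![p.1, p.2.1; p.2.1, p.2.2]

/-- The unipotent matrix. -/
def uM (p : Par) : M4 := Matrix.fromBlocks 1 (symm2 p) 0 1

/-- The matrix of a change of basis of the Lagrangian subspace. -/
def dM (A B : Matrix (Fin 2) (Fin 2) (ZMod 3)) : M4 := Matrix.fromBlocks A 0 0 B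

theorem uM_mem : ∀ p : Par, uM p ∈ Matrix.symplecticGroup (Fin 2) (ZMod 3) := by
  decide +kernel

theorem symm2_add (p r : Par) : symm2 (p + r) = symm2 p + symm2 r := by
  ext i j
  fin_cases i <;> fin_cases j <;> simp [symm2]

theorem uM_mul (p r : Par) : uM p * uM r = uM (p + r) := by
  rw [uM, uM, uM, Matrix.fromBlocks_multiply, symm2_add]
  simp [add_comm]

/-- The Siegel subgroup. -/
noncomputable def ue (p : Par) : P43 := cl (uM p)

theorem ue_add (p r : Par) : ue (p + r) = ue p * ue r := by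
  rw [ue, ← uM_mul, cl_mul (uM_mem p) (uM_mem r)]
  rfl

theorem ue_zero : ue 0 = 1 := by
  have h := ue_add 0 0
  rw [add_zero] at h
  exact left_eq_mul.1 h

theorem ue_comm (p r : Par) : ue p * ue r = ue r * ue p := by rw [← ue_add, ← ue_add, add_comm]

theorem uM_ne : ∀ p : Par, p ≠ 0 → uM p ≠ 1 ∧ uM p ≠ -1 := by decide +kernel

theorem ue_ne_one {p : Par} (h : p ≠ 0) : ue p ≠ 1 := fun e => by
  rcases (cl_eq_one_iff (uM_mem p)).1 e with e | e
  exacts [(uM_ne p h).1 e, (uM_ne p h).2 e]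

theorem par_three : ∀ p : Par, p + p + p = 0 := by decide +kernel

theorem ue_cube (p : Par) : ue p * ue p * ue p = 1 := by rw [← ue_add, ← ue_add, par_three, ue_zero]

/-- The four changes of basis used. -/
inductive Mv : Type
  | shear
  | flip
  | diag
  | rot
  deriving DecidableEq

instance : Fintype Mv :=
  ⟨⟨[Mv.shear, Mv.flip, Mv.diag, Mv.rot], by decide⟩, fun m => by cases m <;> decide⟩

/-- The upper block. -/
def Mv.A : Mv → Matrix (Fin 2) (Fin 2) (ZMod 3)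
  | .shear => !![1, 1; 0, 1]
  | .flip => !![0, 1; 1, 0]
  | .diag => !![-1, 0; 0, 1]
  | .rot => !![1, 1; 1, -1]

/-- The lower block, the inverse transpose. -/
def Mv.B : Mv → Matrix (Fin 2) (Fin 2) (ZMod 3)
  | .shear => !![1, 0; -1, 1]
  | .flip => !![0, 1; 1, 0]
  | .diag => !![-1, 0; 0, 1]
  | .rot => !![-1, -1; -1, 1]

/-- The induced map of the parameters. -/
def Mv.sub : Mv → Par → Par
  | .shear => fun p => (p.1 + 2 * p.2.1 + p.2.2, p.2.1 + p.2.2, p.2.2)
  | .flip => fun p => (p.2.2, p.2.1, p.1)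
  | .diag => fun p => (p.1, -p.2.1, p.2.2)
  | .rot => fun p => (p.1 + 2 * p.2.1 + p.2.2, p.1 - p.2.2, p.1 - 2 * p.2.1 + p.2.2)

theorem mv_mem : ∀ m : Mv, dM m.A m.B ∈ Matrix.symplecticGroup (Fin 2) (ZMod 3) := by
  decide +kernel

theorem mv_check : ∀ m : Mv, ∀ p : Par, dM m.A m.B * uM p = uM (m.sub p) * dM m.A m.B := by decide +kernel

/-- The image of a change of basis. -/
noncomputable def Mv.el (m : Mv) : P43 := cl (dM m.A m.B)

theorem Mv.el_ue (m : Mv) (p : Par) : m.el * ue p * m.el⁻¹ = ue (m.sub p) := by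
  rw [mul_inv_eq_iff_eq_mul, Mv.el, ue, ue, ← cl_mul (mv_mem m) (uM_mem p), mv_check,
    cl_mul (uM_mem _) (mv_mem m)]

theorem Mv.el_conj {m n : Mv} {k : Mv} (h : dM m.A m.B * dM n.A n.B = dM k.A k.B * dM m.A m.B ∨
    dM m.A m.B * dM n.A n.B = -(dM k.A k.B * dM m.A m.B)) : m.el * n.el * m.el⁻¹ = k.el := by
  rw [mul_inv_eq_iff_eq_mul, Mv.el, Mv.el, Mv.el, ← cl_mul (mv_mem m) (mv_mem n),
    ← cl_mul (mv_mem k) (mv_mem m)]
  rcases h with e | e
  · rw [e]
  · rw [e, cl_neg (mul_mem (mv_mem k) (mv_mem m))]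

theorem diag_eq : dM Mv.diag.A Mv.diag.B = -mat 24 := by
  rw [mat_tau]
  decide +kernel

theorem diag_el : Mv.diag.el = tau := by
  rw [Mv.el, diag_eq, cl_neg (mat_mem 24), cl_of_mem (mat_mem 24)]
  rfl

theorem rot_check : dM Mv.rot.A Mv.rot.B * dM Mv.diag.A Mv.diag.B = dM Mv.flip.A Mv.flip.B * dM Mv.rot.A Mv.rot.B ∨
    dM Mv.rot.A Mv.rot.B * dM Mv.diag.A Mv.diag.B = -(dM Mv.flip.A Mv.flip.B * dM Mv.rot.A Mv.rot.B) := by
  decide +kernel

theorem flip_el : Mv.rot.el * tau * Mv.rot.el⁻¹ = Mv.flip.el := diag_el ▸ Mv.el_conj rot_check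

theorem flip_mem : Mv.flip.el ∈ T := flip_el ▸ conj_mem_T _ tau_mem

theorem pair_check : (dM Mv.flip.A Mv.flip.B * dM Mv.diag.A Mv.diag.B = dM Mv.diag.A Mv.diag.B * dM Mv.flip.A Mv.flip.B ∨
    dM Mv.flip.A Mv.flip.B * dM Mv.diag.A Mv.diag.B = -(dM Mv.diag.A Mv.diag.B * dM Mv.flip.A Mv.flip.B)) ∧
    dM Mv.flip.A Mv.flip.B ≠ mat 24 ∧ dM Mv.flip.A Mv.flip.B ≠ -mat 24 := by
  refine ⟨by decide +kernel, ?_, ?_⟩ <;> rw [mat_tau] <;> decide +kernel

theorem flip_comm : Commute tau Mv.flip.el := by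
  have h := Mv.el_conj pair_check.1
  rw [diag_el] at h
  exact (mul_inv_eq_iff_eq_mul.1 h).symm

theorem flip_ne : tau ≠ Mv.flip.el := fun e => by
  rw [Mv.el, cl_of_mem (mv_mem _), tau, qx, mk_eq_iff] at e
  rcases e with e | e
  exacts [pair_check.2.1 e, pair_check.2.2 e]

/-- The linear forms on the parameters. -/
abbrev Frm : Type := ZMod 3 × ZMod 3 × ZMod 3

/-- The value of a form. -/
def fv (l : Frm) (p : Par) : ZMod 3 := l.1 * p.1 + l.2.1 * p.2.1 + l.2.2 * p.2.2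

/-- The form after a change of basis. -/
def Mv.dual (m : Mv) (l : Frm) : Frm :=
  (fv l (m.sub (1, 0, 0)), fv l (m.sub (0, 1, 0)), fv l (m.sub (0, 0, 1)))

theorem dual_check : ∀ (m : Mv) (l : Frm) (p : Par), fv (m.dual l) p = fv l (m.sub p) := by decide +kernel

/-- The value form at the point `(1,0)`, at `(0,1)`, at `(1,1)` and at `(1,-1)`. -/
def cone : Fin 4 → Frm := ![(1, 0, 0), (0, 0, 1), (1, 2, 1), (1, 1, 1)]

/-- The three forms of the other orbit of odd length. -/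
def tri : Fin 3 → Frm := ![(1, 0, 1), (1, 1, 2), (1, 2, 2)]

/-- The six remaining forms. -/
def six : Fin 6 → Frm := ![(1, 0, 2), (0, 1, 0), (1, 1, 0), (1, 2, 0), (0, 1, 1), (0, 2, 1)]

/-- Two forms with the same kernel. -/
def SameLine (l l' : Frm) : Prop := l = l' ∨ l = -l'

instance (l l' : Frm) : Decidable (SameLine l l') := inferInstanceAs (Decidable (_ ∨ _))

end CfsgLib.U6Cent
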