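import Cfsg.Agent.Lib.Invol.U6Cent.Outside

/-!
Owner: helper13. The conjugates of `z` in its centralizer: they act as members, four above each member, and they
multiply as their images do.
-/

set_option autoImplicit false
set_option linter.unusedSectionVars false

namespace CfsgLib.U6Cent

open Cfsg CfsgLib.ThreeTrans CfsgLib.Recog.SpFourCent

namespace Sit

variable {G : Type*} [Group G] [Finite G] {z : G} {Q : Subgroup G} {A : Type*} [Group A]

/-- Conjugates in the centralizer act as elements of `PSp₄(3)`. -/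
structure Good (S : Sit z Q A) : Prop extends Base S where
  inner : ∀ y, IsConj z y → Commute y z → ∃ r, S.π y = S.j r

variable {S : Sit z Q A}

namespace Good

variable (hS : S.Good)
include hS

theorem image_mem {y : G} (hy : IsConj z y) (hyz : Commute y z) (hne : y ≠ z) : ∃ t ∈ T, S.π y = S.j t := by
  obtain ⟨r, hr⟩ := hS.inner y hy hyz
  have hr2 : r * r = 1 := S.j_inj (by
    rw [map_mul, ← hr, ← S.π_mul _ _ hyz hyz, member_sq S hy, S.toSetting.π_one, map_one])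
  have hr1 : r ≠ 1 := fun e => hne (hS.eq_z hy ((S.π_eq_one y hyz).1 (by rw [hr, e, map_one])))
  rcases inv_cases hr2 hr1 with h | ⟨a, b, ha, hb, hab, hne', rfl⟩
  · exact ⟨r, h, hr⟩
  · exact (hS.pair_false hy hyz ha hb hab hne' hr).elim

theorem μ_mem {g y : G} (hy : IsConj z y) (hc : Commute y (g * z * g⁻¹)) (hne : y ≠ g * z * g⁻¹) :
    ∃ t ∈ T, S.μ g y = S.j t :=
  hS.image_mem (member_conj' hy g) (S.back_commute hc) fun e => hne (by
    calc y = g * (g⁻¹ * y * g) * g⁻¹ := by group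
      _ = g * z * g⁻¹ := by rw [e])

theorem ne_z_of {y : G} {t : P43} (ht : t ∈ T) (hπ : S.π y = S.j t) : y ≠ z := fun e => ne_one_T ht (S.j_inj (by
  rw [← hπ, e, S.toSetting.π_of_mem S.h.z_mem, map_one]))

theorem act_member {y : G} (hyz : Commute y z) {t : P43} (hπ : S.π y = S.j t) (v : V) :
    S.act y v = S.Φ.R t v := S.act_eq hyz hπ v

theorem ψ_cm {y : G} (hy : IsConj z y) (hyz : Commute y z) {t : P43} (hπ : S.π y = S.j t) {q : G} (hq : q ∈ Q) :
    S.ψ (cm y q) = S.Φ.R t (S.ψ q) + S.ψ q := by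
  rw [S.toSetting.ψ_cm hyz (member_sq S hy) hq, S.act_eq hyz hπ]

theorem cm_comm {y : G} (hy : IsConj z y) (hyz : Commute y z) {t : P43} (ht : t ∈ T) (hπ : S.π y = S.j t)
    {q : G} (hq : q ∈ Q) : Commute (cm y q) y :=
  hS.cm_commute hy hyz hq (by
    rw [hS.ψ_cm hy hyz hπ hq]
    exact hS.nat.img_singular ht (S.Φ.mem_img.2 ⟨_, rfl⟩))

theorem decomp {y k : G} (hy : IsConj z y) (hyz : Commute y z) {t : P43} (hπ : S.π y = S.j t) (hk : k ∈ Q)
    (hkW : S.ψ k ∈ S.Φ.img t) : ∃ q ∈ Q, k = cm y q ∨ k = z * cm y q := by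
  obtain ⟨v, hv⟩ := S.Φ.mem_img.1 hkW
  obtain ⟨q, hq, rfl⟩ := S.ψ_surj v
  refine ⟨q, hq, (S.toSetting.ψ_eq_iff (S.toSetting.cm_mem hyz (member_sq S hy) hq) hk).1 ?_⟩
  rw [hS.ψ_cm hy hyz hπ hq, hv]

/-- A conjugate times `z` is no conjugate. -/
theorem mul_z_false {y : G} (hy : IsConj z y) (hyz : Commute y z) (hne : y ≠ z) (hzy : IsConj z (z * y)) :
    False := by
  classical
  obtain ⟨t, ht, hπ⟩ := hS.image_mem hy hyz hne
  obtain ⟨g, hg⟩ := isConj_iff.1 hy
  set P := S.toSetting.pre (S.Φ.img t) (S.Φ.img_sub t) with hP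
  have hzne : g * z * g⁻¹ ≠ z := hg ▸ hne
  have hPy : ∀ k ∈ P, Commute k y := fun k hk => by
    obtain ⟨q, hq, rfl | rfl⟩ := hS.decomp hy hyz hπ hk.1 hk.2
    exacts [hS.cm_comm hy hyz ht hπ hq, hyz.symm.mul_left (hS.cm_comm hy hyz ht hπ hq)]
  -- all translates are conjugates, so none lies in the conjugate of `Q`
  have hmem : ∀ k ∈ P, IsConj z (y * k) := by
    intro k hk
    obtain ⟨q, hq, rfl | rfl⟩ := hS.decomp hy hyz hπ hk.1 hk.2
    · exact hS.conj_cm hy q
    · have h1 := member_conj' hzy q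
      rwa [show q⁻¹ * (z * y) * q = (q⁻¹ * z * q) * (q⁻¹ * y * q) by group, mul_assoc q⁻¹ z q,
        ← S.h.commute_z hq, inv_mul_cancel_left, conj_eq_cm (member_sq S hy), ← mul_assoc, ← hyz.eq,
        mul_assoc] at h1
  have hnot : ∀ k ∈ P, k ∈ S.conjQ g → k = 1 := fun k hk hk' =>
    mul_eq_left.1 ((hS.eq_of_mem_conjQ (hmem k hk) (mul_mem (hg ▸ self_mem_conjQ g) hk')).trans hg)
  have himg : ∀ k ∈ P, k ≠ 1 → ∃ r ∈ T, S.μ g k = S.j r := by
    intro k hk hk1
    obtain ⟨r, hr, e⟩ := hS.μ_mem (hmem k hk) (hg.symm ▸ (Commute.refl y).mul_left (hPy k hk))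
      (fun e => hk1 (mul_eq_left.1 (e.trans hg)))
    refine ⟨r, hr, ?_⟩
    rwa [S.μ_mul (hg.symm ▸ Commute.refl y) (hg.symm ▸ hPy k hk),
      (S.μ_eq_one (hg.symm ▸ Commute.refl y)).2 (hg ▸ self_mem_conjQ g), one_mul] at e
  obtain ⟨a, ha, ha1⟩ : ∃ a ∈ P, a ≠ 1 := ⟨z, ⟨S.h.z_mem, by rw [S.toSetting.ψ_z]; exact (S.Φ.img_sub t).zero⟩,
    S.h.z_ne_one⟩
  obtain ⟨v, hv, hv0⟩ := Finset.exists_mem_ne (s := S.Φ.img t) (by rw [hS.nat.card_img ht]; norm_num) 0
  obtain ⟨b, hb, rfl⟩ := S.ψ_surj v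
  have hbP : b ∈ P := ⟨hb, hv⟩
  have hb1 : b ≠ 1 := fun e => hv0 (by rw [e, S.toSetting.ψ_one])
  have hzb : z * b ∈ P := ⟨mul_mem S.h.z_mem hb, by rw [S.toSetting.ψ_zmul hb]; exact hv⟩
  have hzb1 : z * b ≠ 1 := fun e => hv0 (by rw [← S.toSetting.ψ_zmul hb, e, S.toSetting.ψ_one])
  have hzP : z ∈ P := ⟨S.h.z_mem, by rw [S.toSetting.ψ_z]; exact (S.Φ.img_sub t).zero⟩
  obtain ⟨r1, hr1, e1⟩ := himg z hzP S.h.z_ne_one
  obtain ⟨r2, hr2, e2⟩ := himg b hbP hb1
  obtain ⟨r3, hr3, e3⟩ := himg _ hzb hzb1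
  rw [S.μ_mul (hg.symm ▸ hyz.symm) (hg.symm ▸ hPy b hbP), e1, e2, ← map_mul] at e3
  have h12 : r1 * r2 = r3 := S.j_inj e3
  have hcomm : Commute r1 r2 := by
    show r1 * r2 = r2 * r1
    have h := sq_T hr3
    rw [← h12] at h
    rw [eq_inv_of_mul_eq_one_left h, mul_inv_rev, inv_T hr1, inv_T hr2]
  have hne12 : r1 ≠ r2 := fun e => ne_one_T hr3 (by rw [← h12, e, sq_T hr2])
  exact mul_notMem_T hr1 hr2 hcomm hne12 (h12 ▸ hr3)

/-- Elements of `Q` fixed modulo `z` by a conjugate commute with it. -/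
theorem fix_commute {y k : G} (hy : IsConj z y) (hyz : Commute y z) (hne : y ≠ z) (hk : k ∈ Q)
    (hfix : S.act y (S.ψ k) = S.ψ k) : Commute k y := by
  rcases S.toSetting.conj_or_of_fix hyz hk (S.toSetting.mem_fix.2 hfix) with e | e
  · exact (mul_inv_eq_iff_eq_mul.1 e).symm
  · exfalso
    refine hS.mul_z_false hy hyz hne ?_
    have h1 : k * y * k⁻¹ = z * y := by
      have e' := mul_inv_eq_iff_eq_mul.1 e
      calc k * y * k⁻¹ = (z * z) * k * y * k⁻¹ := by rw [S.h.mul_self_z, one_mul]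
        _ = z * (z * k * y) * k⁻¹ := by group
        _ = z * y := by rw [← e']; group
    exact h1 ▸ member_conj hy k

/-- Conjugates with one image are conjugate under `Q`. -/
theorem same_image {y y' : G} (hy : IsConj z y) (hy' : IsConj z y') (hyz : Commute y z) (hy'z : Commute y' z)
    {t : P43} (ht : t ∈ T) (hπ : S.π y = S.j t) (hπ' : S.π y' = S.j t) : ∃ q ∈ Q, y' = y * cm y q := by
  classical
  have hne := hS.ne_z_of ht hπ
  have hyy := member_sq S hy
  set p := y * y' with hp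
  have hy'p : y' = y * p := by rw [hp, ← mul_assoc, hyy, one_mul]
  have hpQ : p ∈ Q := by
    rw [← S.π_eq_one _ (hyz.mul_left hy'z), S.π_mul _ _ hyz hy'z, hπ, hπ', ← map_mul, sq_T ht, map_one]
  have hpy : y * p * y⁻¹ = p⁻¹ := by
    rw [hp, mul_inv_rev, inv_eq_of_mul_eq_one_left hyy, inv_eq_of_mul_eq_one_left (member_sq S hy')]
    simp only [← mul_assoc, hyy, one_mul]
  have hfix : S.act y (S.ψ p) = S.ψ p := by
    rw [← S.ψ_conj y hyz p hpQ, hpy, S.toSetting.ψ_inv hpQ]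
  have hpc := hS.fix_commute hy hyz hne hpQ hfix
  -- `p` commutes with the fixed part of `Q`
  have hpD : ∀ m ∈ Q, S.act y (S.ψ m) = S.ψ m → Commute m p := by
    intro m hm hmfix
    rcases S.h.conj_eq_or hm hpQ with e | e
    · exact mul_inv_eq_iff_eq_mul.1 e
    exfalso
    obtain ⟨g, hg⟩ := isConj_iff.1 hy
    have hmy := hS.fix_commute hy hyz hne hm hmfix
    have hy'' : m * y' * m⁻¹ = y * (z * p) := by
      rw [hy'p, show m * (y * p) * m⁻¹ = (m * y * m⁻¹) * (m * p * m⁻¹) by group, e, hmy.eq, mul_inv_cancel_right]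
    have hmem : IsConj z (y * (z * p)) := hy'' ▸ member_conj hy' m
    have cy : Commute y (g * z * g⁻¹) := hg.symm ▸ Commute.refl y
    have cz : Commute z (g * z * g⁻¹) := hg.symm ▸ hyz.symm
    have cp : Commute p (g * z * g⁻¹) := hg.symm ▸ hpc
    have μy : S.μ g y = 1 := (S.μ_eq_one cy).2 (hg ▸ self_mem_conjQ g)
    have hne1 : y' ≠ y := fun h => by
      have hp1 : p = 1 := by rw [hp, h, hyy]
      rw [hp1, mul_one, mul_one, mul_inv_cancel] at e
      exact S.h.z_ne_one e.symm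
    obtain ⟨r0, hr0, e0⟩ := hS.μ_mem (IsConj.refl z) cz (fun h => hne (h.trans hg).symm)
    obtain ⟨r, hr, er⟩ := hS.μ_mem hy' (hy'p ▸ cy.mul_left cp) (fun h => hne1 (h.trans hg))
    have hne2 : y * (z * p) ≠ y := fun h => by
      have h1 := mul_eq_left.1 h
      have hpz : p = z := by
        rw [eq_inv_of_mul_eq_one_right h1, S.h.inv_z]
      rw [hpz, show m * z = z * m from S.h.commute_z hm, mul_inv_cancel_right] at e
      exact S.h.z_ne_one (mul_eq_left.1 e.symm)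
    obtain ⟨r', hr', er'⟩ := hS.μ_mem hmem (cy.mul_left (cz.mul_left cp)) (fun h => hne2 (h.trans hg))
    rw [hy'p, S.μ_mul cy cp, μy, one_mul] at er
    rw [S.μ_mul cy (cz.mul_left cp), μy, one_mul, S.μ_mul cz cp, e0, er, ← map_mul] at er'
    have h12 : r0 * r = r' := S.j_inj er'
    have hcomm : Commute r0 r := by
      show r0 * r = r * r0
      have h := sq_T hr'
      rw [← h12] at h
      rw [eq_inv_of_mul_eq_one_left h, mul_inv_rev, inv_T hr0, inv_T hr]
    exact mul_notMem_T hr0 hr hcomm (fun e => ne_one_T hr' (by rw [← h12, e, sq_T hr])) (h12 ▸ hr')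
  have hpW : S.ψ p ∈ S.Φ.img t := by
    set W := S.Φ.img t with hW
    have hsub : W ⊆ S.toSetting.perp (S.toSetting.perp W) := fun w hw => S.toSetting.mem_perp.2 fun u hu => by
      rw [S.toSetting.B_comm]; exact S.toSetting.mem_perp.1 hu w hw
    have h1 := S.toSetting.card_mul_perp (S.Φ.img_sub t)
    have h2 := S.toSetting.card_mul_perp (S.toSetting.perp_sub W)
    rw [hS.nat.card_img ht] at h1
    have h3 : (S.toSetting.perp W).card = 64 := by rw [hW]; omega
    rw [h3] at h2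
    rw [Finset.eq_of_subset_of_card_le hsub (by rw [show W.card = 4 from hS.nat.card_img ht]; omega), S.toSetting.mem_perp]
    intro u hu
    obtain ⟨m, hm, rfl⟩ := S.ψ_surj u
    refine (S.toSetting.sq_mul_sq hm hpQ).2 (hpD m hm ?_)
    rw [S.act_eq hyz hπ]
    refine (S.Φ.fixed_iff (sq_T ht)).2 fun a ha => ?_
    show S.toSetting.B _ _ = 0
    rw [S.toSetting.B_comm]
    exact S.toSetting.mem_perp.1 hu a ha
  obtain ⟨q, hq, h | h⟩ := hS.decomp hy hyz hπ hpQ hpW
  · exact ⟨q, hq, by rw [hy'p, h]⟩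
  · exfalso
    refine hS.mul_z_false hy hyz hne ?_
    have hqz := S.h.commute_z hq
    have e : q * y' * q⁻¹ = z * y := by
      calc q * y' * q⁻¹ = q * ((y * z) * cm y q) * q⁻¹ := by rw [hy'p, h, ← mul_assoc y z]
        _ = q * (z * (y * cm y q)) * q⁻¹ := by rw [hyz.eq, mul_assoc z]
        _ = q * (z * (q⁻¹ * y * q)) * q⁻¹ := by rw [← conj_eq_cm hyy]
        _ = q * z * q⁻¹ * y := by group
        _ = z * y := by rw [hqz, mul_inv_cancel_right]
    exact e ▸ member_conj hy' q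

/-- Conjugates with one image commute. -/
theorem commute_same {y y' : G} (hy : IsConj z y) (hy' : IsConj z y') (hyz : Commute y z) (hy'z : Commute y' z)
    {t : P43} (ht : t ∈ T) (hπ : S.π y = S.j t) (hπ' : S.π y' = S.j t) : Commute y y' := by
  obtain ⟨q, hq, rfl⟩ := hS.same_image hy hy' hyz hy'z ht hπ hπ'
  exact (Commute.refl y).mul_right (hS.cm_comm hy hyz ht hπ hq).symm

theorem ψ_quot {y y' : G} (hy : IsConj z y) (hy' : IsConj z y') (hyz : Commute y z) (hy'z : Commute y' z)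
    {t : P43} (ht : t ∈ T) (hπ : S.π y = S.j t) (hπ' : S.π y' = S.j t) :
    y * y' ∈ Q ∧ S.ψ (y * y') ∈ S.Φ.img t := by
  obtain ⟨q, hq, rfl⟩ := hS.same_image hy hy' hyz hy'z ht hπ hπ'
  rw [← mul_assoc, member_sq S hy, one_mul]
  exact ⟨S.toSetting.cm_mem hyz (member_sq S hy) hq,
    by rw [hS.ψ_cm hy hyz hπ hq]; exact S.Φ.mem_img.2 ⟨_, rfl⟩⟩

theorem eq_or_of_ψ {y y' : G} (hy : IsConj z y) (hy' : IsConj z y') (hyz : Commute y z)
    {t : P43} (ht : t ∈ T) (hπ : S.π y = S.j t) (hQ : y * y' ∈ Q) (h0 : S.ψ (y * y') = 0) : y' = y := by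
  rcases S.h.eq_or ((S.ψ_eq_zero _ hQ).1 h0) with e | e
  · rw [eq_inv_of_mul_eq_one_right e, inv_eq_of_mul_eq_one_left (member_sq S hy)]
  · exfalso
    refine hS.mul_z_false hy hyz (hS.ne_z_of ht hπ) ?_
    have e2 : y' = z * y := by
      calc y' = y * (y * y') := by rw [← mul_assoc, member_sq S hy, one_mul]
        _ = z * y := by rw [e, hyz.eq]
    exact e2 ▸ hy'

/-- Conjugates with commuting images commute. -/
theorem commute_of_image {y w : G} (hy : IsConj z y) (hw : IsConj z w) (hyz : Commute y z) (hwz : Commute w z)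
    {t s : P43} (ht : t ∈ T) (hs : s ∈ T) (hπ : S.π y = S.j t) (hπw : S.π w = S.j s) (hts : Commute t s) :
    Commute y w := by
  by_cases hne : t = s
  · subst hne; exact hS.commute_same hy hw hyz hwz ht hπ hπw
  have hyy := member_sq S hy
  have hww := member_sq S hw
  have hwi := inv_eq_of_mul_eq_one_left hww
  have hyi := inv_eq_of_mul_eq_one_left hyy
  have cy' : Commute (w * y * w⁻¹) z := (hwz.mul_left hyz).mul_left hwz.inv_left
  have cw' : Commute (y * w * y⁻¹) z := (hyz.mul_left hwz).mul_left hyz.inv_left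
  have π1 : S.π (w * y * w⁻¹) = S.j t := by
    rw [S.toSetting.π_conj hwz hyz, hπw, hπ, ← map_inv, ← map_mul, ← map_mul, hts.symm.eq, mul_inv_cancel_right]
  have π2 : S.π (y * w * y⁻¹) = S.j s := by
    rw [S.toSetting.π_conj hyz hwz, hπ, hπw, ← map_inv, ← map_mul, ← map_mul, hts.eq, mul_inv_cancel_right]
  obtain ⟨hQ1, h1⟩ := hS.ψ_quot hy (member_conj hy w) hyz cy' ht hπ π1
  obtain ⟨-, h2⟩ := hS.ψ_quot (member_conj hw y) hw cw' hwz hs π2 hπw
  have e : y * w * y⁻¹ * w = y * (w * y * w⁻¹) := by rw [hwi, hyi]; simp only [mul_assoc]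
  rw [e] at h2
  have h0 := hS.nat.disjoint ht hs hne h1 h2
  exact (mul_inv_eq_iff_eq_mul.1 (hS.eq_or_of_ψ hy (member_conj hy w) hyz ht hπ hQ1 h0)).symm

/-- Conjugates with non-commuting images have product of order three. -/
theorem pow_three {y w : G} (hy : IsConj z y) (hw : IsConj z w) (hyz : Commute y z) (hwz : Commute w z)
    {t s : P43} (ht : t ∈ T) (hs : s ∈ T) (hπ : S.π y = S.j t) (hπw : S.π w = S.j s) (hts : ¬ Commute t s) :
    y * w * y = w * y * w := by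
  have hyy := member_sq S hy
  have hww := member_sq S hw
  have hwi := inv_eq_of_mul_eq_one_left hww
  have hyi := inv_eq_of_mul_eq_one_left hyy
  set a := y * w * y with ha
  set b := w * y * w with hb
  have hca : Commute a z := (hyz.mul_left hwz).mul_left hyz
  have hcb : Commute b z := (hwz.mul_left hyz).mul_left hwz
  have hma : IsConj z a := by
    have h := member_conj hw y
    rwa [hyi] at h
  have hmb : IsConj z b := by
    have h := member_conj hy w
    rwa [hwi] at h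
  set r := t * s * t with hr
  have hrT : r ∈ T := by
    have h := conj_mem_T t hs
    rwa [inv_T ht] at h
  have πa : S.π a = S.j r := by rw [ha, S.π_mul _ _ (hyz.mul_left hwz) hyz, S.π_mul _ _ hyz hwz, hπ, hπw, hr, map_mul, map_mul]
  have πb : S.π b = S.j r := by
    rw [hb, S.π_mul _ _ (hwz.mul_left hyz) hwz, S.π_mul _ _ hwz hyz, hπ, hπw, hr, braid_T ht hs hts, map_mul,
      map_mul]
  obtain ⟨hQ, hW⟩ := hS.ψ_quot hma hmb hca hcb hrT πa πb
  have hc := hS.commute_same hma hmb hca hcb hrT πa πb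
  have hpp : a * b * (a * b) = 1 := by
    rw [hc.symm.mul_mul_mul_comm, member_sq S hma, member_sq S hmb, one_mul]
  have hinv : y * (a * b) * y⁻¹ = (a * b)⁻¹ := by
    rw [hyi, ha, hb]
    simp only [mul_inv_rev, hyi, hwi, ← mul_assoc, hyy, one_mul]
  have hrt : ¬ Commute r t := by
    intro h
    refine hts ?_
    have h' : t * s * t * t = t * (t * s * t) := hr ▸ h.eq
    rw [mul_assoc (t * s) t t, sq_T ht, mul_one, show t * (t * s * t) = t * t * s * t by group, sq_T ht,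
      one_mul] at h'
    exact h'
  have h0 : S.ψ (a * b) = 0 := hS.nat.moved hrT ht hrt hW (by
    rw [← S.act_eq hyz hπ, ← S.ψ_conj y hyz _ hQ, hinv, S.toSetting.ψ_inv hQ])
  exact (hS.eq_or_of_ψ hma hmb hca hrT πa hQ h0).symm

/-- Exactly four conjugates act as a given member. -/
theorem ncard_over {y : G} (hy : IsConj z y) (hyz : Commute y z) {t : P43} (ht : t ∈ T) (hπ : S.π y = S.j t) :
    {w | IsConj z w ∧ Commute w z ∧ S.π w = S.j t}.ncard = 4 := by
  classical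
  rw [← hS.nat.card_img ht, ← Set.ncard_coe_finset]
  refine Set.ncard_congr (fun w _ => S.ψ (y * w)) (fun w hw => ?_) (fun w w' hw hw' e => ?_) fun v hv => ?_
  · exact Finset.mem_coe.2 (hS.ψ_quot hy hw.1 hyz hw.2.1 ht hπ hw.2.2).2
  · obtain ⟨hQ, -⟩ := hS.ψ_quot hy hw.1 hyz hw.2.1 ht hπ hw.2.2
    obtain ⟨hQ', -⟩ := hS.ψ_quot hy hw'.1 hyz hw'.2.1 ht hπ hw'.2.2
    have hc := hS.commute_same hw.1 hy hw.2.1 hyz ht hw.2.2 hπ
    have e1 : w * w' = y * w * (y * w') := by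
      rw [← mul_assoc, mul_assoc y w y, hc.eq, ← mul_assoc, member_sq S hy, one_mul]
    exact (hS.eq_or_of_ψ hw.1 hw'.1 hw.2.1 ht hw.2.2 (e1 ▸ mul_mem hQ hQ')
      (by rw [e1, S.ψ_mul _ hQ _ hQ', e, v_add_self])).symm
  · obtain ⟨u, hu⟩ := S.Φ.mem_img.1 (Finset.mem_coe.1 hv)
    obtain ⟨q, hq, rfl⟩ := S.ψ_surj u
    have hqz : Commute q z := S.h.commute_z hq
    refine ⟨q⁻¹ * y * q, ⟨member_conj' hy q, (hqz.inv_left.mul_left hyz).mul_left hqz, ?_⟩, ?_⟩
    · rw [S.π_mul _ _ (hqz.inv_left.mul_left hyz) hqz, S.π_mul _ _ hqz.inv_left hyz,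
        S.toSetting.π_of_mem (inv_mem hq), S.toSetting.π_of_mem hq, one_mul, mul_one, hπ]
    · rw [conj_eq_cm (member_sq S hy), ← mul_assoc, member_sq S hy, one_mul, hS.ψ_cm hy hyz hπ hq, hu]

/-- With one conjugate outside, every member is the image of one. -/
theorem exists_over {y : G} (hy : IsConj z y) (hyz : Commute y z) (hne : y ≠ z) {t : P43} (ht : t ∈ T) :
    ∃ w, IsConj z w ∧ Commute w z ∧ S.π w = S.j t := by
  obtain ⟨r, hr, hπ⟩ := hS.image_mem hy hyz hne
  obtain ⟨h, rfl⟩ := exists_conj_T hr ht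
  obtain ⟨c, hc, hcπ⟩ := S.exists_lift h
  exact ⟨c * y * c⁻¹, member_conj hy c, (hc.mul_left hyz).mul_left hc.inv_left, by
    rw [S.toSetting.π_conj hc hyz, hcπ, hπ, map_mul, map_mul, map_inv]⟩

end Good

end Sit

end CfsgLib.U6Cent
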