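import Cfsg.Agent.Lib.Invol.U6Cent.Weights

/-!
Owner: helper13. The natural weight pattern: members act as transvections with totally singular commutator planes,
which are disjoint and cover the singular vectors.
-/

set_option autoImplicit false
set_option linter.unusedSectionVars false
set_option maxRecDepth 100000

namespace CfsgLib.U6Cent

open CfsgLib.Recog.SpFourCent

/-- The element of order three commuting with the standard pair. -/
noncomputable def gam : P43 := ue (1, 0, 1)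

theorem gam_check : fv (cone 0) (1, 0, 1) ≠ 0 ∧ fv (cone 1) (1, 0, 1) ≠ 0 ∧ fv (cone 2) (1, 0, 1) ≠ 0 ∧
    fv (cone 3) (1, 0, 1) ≠ 0 ∧ Mv.diag.sub (1, 0, 1) = ((1, 0, 1) : Par) ∧
    Mv.flip.sub (1, 0, 1) = ((1, 0, 1) : Par) := by decide +kernel

theorem gam_tau : Commute gam tau := by
  have h := Mv.diag.el_ue (1, 0, 1)
  rw [gam_check.2.2.2.2.1, diag_el, mul_inv_eq_iff_eq_mul] at h
  exact h.symm

theorem gam_flip : Commute gam Mv.flip.el := by
  have h := Mv.flip.el_ue (1, 0, 1)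
  rw [gam_check.2.2.2.2.2, mul_inv_eq_iff_eq_mul] at h
  exact h.symm

theorem rot_back : Mv.rot.el * Mv.flip.el * Mv.rot.el⁻¹ = tau := by
  rw [← diag_el]
  exact Mv.el_conj (by decide +kernel)

theorem dual_perm : (Mv.diag.dual (cone 2) = cone 3 ∧ Mv.diag.dual (cone 3) = cone 2) ∧
    (Mv.diag.dual (cone 0) = cone 0 ∧ Mv.diag.dual (cone 1) = cone 1) := by decide +kernel

namespace Act

variable (Φ : Act)
include Φ

theorem R_mem_W (m : Mv) {l : Frm} {v : V} (hv : v ∈ Φ.W (m.dual l)) : Φ.R m.el v ∈ Φ.W l := by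
  have hu : ∀ r w, Φ.U (m.sub r) (Φ.R m.el w) = Φ.R m.el (Φ.U r w) := fun r w => by
    simp only [U]
    rw [← Φ.R_mul, ← Φ.R_mul, ← m.el_ue r, inv_mul_cancel_right]
  refine Φ.mem_W.2 ⟨fun p hp => ?_, fun p hp => ?_⟩
  · obtain ⟨r, rfl⟩ := sub_surj m p
    rw [hu, (Φ.mem_W.1 hv).1 r (by rwa [dual_check])]
  · obtain ⟨r, rfl⟩ := sub_surj m p
    have h2 : m.sub r + m.sub r = m.sub (r + r) := by
      cases m <;> refine Prod.ext ?_ (Prod.ext ?_ ?_) <;> simp [Mv.sub] <;> ring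
    have := congrArg (Φ.R m.el) ((Φ.mem_W.1 hv).2 r (by rwa [dual_check]))
    rw [R_zero] at this
    rw [P, h2, hu, hu, ← this, P, R_add, R_add]

/-- The commutator vectors. -/
@[irreducible] noncomputable def img (g : P43) : Finset V := Finset.univ.image fun v => Φ.R g v + v

theorem mem_img {g : P43} {i : V} : i ∈ Φ.img g ↔ ∃ v, Φ.R g v + v = i := by simp [img]

theorem img_sub (g : P43) : IsSub (Φ.img g) := by
  refine ⟨Φ.mem_img.2 ⟨0, by rw [R_zero, add_zero]⟩, fun {a b} ha hb => ?_⟩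
  obtain ⟨u, rfl⟩ := Φ.mem_img.1 ha
  obtain ⟨v, rfl⟩ := Φ.mem_img.1 hb
  exact Φ.mem_img.2 ⟨u + v, by rw [R_add]; abel⟩

theorem img_conj (g t : P43) : Φ.img (g * t * g⁻¹) = (Φ.img t).image (Φ.R g) := by
  ext i
  simp only [Finset.mem_image, mem_img]
  constructor
  · rintro ⟨v, rfl⟩
    refine ⟨_, ⟨Φ.R g⁻¹ v, rfl⟩, ?_⟩
    rw [R_add, ← Φ.R_mul, ← Φ.R_mul, ← Φ.R_mul, mul_inv_cancel, R_one, mul_assoc]
  · rintro ⟨_, ⟨v, rfl⟩, rfl⟩
    refine ⟨Φ.R g v, ?_⟩
    rw [R_add, ← Φ.R_mul, ← Φ.R_mul, inv_mul_cancel_right]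

theorem orth_weight {l l' : Frm} (hl : l' ≠ 0) (h : ¬ SameLine l' l) {v w : V} (hv : v ∈ Φ.W l) (hw : w ∈ Φ.W l') :
    Φ.B v w = 0 := by
  obtain ⟨s, hs, hs'⟩ := kill_check l' l hl h
  have h1 : ∀ p, Φ.U p v = v → Φ.B v (Φ.U p w) = Φ.B v w := fun p hp => by
    conv_lhs => rw [← hp]
    exact Φ.R_B _ _ _
  have hfix := (Φ.mem_W.1 hv).1 s hs
  have h3 := congrArg (Φ.B v) ((Φ.mem_W.1 hw).2 s hs')
  rw [P, B_add_right, B_add_right, h1 s hfix, h1 _ (by rw [U_add, hfix, hfix]), z2_add_self, zero_add,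
    Φ.B_comm v 0, B_zero] at h3
  exact h3

variable {Φ}

namespace Natural

variable (hN : Φ.Natural)
include hN

theorem W_list (i : Fin 4) {v : V} (hv : v ∈ Φ.W (cone i)) (hne : v ≠ 0) {p : Par} (hp : fv (cone i) p ≠ 0) {w : V}
    (hw : w ∈ Φ.W (cone i)) : w = 0 ∨ w = v ∨ w = Φ.U p v ∨ w = Φ.U (p + p) v := by
  classical
  have h1 := Φ.U_ne hv hne hp
  have h2 : Φ.U (p + p) v ≠ v := fun e => h1 (by
    conv_rhs => rw [← Φ.U_zero v, ← par_three p, add_comm (p + p) p, U_add, e])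
  have h12 : Φ.U p v ≠ Φ.U (p + p) v := fun e => h1 (Φ.R_injective (ue p) (e.trans (Φ.U_add p p v))).symm
  have h3 : Φ.U p v ≠ 0 := fun e => hne (Φ.R_injective (ue p) (e.trans (Φ.R_zero _).symm))
  have h4 : Φ.U (p + p) v ≠ 0 := fun e => hne (Φ.R_injective (ue (p + p)) (e.trans (Φ.R_zero _).symm))
  have hc : ({0, v, Φ.U p v, Φ.U (p + p) v} : Finset V).card = 4 := by
    rw [Finset.card_insert_of_notMem, Finset.card_insert_of_notMem, Finset.card_insert_of_notMem,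
      Finset.card_singleton]
    · simp [h12]
    · simp [h1.symm, h2.symm]
    · simp [hne.symm, h3.symm, h4.symm]
  have hsub : ({0, v, Φ.U p v, Φ.U (p + p) v} : Finset V) ⊆ Φ.W (cone i) := fun x hx => by
    simp only [Finset.mem_insert, Finset.mem_singleton] at hx
    rcases hx with rfl | rfl | rfl | rfl
    exacts [(Φ.W_sub _).zero, hv, Φ.W_U hv p, Φ.W_U hv _]
  rw [← Finset.eq_of_subset_of_card_le hsub (by rw [hc, hN.1 i])] at hw
  simpa using hw

theorem exists_ne (i : Fin 4) : ∃ v ∈ Φ.W (cone i), v ≠ 0 := by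
  obtain ⟨v, hv, hne⟩ := Finset.exists_mem_ne (s := Φ.W (cone i)) (by rw [hN.1 i]; norm_num) 0
  exact ⟨v, hv, hne⟩

/-- The standard member fixes the first two weight spaces. -/
theorem tau_fix {i : Fin 4} (hi : i = 0 ∨ i = 1) {v : V} (hv : v ∈ Φ.W (cone i)) : Φ.R tau v = v := by
  by_cases hne : v = 0
  · rw [hne, R_zero]
  have hp : fv (cone i) (1, 0, 1) ≠ 0 := by
    rcases hi with rfl | rfl
    exacts [gam_check.1, gam_check.2.1]
  have hmem : Φ.R tau v ∈ Φ.W (cone i) := by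
    rw [← diag_el]
    refine Φ.R_mem_W _ ?_
    rcases hi with rfl | rfl
    · rwa [dual_perm.2.1]
    · rwa [dual_perm.2.2]
  have hcomm : ∀ w, Φ.R tau (Φ.U (1, 0, 1) w) = Φ.U (1, 0, 1) (Φ.R tau w) := fun w => by
    show Φ.R tau (Φ.R gam w) = Φ.R gam (Φ.R tau w)
    rw [← Φ.R_mul, ← Φ.R_mul, gam_tau.eq]
  have htt : Φ.R tau (Φ.R tau v) = v := by rw [← Φ.R_mul, sq_T tau_mem, R_one]
  rcases hN.W_list i hv hne hp hmem with e | e | e | e
  · exact absurd (Φ.R_injective _ (e.trans (Φ.R_zero _).symm)) hne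
  · exact e
  · rw [e, hcomm, e, ← U_add] at htt
    exfalso
    exact Φ.U_ne hv hne hp (by
      conv_rhs => rw [← Φ.U_zero v, ← par_three ((1, 0, 1) : Par), add_comm _ ((1, 0, 1) : Par), U_add, htt])
  · rw [e, Φ.U_add, hcomm, hcomm, e, ← U_add, ← U_add,
      show ((1, 0, 1) : Par) + (1, 0, 1) + ((1, 0, 1) + (1, 0, 1)) = (1, 0, 1) by decide] at htt
    exact absurd htt (Φ.U_ne hv hne hp)

/-- The commutator vectors of the standard member. -/
theorem img_tau : Φ.img tau = (Φ.W (cone 2)).image fun w => Φ.R tau w + w := by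
  classical
  ext i
  simp only [mem_img, Finset.mem_image]
  refine ⟨?_, fun ⟨w, _, e⟩ => ⟨w, e⟩⟩
  rintro ⟨v, rfl⟩
  obtain ⟨x, hx, rfl⟩ := hN.2 v
  have h3 : Φ.R tau (x 3) ∈ Φ.W (cone 2) := by
    rw [← diag_el]; refine Φ.R_mem_W _ ?_; rw [dual_perm.1.1]; exact hx 3
  refine ⟨x 2 + Φ.R tau (x 3), (Φ.W_sub _).add (hx 2) h3, ?_⟩
  rw [Fin.sum_univ_four]
  simp only [R_add]
  rw [hN.tau_fix (Or.inl rfl) (hx 0), hN.tau_fix (Or.inr rfl) (hx 1), ← Φ.R_mul, sq_T tau_mem, R_one]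
  have e0 := v_add_self (x 0)
  have e1 := v_add_self (x 1)
  calc Φ.R tau (x 2) + x 3 + (x 2 + Φ.R tau (x 3))
      = (0 : V) + 0 + (Φ.R tau (x 2) + x 3 + (x 2 + Φ.R tau (x 3))) := by rw [add_zero, zero_add]
    _ = x 0 + x 0 + (x 1 + x 1) + (Φ.R tau (x 2) + x 3 + (x 2 + Φ.R tau (x 3))) := by rw [e0, e1]
    _ = _ := by abel

theorem pair_weight {w : V} (hw : w ∈ Φ.W (cone 2)) : Φ.R tau w ∈ Φ.W (cone 3) := by
  rw [← diag_el]; refine Φ.R_mem_W _ ?_; rwa [dual_perm.1.2]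

theorem orth_cone {i j : Fin 4} (h : i ≠ j) {v w : V} (hv : v ∈ Φ.W (cone i)) (hw : w ∈ Φ.W (cone j)) :
    Φ.B v w = 0 := Φ.orth_weight (cone_ne j).1 ((cone_ne j).2 i h) hv hw

theorem inj_pair {v w : V} (hv : v ∈ Φ.W (cone 2)) (hw : w ∈ Φ.W (cone 3)) (h : v + w = 0) : v = 0 := by
  refine Φ.indep cone (fun i j h => (cone_ne i).2 j h) 4 (fun i => if i = 2 then v else if i = 3 then w else 0)
    (Finset.card_le_univ _) (fun i => ?_) ?_ 2
  · fin_cases i <;> simp [hv, hw, (Φ.W_sub _).zero]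
  · simpa [Fin.sum_univ_four] using h

theorem card_img {t : P43} (ht : t ∈ T) : (Φ.img t).card = 4 := by
  classical
  obtain ⟨g, rfl⟩ := exists_conj_T tau_mem ht
  rw [Φ.img_conj, Finset.card_image_of_injective _ (Φ.R_injective g), hN.img_tau,
    Finset.card_image_of_injOn, hN.1]
  intro a ha b hb e
  refine v_add_eq_zero.1 (hN.inj_pair ((Φ.W_sub _).add ha hb) (hN.pair_weight ((Φ.W_sub _).add ha hb)) ?_)
  calc a + b + Φ.R tau (a + b) = (Φ.R tau a + a) + (Φ.R tau b + b) := by rw [R_add]; abel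
    _ = 0 := by rw [show Φ.R tau a + a = Φ.R tau b + b from e, v_add_self]

/-- A vector of a weight space is not singular. -/
theorem q_weight {i : Fin 4} {v : V} (hv : v ∈ Φ.W (cone i)) (hne : v ≠ 0) : Φ.q v = 1 := by
  obtain ⟨p, hp⟩ := move_check (cone i) (cone_ne i).1
  obtain ⟨w, hw, hB⟩ : ∃ w ∈ Φ.W (cone i), Φ.B v w = 1 := by
    by_contra hcon
    push Not at hcon
    refine hne (Φ.nondeg v fun u => ?_)
    obtain ⟨x, hx, rfl⟩ := hN.2 u
    rw [Fin.sum_univ_four, B_add_right, B_add_right, B_add_right]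
    have : ∀ j, Φ.B v (x j) = 0 := fun j => by
      by_cases e : i = j
      · subst e; exact (two_cases _).resolve_right (hcon _ (hx i))
      · exact hN.orth_cone e hv (hx j)
    simp [this]
  have hBp : Φ.B v (Φ.U p v) = 1 := by
    rcases hN.W_list i hv hne hp hw with rfl | rfl | rfl | rfl
    · rw [Φ.B_comm, B_zero] at hB; exact absurd hB zero_ne_one
    · rw [Φ.B_self] at hB; exact absurd hB zero_ne_one
    · exact hB
    · rw [← hB, ← Φ.R_B (ue p) v (Φ.U (p + p) v)]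
      show Φ.B v (Φ.U p v) = Φ.B (Φ.U p v) (Φ.U p (Φ.U (p + p) v))
      rw [← U_add, show p + (p + p) = 0 by rw [← add_assoc, par_three], U_zero, Φ.B_comm]
  have hsum : v + Φ.U p v = Φ.U (p + p) v := by
    have h : v + Φ.U p v + Φ.U (p + p) v = 0 := (Φ.mem_W.1 hv).2 p hp
    exact v_add_eq_zero.1 h
  have h := congrArg Φ.q hsum
  rw [Φ.q_add, show Φ.q (Φ.U (p + p) v) = Φ.q v from Φ.R_q _ _, show Φ.q (Φ.U p v) = Φ.q v from Φ.R_q _ _,
    hBp, z2_add_self, zero_add] at h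
  exact h.symm

theorem img_singular {t : P43} (ht : t ∈ T) {a : V} (ha : a ∈ Φ.img t) : Φ.q a = 0 := by
  obtain ⟨g, rfl⟩ := exists_conj_T tau_mem ht
  rw [Φ.img_conj, Finset.mem_image] at ha
  obtain ⟨b, hb, rfl⟩ := ha
  rw [Φ.R_q]
  rw [hN.img_tau, Finset.mem_image] at hb
  obtain ⟨w, hw, rfl⟩ := hb
  rw [Φ.q_add, Φ.R_q, Φ.B_comm, hN.orth_cone (by decide) hw (hN.pair_weight hw), z2_add_self, add_zero]

theorem img_orth {t : P43} (ht : t ∈ T) {a b : V} (ha : a ∈ Φ.img t) (hb : b ∈ Φ.img t) : Φ.B a b = 0 := by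
  have h := Φ.q_add a b
  rw [hN.img_singular ht ha, hN.img_singular ht hb, hN.img_singular ht ((Φ.img_sub t).add ha hb)] at h
  simpa using h.symm

end Natural

end Act

end CfsgLib.U6Cent
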