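import Cfsg.Agent.Lib.Invol.U6Cent.WeakClosure

/-!
Owner: helper13. Conjugates of `z` in its centralizer outside `Q`: none acts as a product of two commuting
members.
-/

set_option autoImplicit false
set_option linter.unusedSectionVars false

namespace CfsgLib.U6Cent

open Cfsg CfsgLib.ThreeTrans CfsgLib.Recog.SpFourCent

theorem rot_sub : Mv.rot.sub (1, 0, 1) = ((1, 0, 1) : Par) + (1, 0, 1) := by decide +kernel

namespace Act.Natural

variable {Φ : Act} (hN : Φ.Natural)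
include hN

theorem img_pair_singular {a b : P43} (ha : a ∈ T) (hb : b ∈ T) (hab : Commute a b) {i : V}
    (hi : i ∈ Φ.img (a * b)) : Φ.q i = 0 := by
  obtain ⟨x, hx, y, hy, rfl⟩ := Φ.img_mul_subset hab hi
  rw [Φ.q_add, hN.img_singular ha hx, hN.img_singular hb hy, hN.orth_of_commute ha hb hab hx hy]
  simp

theorem img_pair_orth {a b : P43} (ha : a ∈ T) (hb : b ∈ T) (hab : Commute a b) {i k : V}
    (hi : i ∈ Φ.img (a * b)) (hk : k ∈ Φ.img (a * b)) : Φ.B i k = 0 := by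
  have h := Φ.q_add i k
  rw [hN.img_pair_singular ha hb hab hi, hN.img_pair_singular ha hb hab hk,
    hN.img_pair_singular ha hb hab ((Φ.img_sub _).add hi hk)] at h
  simpa using h.symm

theorem gam_moves_tau {w : V} (hw : w ∈ Φ.img tau) (h : Φ.R gam w = w) : w = 0 := by
  classical
  rw [hN.img_tau, Finset.mem_image] at hw
  obtain ⟨x, hx, rfl⟩ := hw
  have hx' : Φ.R gam x ∈ Φ.W (cone 2) := Φ.W_U hx _
  by_contra hne
  have hx0 : x ≠ 0 := fun e => hne (by rw [e, R_zero, add_zero])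
  have hd := (Φ.W_sub _).add hx' hx
  have e : Φ.R tau (Φ.R gam x + x) + (Φ.R gam x + x) = 0 := by
    rw [R_add, ← v_add_eq_zero.2 h]
    have : Φ.R tau (Φ.R gam x) = Φ.R gam (Φ.R tau x) := by rw [← Φ.R_mul, ← Φ.R_mul, gam_tau.eq]
    rw [this, R_add]
    abel
  rw [add_comm] at e
  exact Φ.U_ne hx hx0 (gam_check.2.2.1) (v_add_eq_zero.1 (hN.inj_pair hd (hN.pair_weight hd) e))

theorem gam_moves_flip {w : V} (hw : w ∈ Φ.img Mv.flip.el) (h : Φ.R gam w = w) : w = 0 := by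
  rw [← flip_el, Φ.img_conj, Finset.mem_image] at hw
  obtain ⟨x, hx, rfl⟩ := hw
  have hr : Mv.rot.el * gam = gam * gam * Mv.rot.el := by
    have e := Mv.rot.el_ue (1, 0, 1)
    rw [rot_sub, ue_add, mul_inv_eq_iff_eq_mul] at e
    exact e
  have h2 : Φ.R Mv.rot.el (Φ.R gam x) = Φ.R Mv.rot.el x := by
    rw [← Φ.R_mul, hr, Φ.R_mul, Φ.R_mul, h, h]
  rw [hN.gam_moves_tau hx (Φ.R_injective _ h2), R_zero]

/-- The form between a commutator vector and the rotated vector. -/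
theorem form_rotate {a : P43} (ha : a ∈ T) (hga : Commute gam a)
    (hmov : ∀ w ∈ Φ.img a, Φ.R gam w = w → w = 0) {v : V} (hv : Φ.R a v + v ≠ 0) :
    Φ.B (Φ.R gam v) (Φ.R a v + v) = 1 := by
  have hw : Φ.R a v + v ∈ Φ.img a := Φ.mem_img.2 ⟨v, rfl⟩
  obtain ⟨b, hb, -, -, hall⟩ := hN.exists_basis ha hw hv
  refine (two_cases _).resolve_left fun h0 => ?_
  have hf := hN.formula ha hw hb hall (Φ.R gam v)
  have hgw : Φ.R a (Φ.R gam v) = Φ.R gam (Φ.R a v) := by rw [← Φ.R_mul, ← Φ.R_mul, hga.eq]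
  rw [h0, if_neg (by decide), zero_add, hgw] at hf
  have e : Φ.R gam (Φ.R a v + v) = if Φ.B (Φ.R gam v) b = 1 then Φ.R a v + v else 0 := by
    rw [R_add, hf, add_comm (Φ.R gam v), add_assoc, v_add_self, add_zero]
  split_ifs at e with hb'
  · exact hv (hmov _ hw e)
  · exact hv (Φ.R_injective _ (e.trans (Φ.R_zero gam).symm))

end Act.Natural

namespace Sit

variable {G : Type*} [Group G] [Finite G] {z : G} {Q : Subgroup G} {A : Type*} [Group A]

/-- The natural pattern, `z` weakly closed in `Q`, and no large elementary subgroup in the image. -/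
structure Base (S : Sit z Q A) : Prop where
  nat : S.Φ.Natural
  weak : ∀ g : G, g * z * g⁻¹ ∈ Q → g * z * g⁻¹ = z
  elem : ∀ P : Subgroup A, (∀ a ∈ P, a * a = 1) → Nat.card P ≤ 16

variable {S : Sit z Q A}

theorem member_sq (S : Sit z Q A) {y : G} (hy : IsConj z y) : y * y = 1 := by
  obtain ⟨g, rfl⟩ := isConj_iff.1 hy
  rw [conj_mul, S.h.mul_self_z, mul_one, mul_inv_cancel]

theorem member_conj {y : G} (hy : IsConj z y) (c : G) : IsConj z (c * y * c⁻¹) :=
  hy.trans (isConj_iff.2 ⟨c, rfl⟩)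

theorem member_conj' {y : G} (hy : IsConj z y) (c : G) : IsConj z (c⁻¹ * y * c) :=
  hy.trans (isConj_iff.2 ⟨c⁻¹, by rw [inv_inv]⟩)

theorem self_mem_conjQ (g : G) : g * z * g⁻¹ ∈ S.conjQ g := by
  rw [S.mem_conjQ, show g⁻¹ * (g * z * g⁻¹) * g = z by group]
  exact S.h.z_mem

namespace Base

variable (hS : S.Base)
include hS

theorem eq_z {y : G} (hy : IsConj z y) (hQ : y ∈ Q) : y = z := by
  obtain ⟨g, rfl⟩ := isConj_iff.1 hy
  exact hS.weak g hQ

theorem eq_of_mem_conjQ {g y : G} (hy : IsConj z y) (h : y ∈ S.conjQ g) : y = g * z * g⁻¹ := by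
  rw [← hS.eq_z (member_conj' hy g) (S.mem_conjQ.1 h)]
  group

theorem z_notMem_conjQ {g : G} (hne : g * z * g⁻¹ ≠ z) : z ∉ S.conjQ g := fun h =>
  hne (hS.eq_of_mem_conjQ (IsConj.refl z) h).symm

/-- A conjugate times one of its commutators with `Q` is a conjugate. -/
theorem conj_cm {y : G} (hy : IsConj z y) (q : G) : IsConj z (y * cm y q) := by
  rw [← conj_eq_cm (member_sq S hy)]
  exact member_conj' hy q

theorem cm_notMem {g q : G} (h : cm (g * z * g⁻¹) q ∈ S.conjQ g) : cm (g * z * g⁻¹) q = 1 := by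
  have h1 := hS.eq_of_mem_conjQ (hS.conj_cm (isConj_iff.2 ⟨g, rfl⟩) q) (mul_mem (self_mem_conjQ g) h)
  exact mul_eq_left.1 h1

theorem cm_commute {d q : G} (hd : IsConj z d) (hdz : Commute d z) (hq : q ∈ Q)
    (h0 : S.q (S.ψ (cm d q)) = 0) : Commute (cm d q) d := by
  have hdd := member_sq S hd
  have h1 := member_sq S (hS.conj_cm hd q)
  have h2 := (S.toSetting.sq_one_iff (S.toSetting.cm_mem hdz hdd hq)).2 h0
  generalize cm d q = e at h1 h2
  show e * d = d * e
  calc e * d = (d * d) * (e * d) * (e * e) := by rw [hdd, h2, one_mul, mul_one]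
    _ = d * (d * e * (d * e)) * e := by simp only [mul_assoc]
    _ = d * e := by rw [h1, mul_one]

/-- No conjugate acts as the standard pair. -/
theorem pair_std_false {g : G} (hdz : Commute (g * z * g⁻¹) z)
    (hπ : S.π (g * z * g⁻¹) = S.j (tau * Mv.flip.el)) : False := by
  classical
  have hgQ := self_mem_conjQ (S := S) g
  have hcn := fun q => hS.cm_notMem (g := g) (q := q)
  have hme := fun {y : G} => hS.eq_of_mem_conjQ (g := g) (y := y)
  have hzn := fun h => hS.z_notMem_conjQ (g := g) h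
  have hnorm := fun {a k : G} => S.conjQ_norm (g := g) (a := a) (k := k)
  have hd : IsConj z (g * z * g⁻¹) := isConj_iff.2 ⟨g, rfl⟩
  set d := g * z * g⁻¹ with hd_def
  set u := tau * Mv.flip.el with hu
  have hdd : d * d = 1 := member_sq S hd
  have hu2 : u * u = 1 := by
    rw [hu, flip_comm.symm.mul_mul_mul_comm, sq_T tau_mem, sq_T flip_mem, one_mul]
  have hne : d ≠ z := by
    intro e
    have h1 : S.π d = 1 := by rw [e]; exact S.toSetting.π_of_mem S.h.z_mem
    rw [hπ, ← map_one S.j] at h1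
    exact flip_ne (by rw [eq_inv_of_mul_eq_one_left (S.j_inj h1), inv_T flip_mem])
  have hN := hS.nat
  have hact : ∀ v, S.act d v = S.Φ.R u v := S.act_eq hdz hπ
  set L := S.Φ.img u with hL
  have hLs : IsSub L := S.Φ.img_sub u
  have hLc : L.card = 16 := hN.card_img_pair tau_mem flip_mem flip_comm flip_ne
  have hfixL : ∀ v, S.Φ.R u v = v → v ∈ L := by
    intro v hv
    have hsub : L ⊆ S.toSetting.perp L := fun i hi => S.toSetting.mem_perp.2 fun k hk =>
      hN.img_pair_orth tau_mem flip_mem flip_comm hk hi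
    have hcard := S.toSetting.card_mul_perp hLs
    rw [hLc] at hcard
    rw [Finset.eq_of_subset_of_card_le hsub (by omega), S.toSetting.mem_perp]
    intro k hk
    rw [S.toSetting.B_comm]
    exact (S.Φ.fixed_iff hu2).1 hv k hk
  have hψe : ∀ q ∈ Q, S.ψ (cm d q) = S.Φ.R u (S.ψ q) + S.ψ q := fun q hq => by
    rw [S.toSetting.ψ_cm hdz hdd hq, hact]
  have hecomm : ∀ q ∈ Q, Commute (cm d q) d := fun q hq => by
    refine hS.cm_commute hd hdz hq ?_
    rw [hψe q hq]
    exact hN.img_pair_singular tau_mem flip_mem flip_comm (S.Φ.mem_img.2 ⟨_, rfl⟩)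
  have hzd : Commute z d := hdz.symm
  have hdec : ∀ k ∈ Q, S.ψ k ∈ L → ∃ q ∈ Q, k = cm d q ∨ k = z * cm d q := by
    intro k hk hkL
    obtain ⟨v, hv⟩ := S.Φ.mem_img.1 hkL
    obtain ⟨q, hq, rfl⟩ := S.ψ_surj v
    refine ⟨q, hq, (S.toSetting.ψ_eq_iff (S.toSetting.cm_mem hdz hdd hq) hk).1 ?_⟩
    rw [hψe q hq, hv]
  set P := S.toSetting.pre L hLs with hP
  have hPd : ∀ k ∈ P, Commute k d := fun k hk => by
    obtain ⟨q, hq, rfl | rfl⟩ := hdec k hk.1 hk.2
    exacts [hecomm q hq, hzd.mul_left (hecomm q hq)]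
  set f := S.μHom g P (fun a ha => hd_def ▸ hPd a ha) with hf
  clear_value d
  have him : Nat.card f.range ≤ 16 := hS.elem _ fun a ha => by
    obtain ⟨k, rfl⟩ := ha
    rw [← map_mul, show k * k = 1 from Subtype.ext ((S.toSetting.sq_one_iff k.2.1).2
      (hN.img_pair_singular tau_mem flip_mem flip_comm k.2.2)), map_one]
  obtain ⟨k, hkP, hkQ', hk1⟩ : ∃ k ∈ P, k ∈ S.conjQ g ∧ k ≠ 1 := by
    by_contra hno
    push Not at hno
    have hker : Nat.card f.ker = 1 := by
      rw [Subgroup.card_eq_one, Subgroup.eq_bot_iff_forall]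
      exact fun k hk => Subtype.ext (hno _ k.2 (S.mem_ker_μHom.1 hk))
    have h := f.ker.card_eq_card_quotient_mul_card_subgroup
    rw [Nat.card_congr (QuotientGroup.quotientKerEquivRange f).toEquiv, hker, S.toSetting.card_pre, hLc] at h
    omega
  -- kernel elements are translates of commutators
  have hform : ∀ k ∈ P, k ∈ S.conjQ g → k ≠ 1 → ∃ q ∈ Q, k = z * cm d q := fun k hk hk' hk1 => by
    obtain ⟨q, hq, rfl | rfl⟩ := hdec k hk.1 hk.2
    · exact absurd (hcn q hk') hk1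
    · exact ⟨q, hq, rfl⟩
  obtain ⟨q0, hq0, rfl⟩ := hform k hkP hkQ' hk1
  -- lifts of the centralizer of the pair can be taken to centralize `d`
  have hlift : ∀ r : P43, Commute r u → ∃ c, Commute c z ∧ Commute c d ∧ S.π c = S.j r := by
    intro r hr
    obtain ⟨c, hc, hcπ⟩ := S.exists_lift r
    set p := d * (c * d * c⁻¹) with hp
    have hcd : Commute (c * d * c⁻¹) z := (hc.mul_left hdz).mul_left hc.inv_left
    have hpQ : p ∈ Q := by
      rw [← S.π_eq_one _ (hdz.mul_left hcd), S.π_mul _ _ hdz hcd, S.toSetting.π_conj hc hdz, hcπ, hπ,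
        ← map_inv, ← map_mul, ← map_mul, ← map_mul, ← map_one S.j]
      congr 1
      rw [hr.eq, mul_inv_cancel_right, hu2]
    have hpp : d * p * d⁻¹ = p⁻¹ := by
      rw [hp, mul_inv_rev, inv_eq_of_mul_eq_one_left hdd,
        inv_eq_of_mul_eq_one_left (member_sq S (member_conj hd c))]
      simp only [← mul_assoc, hdd, one_mul]
    have hpL : S.ψ p ∈ L := hfixL _ (by
      rw [← hact, ← S.ψ_conj d hdz p hpQ, hpp, S.toSetting.ψ_inv hpQ])
    have hcd' : c * d * c⁻¹ = d * p := by rw [hp, ← mul_assoc, hdd, one_mul]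
    obtain ⟨q, hq, hor⟩ := hdec p hpQ hpL
    have hqz := S.h.commute_z hq
    refine ⟨q * c, (hqz : Commute q z).mul_left hc, ?_, by
      rw [S.π_mul _ _ hqz hc, S.toSetting.π_of_mem hq, one_mul, hcπ]⟩
    refine mul_inv_eq_iff_eq_mul.1 ?_
    rw [show q * c * d * (q * c)⁻¹ = q * (c * d * c⁻¹) * q⁻¹ by group, hcd']
    rcases hor with e | e
    · rw [e, ← conj_eq_cm hdd]; group
    · exfalso
      have hzd' : q * (d * p) * q⁻¹ = z * d := by
        calc q * (d * p) * q⁻¹ = q * ((d * z) * cm d q) * q⁻¹ := by rw [e, ← mul_assoc d z]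
          _ = q * (z * (d * cm d q)) * q⁻¹ := by rw [hdz.eq, mul_assoc z]
          _ = q * (z * (q⁻¹ * d * q)) * q⁻¹ := by rw [← conj_eq_cm hdd]
          _ = q * z * q⁻¹ * d := by group
          _ = z * d := by rw [hqz, mul_inv_cancel_right]
      have hmem : IsConj z (z * d) := by
        rw [← hzd', ← hcd']; exact member_conj (member_conj hd c) q
      have hk : IsConj z (d * (z * cm d q0)) := by
        have h1 := member_conj' hmem q0
        rwa [show q0⁻¹ * (z * d) * q0 = (q0⁻¹ * z * q0) * (q0⁻¹ * d * q0) by group,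
          mul_assoc q0⁻¹ z q0, ← S.h.commute_z hq0, inv_mul_cancel_left, conj_eq_cm hdd, ← mul_assoc, ← hdz.eq,
          mul_assoc] at h1
      exact hk1 (mul_eq_left.1 (hme hk (mul_mem hgQ hkQ')))
  -- the form on two kernel elements
  set v0 := S.ψ q0 with hv0
  set i0 := S.Φ.R u v0 + v0 with hi0
  have hψk : S.ψ (z * cm d q0) = i0 := by
    rw [S.toSetting.ψ_zmul (S.toSetting.cm_mem hdz hdd hq0), hψe q0 hq0]
  have hi0ne : i0 ≠ 0 := fun e => by
    rcases S.h.eq_or ((S.ψ_eq_zero _ hkP.1).1 (hψk.trans e)) with h | h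
    · exact hk1 h
    · rw [h] at hkQ'; exact hzn hne hkQ'
  have hbeta : ∀ r : P43, Commute r u → S.Φ.R r i0 ≠ i0 → S.Φ.B (S.Φ.R r v0) i0 = 1 := by
    intro r hr hmove
    obtain ⟨c, hcz, hcd, hcπ⟩ := hlift r hr
    set q2 := c * q0 * c⁻¹ with hq2def
    have hq2 : q2 ∈ Q := S.h.conj_mem hcz hq0
    have hψ2 : S.ψ q2 = S.Φ.R r v0 := by rw [hq2def, S.ψ_conj c hcz q0 hq0, S.act_eq hcz hcπ]
    have hkc : c * (z * cm d q0) * c⁻¹ = z * cm d q2 := by
      have e1 : c * cm d q0 * c⁻¹ = cm d q2 := by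
        have e : d = c * d * c⁻¹ := by rw [hcd.eq, mul_inv_cancel_right]
        rw [hq2def]
        simp only [cm]
        nth_rewrite 3 4 [e]
        group
      rw [show c * (z * cm d q0) * c⁻¹ = (c * z * c⁻¹) * (c * cm d q0 * c⁻¹) by group, e1, hcz.eq,
        mul_inv_cancel_right]
    have hk2Q : z * cm d q2 ∈ S.conjQ g := by
      rw [← hkc]; exact hnorm hcd hkQ'
    rcases two_cases (S.Φ.B (S.Φ.R r v0) i0) with hB | hB
    · exfalso
      have he0 := S.toSetting.cm_mem hdz hdd hq0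
      have he2 := S.toSetting.cm_mem hdz hdd hq2
      have hcomm : Commute q2 (cm d q0) := (S.toSetting.sq_mul_sq hq2 he0).1 (by
        rw [hψ2, hψe q0 hq0]; exact hB)
      have he : cm d (q0 * q2) = z * cm d q0 * (z * cm d q2) := by
        rw [cm_mul hdd, show q2⁻¹ * cm d q0 * q2 = cm d q0 by rw [mul_assoc, ← hcomm.eq, inv_mul_cancel_left]]
        have hc2 : Commute (cm d q2) (cm d q0) := (S.toSetting.sq_mul_sq he2 he0).1 (by
          rw [hψe q2 hq2, hψe q0 hq0]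
          exact hN.img_pair_orth tau_mem flip_mem flip_comm (S.Φ.mem_img.2 ⟨_, rfl⟩) (S.Φ.mem_img.2 ⟨_, rfl⟩))
        have hz0 : cm d q0 * z = z * cm d q0 := S.h.commute_z he0
        calc cm d q2 * cm d q0 = cm d q0 * cm d q2 := hc2.eq
          _ = (z * z) * (cm d q0 * cm d q2) := by rw [S.h.mul_self_z, one_mul]
          _ = z * (z * cm d q0) * cm d q2 := by simp only [mul_assoc]
          _ = z * (cm d q0 * z) * cm d q2 := by rw [hz0]
          _ = _ := by simp only [mul_assoc]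
      have h1 := hcn _ (he ▸ mul_mem hkQ' hk2Q)
      rw [he] at h1
      have hψ' := congrArg S.ψ (eq_inv_of_mul_eq_one_left h1)
      rw [S.toSetting.ψ_inv (mul_mem S.h.z_mem he2), hψk, S.toSetting.ψ_zmul he2, hψe q2 hq2, hψ2] at hψ'
      refine hmove ?_
      nth_rewrite 1 [hi0]
      rw [S.Φ.R_add, ← S.Φ.R_mul, hr.eq, S.Φ.R_mul]
      exact hψ'.symm
    · exact hB
  -- the two parts
  set wa := S.Φ.R tau v0 + v0 with hwa
  set wb := S.Φ.R Mv.flip.el v0 + v0 with hwb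
  have hwaI : wa ∈ S.Φ.img tau := S.Φ.mem_img.2 ⟨_, rfl⟩
  have hwbI : wb ∈ S.Φ.img Mv.flip.el := S.Φ.mem_img.2 ⟨_, rfl⟩
  have hi : i0 = wa + wb := by
    have hfix : S.Φ.R tau wb = wb := hN.fix_of_commute flip_mem tau_mem flip_comm.symm hwbI
    rw [hi0, hu, S.Φ.R_mul, ← hfix, hwa, hwb, S.Φ.R_add]
    calc S.Φ.R tau (S.Φ.R Mv.flip.el v0) + v0
        = S.Φ.R tau (S.Φ.R Mv.flip.el v0) + v0 + (S.Φ.R tau v0 + S.Φ.R tau v0) := by rw [v_add_self, add_zero]
      _ = _ := by abel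
  have hgu : Commute gam u := gam_tau.mul_right gam_flip
  have hsplit : ∀ {x y : V}, x ∈ S.Φ.img tau → y ∈ S.Φ.img Mv.flip.el → x + y = 0 → x = 0 :=
    fun {x y} hx hy e => hN.disjoint tau_mem flip_mem flip_ne hx ((v_add_eq_zero.1 e) ▸ hy)
  have hgmove : S.Φ.R gam i0 ≠ i0 := by
    intro e
    rw [hi, S.Φ.R_add] at e
    have hga := (S.Φ.img_sub _).add (S.Φ.R_img_of_commute gam_tau hwaI) hwaI
    have hgb := (S.Φ.img_sub _).add (S.Φ.R_img_of_commute gam_flip hwbI) hwbI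
    have h1 : (S.Φ.R gam wa + wa) + (S.Φ.R gam wb + wb) = 0 := by
      rw [← v_add_eq_zero.2 e]; abel
    have ha0 := hN.gam_moves_tau hwaI (v_add_eq_zero.1 (hsplit hga hgb h1))
    rw [ha0, S.Φ.R_zero, zero_add, zero_add] at h1
    exact hi0ne (by rw [hi, ha0, hN.gam_moves_flip hwbI (v_add_eq_zero.1 h1), add_zero])
  have hB := hbeta gam hgu hgmove
  rw [hi, S.Φ.B_add_right] at hB
  have hru : Commute Mv.rot.el u := by
    show Mv.rot.el * u = u * Mv.rot.el
    rw [← mul_inv_eq_iff_eq_mul, hu, show Mv.rot.el * (tau * Mv.flip.el) * Mv.rot.el⁻¹ =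
      (Mv.rot.el * tau * Mv.rot.el⁻¹) * (Mv.rot.el * Mv.flip.el * Mv.rot.el⁻¹) by group, flip_el, rot_back,
      flip_comm.eq]
  have hrtau : ∀ x, S.Φ.R tau (S.Φ.R Mv.rot.el x) = S.Φ.R Mv.rot.el (S.Φ.R Mv.flip.el x) := fun x => by
    rw [← S.Φ.R_mul, ← S.Φ.R_mul, ← rot_back, inv_mul_cancel_right]
  have hrflip : ∀ x, S.Φ.R Mv.flip.el (S.Φ.R Mv.rot.el x) = S.Φ.R Mv.rot.el (S.Φ.R tau x) := fun x => by
    rw [← S.Φ.R_mul, ← S.Φ.R_mul, ← flip_el, inv_mul_cancel_right]
  have hrot_a : S.Φ.R Mv.rot.el wa ∈ S.Φ.img Mv.flip.el := by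
    rw [← flip_el, Act.img_conj]; exact Finset.mem_image_of_mem _ hwaI
  have hrot_b : S.Φ.R Mv.rot.el wb ∈ S.Φ.img tau := by
    rw [← rot_back, Act.img_conj]; exact Finset.mem_image_of_mem _ hwbI
  by_cases ha : wa = 0
  · have hb : wb ≠ 0 := fun e => hi0ne (by rw [hi, ha, e, add_zero])
    have hm : S.Φ.R Mv.rot.el i0 ≠ i0 := fun e => by
      rw [hi, ha, zero_add] at e
      exact hb (hN.disjoint tau_mem flip_mem flip_ne (e ▸ hrot_b) hwbI)
    have h := hbeta _ hru hm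
    rw [hi, ha, zero_add] at h
    have hfix : S.Φ.R Mv.flip.el (S.Φ.R Mv.rot.el v0) = S.Φ.R Mv.rot.el v0 := by
      rw [hrflip, v_add_eq_zero.1 (show S.Φ.R tau v0 + v0 = 0 from ha)]
    rw [(S.Φ.fixed_iff (sq_T flip_mem)).1 hfix wb hwbI] at h
    exact zero_ne_one h
  · by_cases hb : wb = 0
    · have hm : S.Φ.R Mv.rot.el i0 ≠ i0 := fun e => by
        rw [hi, hb, add_zero] at e
        exact ha (hN.disjoint tau_mem flip_mem flip_ne hwaI (e ▸ hrot_a))
      have h := hbeta _ hru hm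
      rw [hi, hb, add_zero] at h
      have hfix : S.Φ.R tau (S.Φ.R Mv.rot.el v0) = S.Φ.R Mv.rot.el v0 := by
        rw [hrtau, v_add_eq_zero.1 (show S.Φ.R Mv.flip.el v0 + v0 = 0 from hb)]
      rw [(S.Φ.fixed_iff (sq_T tau_mem)).1 hfix wa hwaI] at h
      exact zero_ne_one h
    · rw [hN.form_rotate tau_mem gam_tau (fun w => hN.gam_moves_tau) ha,
        hN.form_rotate flip_mem gam_flip (fun w => hN.gam_moves_flip) hb] at hB
      exact absurd hB (by decide)

/-- No conjugate acts as a product of two commuting members. -/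
theorem pair_false {y : G} (hy : IsConj z y) (hyz : Commute y z) {a b : P43} (ha : a ∈ T) (hb : b ∈ T)
    (hab : Commute a b) (hne : a ≠ b) (hπ : S.π y = S.j (a * b)) : False := by
  obtain ⟨h, hh⟩ := isConj_iff.1 (pair_isConj ha hb hab hne tau_mem flip_mem flip_comm flip_ne)
  obtain ⟨c, hc, hcπ⟩ := S.exists_lift h
  obtain ⟨g, rfl⟩ := isConj_iff.1 hy
  have e : c * g * z * (c * g)⁻¹ = c * (g * z * g⁻¹) * c⁻¹ := by group
  refine hS.pair_std_false (g := c * g) ?_ ?_
  · rw [e]; exact (hc.mul_left hyz).mul_left hc.inv_left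
  · rw [e, S.toSetting.π_conj hc hyz, hcπ, hπ, ← map_inv, ← map_mul, ← map_mul, hh]

end Base

end Sit

end CfsgLib.U6Cent
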