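import Cfsg.Agent.Lib.Invol.U6Cent.Natural

/-!
Owner: helper13. The planes of the members in the natural pattern: disjointness, orthogonality, and the cover of
the singular vectors.
-/

set_option autoImplicit false
set_option linter.unusedSectionVars false
set_option maxRecDepth 100000

namespace CfsgLib.U6Cent

open CfsgLib.Recog.SpFourCent

theorem pair_isConj {a b c d : P43} (ha : a ∈ T) (hb : b ∈ T) (hab : Commute a b) (hne : a ≠ b) (hc : c ∈ T)
    (hd : d ∈ T) (hcd : Commute c d) (hne' : c ≠ d) : IsConj (a * b) (c * d) := by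
  obtain ⟨K, hK, hf⟩ := exists_numbering
  have key : ∀ {a b : P43}, a ∈ T → b ∈ T → Commute a b → a ≠ b → IsConj (K.psi 74) (a * b) := by
    intro a b ha hb hab hne
    have h1 : a * b ≠ 1 := fun e => hne (by rw [eq_inv_of_mul_eq_one_left e, inv_T hb])
    have h2 : orderOf (a * b) = 2 := orderOf_eq_prime
      (by rw [pow_two, hab.symm.mul_mul_mul_comm, sq_T ha, sq_T hb, one_mul]) h1
    exact (hf.cover _ h2).resolve_left fun h => mul_notMem_T ha hb hab hne ((mem_T_iff hK).2 h)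
  exact (key ha hb hab hne).symm.trans (key hc hd hcd hne')

namespace Act

variable (Φ : Act)
include Φ

/-- The fixed vectors are the vectors orthogonal to the commutators. -/
theorem fixed_iff {t : P43} (ht : t * t = 1) {v : V} : Φ.R t v = v ↔ ∀ a ∈ Φ.img t, Φ.B v a = 0 := by
  constructor
  · intro h a ha
    obtain ⟨u, rfl⟩ := Φ.mem_img.1 ha
    rw [B_add_right]
    conv_lhs => arg 1; rw [← h]
    rw [R_B, z2_add_self]
  · intro h
    refine v_add_eq_zero.1 (Φ.nondeg _ fun u => ?_)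
    rw [Φ.B_add, show Φ.B (Φ.R t v) u = Φ.B v (Φ.R t u) by
      rw [← Φ.R_B t v (Φ.R t u), ← Φ.R_mul, ht, R_one], ← B_add_right]
    exact h _ (Φ.mem_img.2 ⟨u, rfl⟩)

theorem img_mul_subset {a b : P43} (h : Commute a b) {i : V} (hi : i ∈ Φ.img (a * b)) :
    ∃ x ∈ Φ.img a, ∃ y ∈ Φ.img b, x + y = i := by
  obtain ⟨v, rfl⟩ := Φ.mem_img.1 hi
  refine ⟨Φ.R a v + v, Φ.mem_img.2 ⟨v, rfl⟩, Φ.R a (Φ.R b v + v), Φ.mem_img.2 ⟨Φ.R a v, ?_⟩, ?_⟩
  · rw [R_add, ← Φ.R_mul, ← Φ.R_mul, h.eq]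
  · rw [R_add, ← Φ.R_mul]
    have := v_add_self (Φ.R a v)
    calc Φ.R a v + v + (Φ.R (a * b) v + Φ.R a v) = Φ.R (a * b) v + v + (Φ.R a v + Φ.R a v) := by abel
      _ = _ := by rw [this, add_zero]

theorem R_img_of_commute {g t : P43} (h : Commute g t) {i : V} (hi : i ∈ Φ.img t) : Φ.R g i ∈ Φ.img t := by
  have e : g * t * g⁻¹ = t := by rw [h.eq, mul_inv_cancel_right]
  have h1 := Finset.mem_image_of_mem (Φ.R g) hi
  rwa [← Φ.img_conj, e] at h1

variable {Φ}

namespace Natural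

variable (hN : Φ.Natural)
include hN

/-- The element of order three permutes the three commutator vectors of a member cyclically. -/
theorem exists_rotate {t : P43} (ht : t ∈ T) {a b : V} (ha : a ∈ Φ.img t) (ha0 : a ≠ 0) (hb : b ∈ Φ.img t)
    (hb0 : b ≠ 0) : ∃ g, Commute g t ∧ Φ.R g a = b := by
  classical
  obtain ⟨c, rfl⟩ := exists_conj_T tau_mem ht
  rw [Φ.img_conj, Finset.mem_image] at ha hb
  obtain ⟨a, ha, rfl⟩ := ha
  obtain ⟨b, hb, rfl⟩ := hb
  suffices h : ∃ g, Commute g tau ∧ Φ.R g a = b by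
    obtain ⟨g, hg, e⟩ := h
    refine ⟨c * g * c⁻¹, (Commute.conj_iff c).2 hg, ?_⟩
    rw [← Φ.R_mul, inv_mul_cancel_right, Φ.R_mul, e]
  rw [hN.img_tau, Finset.mem_image] at ha hb
  obtain ⟨v, hv, rfl⟩ := ha
  obtain ⟨w, hw, rfl⟩ := hb
  have hv0 : v ≠ 0 := fun e => ha0 (by rw [e, R_zero, add_zero, R_zero])
  have hw0 : w ≠ 0 := fun e => hb0 (by rw [e, R_zero, add_zero, R_zero])
  have key : ∀ x, Φ.R tau (Φ.R gam x) = Φ.R gam (Φ.R tau x) := fun x => by rw [← Φ.R_mul, ← Φ.R_mul, gam_tau.eq]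
  rcases hN.W_list 2 hv hv0 (p := (1, 0, 1)) gam_check.2.2.1 hw with e | e | e | e
  · exact absurd e hw0
  · exact ⟨1, Commute.one_left _, by rw [e, R_one]⟩
  · refine ⟨gam, gam_tau, ?_⟩
    subst e
    rw [R_add, ← key]
    rfl
  · refine ⟨gam * gam, gam_tau.mul_left gam_tau, ?_⟩
    subst e
    rw [U_add, Φ.R_mul, R_add, R_add, ← key, ← key]
    rfl

theorem card_img_pair {a b : P43} (ha : a ∈ T) (hb : b ∈ T) (hab : Commute a b) (hne : a ≠ b) :
    (Φ.img (a * b)).card = 16 := by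
  classical
  obtain ⟨g, hg⟩ := isConj_iff.1 (pair_isConj tau_mem flip_mem flip_comm flip_ne ha hb hab hne)
  rw [← hg, Φ.img_conj, Finset.card_image_of_injective _ (Φ.R_injective g)]
  refine le_antisymm ?_ ?_
  · have h : Φ.img (tau * Mv.flip.el) ⊆ ((Φ.img tau) ×ˢ (Φ.img Mv.flip.el)).image fun p => p.1 + p.2 := by
      intro i hi
      obtain ⟨x, hx, y, hy, e⟩ := Φ.img_mul_subset flip_comm hi
      exact Finset.mem_image.2 ⟨(x, y), Finset.mem_product.2 ⟨hx, hy⟩, e⟩
    have := (Finset.card_le_card h).trans Finset.card_image_le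
    rwa [Finset.card_product, hN.card_img tau_mem, hN.card_img flip_mem] at this
  · have hperm : Mv.flip.dual (cone 1) = cone 0 ∧ Mv.flip.dual (cone 2) = cone 2 ∧
        Mv.flip.dual (cone 3) = cone 3 := by decide +kernel
    have h0 : ∀ x ∈ Φ.W (cone 0), Φ.R (tau * Mv.flip.el) x ∈ Φ.W (cone 1) := fun x hx => by
      have h : Φ.R Mv.flip.el x ∈ Φ.W (cone 1) := Φ.R_mem_W _ (by rwa [hperm.1])
      rwa [Φ.R_mul, hN.tau_fix (Or.inr rfl) h]
    have h2 : ∀ x ∈ Φ.W (cone 2), Φ.R (tau * Mv.flip.el) x ∈ Φ.W (cone 3) := fun x hx => by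
      rw [Φ.R_mul]
      exact hN.pair_weight (Φ.R_mem_W _ (by rwa [hperm.2.1]))
    have hsub : ((Φ.W (cone 0)) ×ˢ (Φ.W (cone 2))).image
        (fun p => Φ.R (tau * Mv.flip.el) (p.1 + p.2) + (p.1 + p.2)) ⊆ Φ.img (tau * Mv.flip.el) := fun i hi => by
      obtain ⟨p, -, rfl⟩ := Finset.mem_image.1 hi
      exact Φ.mem_img.2 ⟨_, rfl⟩
    refine le_trans ?_ (Finset.card_le_card hsub)
    rw [Finset.card_image_of_injOn, Finset.card_product, hN.1, hN.1]
    rintro ⟨x, y⟩ hp ⟨x', y'⟩ hp' e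
    rw [Finset.mem_coe, Finset.mem_product] at hp hp'
    have hx := (Φ.W_sub _).add hp.1 hp'.1
    have hy := (Φ.W_sub _).add hp.2 hp'.2
    have hz : ∑ i, (![x + x', Φ.R (tau * Mv.flip.el) (x + x'), y + y', Φ.R (tau * Mv.flip.el) (y + y')] : Fin 4 → V) i
        = 0 := by
      rw [Fin.sum_univ_four]
      simp only [Matrix.cons_val_zero, Matrix.cons_val_one, Matrix.cons_val, R_add]
      simp only [R_add] at e
      calc _ = (Φ.R (tau * Mv.flip.el) x + Φ.R (tau * Mv.flip.el) y + (x + y)) +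
          (Φ.R (tau * Mv.flip.el) x' + Φ.R (tau * Mv.flip.el) y' + (x' + y')) := by abel
        _ = 0 := by rw [e, v_add_self]
    have h := Φ.indep cone (fun i j h => (cone_ne i).2 j h) 4 _ (Finset.card_le_univ _) (fun i => ?_) hz
    · exact Prod.ext (v_add_eq_zero.1 (h 0)) (v_add_eq_zero.1 (h 2))
    · fin_cases i
      exacts [hx, h0 _ hx, hy, h2 _ hy]

theorem disjoint_commute {s t : P43} (hs : s ∈ T) (ht : t ∈ T) (hc : Commute s t) (hne : s ≠ t) {a : V}
    (h1 : a ∈ Φ.img s) (h2 : a ∈ Φ.img t) : a = 0 := by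
  classical
  by_contra ha
  have hsub : Φ.img (s * t) ⊆ ((Φ.img s) ×ˢ (Φ.img t)).image fun p => p.1 + p.2 := by
    intro i hi
    obtain ⟨x, hx, y, hy, e⟩ := Φ.img_mul_subset hc hi
    exact Finset.mem_image.2 ⟨(x, y), Finset.mem_product.2 ⟨hx, hy⟩, e⟩
  have h16 : ((Φ.img s) ×ˢ (Φ.img t)).card = 16 := by rw [Finset.card_product, hN.card_img hs, hN.card_img ht]
  have hlt := (Finset.card_le_card hsub)
  rw [hN.card_img_pair hs ht hc hne] at hlt
  have hinj := Finset.card_image_iff.1 (le_antisymm Finset.card_image_le (h16 ▸ hlt))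
  have e := hinj (x₁ := (a, a)) (Finset.mem_coe.2 (Finset.mem_product.2 ⟨h1, h2⟩)) (x₂ := (0, 0))
    (Finset.mem_coe.2 (Finset.mem_product.2 ⟨(Φ.img_sub s).zero, (Φ.img_sub t).zero⟩))
    (show a + a = (0 : V) + 0 by rw [v_add_self, add_zero])
  exact ha (congrArg Prod.fst e)

theorem exists_basis {t : P43} (ht : t ∈ T) {a : V} (ha : a ∈ Φ.img t) (ha0 : a ≠ 0) :
    ∃ b ∈ Φ.img t, b ≠ 0 ∧ b ≠ a ∧ ∀ x ∈ Φ.img t, x = 0 ∨ x = a ∨ x = b ∨ x = a + b := by
  classical
  obtain ⟨b, hb, hb'⟩ := Finset.exists_mem_notMem_of_card_lt_card (s := ({0, a} : Finset V)) (t := Φ.img t)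
    (lt_of_le_of_lt Finset.card_le_two (by rw [hN.card_img ht]; norm_num))
  simp only [Finset.mem_insert, Finset.mem_singleton, not_or] at hb'
  refine ⟨b, hb, hb'.1, hb'.2, fun x hx => ?_⟩
  have hc : ({0, a, b, a + b} : Finset V).card = 4 := by
    rw [Finset.card_insert_of_notMem, Finset.card_insert_of_notMem, Finset.card_insert_of_notMem,
      Finset.card_singleton]
    · simp [ha0]
    · simp [Ne.symm hb'.2, hb'.1]
    · simp [ha0.symm, Ne.symm hb'.1]
      exact fun e => hb'.2 (v_add_eq_zero.1 e.symm).symm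
  have hsub : ({0, a, b, a + b} : Finset V) ⊆ Φ.img t := fun y hy => by
    simp only [Finset.mem_insert, Finset.mem_singleton] at hy
    rcases hy with rfl | rfl | rfl | rfl
    exacts [(Φ.img_sub t).zero, ha, hb, (Φ.img_sub t).add ha hb]
  rw [← Finset.eq_of_subset_of_card_le hsub (by rw [hc, hN.card_img ht])] at hx
  simpa using hx

/-- A member is the transvection of its plane. -/
theorem formula {t : P43} (ht : t ∈ T) {a b : V} (ha : a ∈ Φ.img t) (hb : b ∈ Φ.img t)
    (hall : ∀ x ∈ Φ.img t, x = 0 ∨ x = a ∨ x = b ∨ x = a + b) (v : V) :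
    Φ.R t v = v + ((if Φ.B v a = 1 then b else 0) + if Φ.B v b = 1 then a else 0) := by
  have hf : Φ.R t v + v ∈ Φ.img t := Φ.mem_img.2 ⟨v, rfl⟩
  have hB : Φ.B v (Φ.R t v + v) = 0 := by
    have h := Φ.q_add v (Φ.R t v + v)
    rw [show v + (Φ.R t v + v) = Φ.R t v by rw [add_comm (Φ.R t v) v, v_cancel], Φ.R_q, hN.img_singular ht hf,
      add_zero, left_eq_add] at h
    exact h
  have hfix : Φ.R t v + v = 0 ↔ Φ.B v a = 0 ∧ Φ.B v b = 0 := by
    rw [v_add_eq_zero, Φ.fixed_iff (sq_T ht)]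
    refine ⟨fun h => ⟨h a ha, h b hb⟩, fun h x hx => ?_⟩
    rcases hall x hx with rfl | rfl | rfl | rfl
    exacts [by rw [Φ.B_comm, B_zero], h.1, h.2, by rw [B_add_right, h.1, h.2, add_zero]]
  have e : Φ.R t v = v + (Φ.R t v + v) := by rw [add_comm (Φ.R t v) v, v_cancel]
  rw [e]
  congr 1
  generalize Φ.R t v + v = f at hf hB hfix
  rcases two_cases (Φ.B v a) with h1 | h1 <;> rcases two_cases (Φ.B v b) with h2 | h2 <;>
    rw [h1, h2] <;> rw [h1, h2] at hfix <;> simp at hfix ⊢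
  · exact hfix
  · rcases hall f hf with rfl | rfl | rfl | rfl
    · exact absurd rfl hfix
    · rfl
    · rw [h2] at hB; exact absurd hB one_ne_zero
    · rw [B_add_right, h1, h2] at hB; exact absurd hB (by decide)
  · rcases hall f hf with rfl | rfl | rfl | rfl
    · exact absurd rfl hfix
    · rw [h1] at hB; exact absurd hB one_ne_zero
    · rfl
    · rw [B_add_right, h1, h2] at hB; exact absurd hB (by decide)
  · rcases hall f hf with rfl | rfl | rfl | rfl
    · exact absurd rfl hfix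
    · rw [h1] at hB; exact absurd hB one_ne_zero
    · rw [h2] at hB; exact absurd hB one_ne_zero
    · rw [add_comm]

theorem commute_of_orth {s t : P43} (hs : s ∈ T) (ht : t ∈ T)
    (h : ∀ a ∈ Φ.img s, ∀ b ∈ Φ.img t, Φ.B a b = 0) : Commute s t := by
  have key : ∀ {s t : P43}, s * s = 1 → (∀ a ∈ Φ.img s, ∀ b ∈ Φ.img t, Φ.B b a = 0) → ∀ v,
      Φ.R (s * t) v = v + (Φ.R s v + v) + (Φ.R t v + v) := fun {s t} hs h v => by
    have hfix : Φ.R s (Φ.R t v + v) = Φ.R t v + v := (Φ.fixed_iff hs).2 fun a ha =>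
      h a ha _ (Φ.mem_img.2 ⟨v, rfl⟩)
    rw [R_add] at hfix
    rw [Φ.R_mul]
    calc Φ.R s (Φ.R t v) = Φ.R s (Φ.R t v) + Φ.R s v + Φ.R s v := by rw [add_assoc, v_add_self, add_zero]
      _ = Φ.R t v + v + Φ.R s v := by rw [hfix]
      _ = _ := by
        have := v_add_self v
        calc Φ.R t v + v + Φ.R s v = Φ.R t v + v + Φ.R s v + (v + v) := by rw [this, add_zero]
          _ = _ := by abel
  have e := Φ.faithful ((t * s)⁻¹ * (s * t)) fun v => by
    have h1 := key (sq_T hs) (fun a ha b hb => by rw [Φ.B_comm]; exact h a ha b hb) v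
    have h2 := key (sq_T ht) (fun a ha b hb => h b hb a ha) v
    have e12 : Φ.R (s * t) v = Φ.R (t * s) v := by rw [h1, h2]; abel
    rw [Φ.R_mul, e12, ← Φ.R_mul, inv_mul_cancel, R_one]
  exact (inv_mul_eq_one.1 e).symm

/-- Planes of distinct members meet trivially. -/
theorem disjoint {s t : P43} (hs : s ∈ T) (ht : t ∈ T) (hne : s ≠ t) {w : V} (h1 : w ∈ Φ.img s)
    (h2 : w ∈ Φ.img t) : w = 0 := by
  by_cases hc : Commute s t
  · exact hN.disjoint_commute hs ht hc hne h1 h2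
  by_contra hw
  obtain ⟨b, hb, -, -, hall⟩ := hN.exists_basis hs h1 hw
  obtain ⟨c, hcm, -, -, hall'⟩ := hN.exists_basis ht h2 hw
  have hww : Φ.B w w = 0 := Φ.B_self w
  have hwc : Φ.B w c = 0 := hN.img_orth ht h2 hcm
  have hwb : Φ.B w b = 0 := hN.img_orth hs h1 hb
  rcases two_cases (Φ.B b c) with hbc | hbc
  · refine hc (hN.commute_of_orth hs ht fun x hx y hy => ?_)
    have hbw : Φ.B b w = 0 := by rw [Φ.B_comm, hwb]
    have h0 : ∀ u, Φ.B u 0 = 0 := fun u => by rw [Φ.B_comm, B_zero]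
    rcases hall x hx with e | e | e | e <;> rcases hall' y hy with e' | e' | e' | e' <;> rw [e, e'] <;>
      simp [Φ.B_zero, Φ.B_add, B_add_right, h0, hbw, hww, hwc, hwb, hbc]
  · have tc : Φ.R t c = c := (Φ.fixed_iff (sq_T ht)).2 fun a ha => hN.img_orth ht hcm ha
    have tw : Φ.R t w = w := (Φ.fixed_iff (sq_T ht)).2 fun a ha => hN.img_orth ht h2 ha
    have sw : Φ.R s w = w := (Φ.fixed_iff (sq_T hs)).2 fun a ha => hN.img_orth hs h1 ha
    have sc : Φ.R s c = c + w := by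
      rw [hN.formula hs h1 hb hall c, Φ.B_comm c w, hwc, Φ.B_comm c b, hbc]
      simp
    have hp := congrArg (fun g => Φ.R g c) (pow_three hs ht hc)
    simp only [pow_succ, pow_zero, one_mul, Φ.R_mul, R_one, tc, sc, tw, sw, R_add] at hp
    have e : c + w + w + w = c + w := by rw [add_assoc c w w, v_add_self, add_zero]
    rw [e] at hp
    exact hw (add_eq_left.1 hp)

/-- Planes of commuting members are orthogonal. -/
theorem orth_of_commute {s t : P43} (hs : s ∈ T) (ht : t ∈ T) (hc : Commute s t) {a b : V} (ha : a ∈ Φ.img s)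
    (hb : b ∈ Φ.img t) : Φ.B a b = 0 := by
  by_cases hne : s = t
  · subst hne; exact hN.img_orth hs ha hb
  refine (Φ.fixed_iff (sq_T ht)).1 (v_add_eq_zero.1 ?_) b hb
  exact hN.disjoint hs ht hne ((Φ.img_sub s).add (Φ.R_img_of_commute hc.symm ha) ha) (Φ.mem_img.2 ⟨a, rfl⟩)

/-- A member moves each non-zero vector of the plane of a member not commuting with it. -/
theorem moved {s t : P43} (hs : s ∈ T) (ht : t ∈ T) (hc : ¬ Commute s t) {a : V} (ha : a ∈ Φ.img s)
    (hfix : Φ.R t a = a) : a = 0 := by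
  have h : a ∈ Φ.img (t * s * t⁻¹) := by
    rw [Φ.img_conj]
    exact Finset.mem_image.2 ⟨a, ha, hfix⟩
  exact hN.disjoint hs (conj_mem_T t hs) (fun e => hc (eq_mul_inv_iff_mul_eq.1 e)) ha h

/-- Every singular vector other than zero lies in the plane of a member. -/
theorem exists_plane {v : V} (hv : Φ.q v = 0) (hne : v ≠ 0) : ∃ t ∈ T, v ∈ Φ.img t := by
  classical
  set U : Finset V := (Set.toFinite T).toFinset.biUnion fun t => (Φ.img t).erase 0 with hU
  set S : Finset V := (Finset.univ.filter fun u => Φ.q u = 0).erase 0 with hS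
  have hUS : U ⊆ S := fun u hu => by
    rw [hU, Finset.mem_biUnion] at hu
    obtain ⟨t, ht, hu⟩ := hu
    obtain ⟨hu0, hu⟩ := Finset.mem_erase.1 hu
    exact Finset.mem_erase.2 ⟨hu0, Finset.mem_filter.2 ⟨Finset.mem_univ u,
      hN.img_singular ((Set.toFinite T).mem_toFinset.1 ht) hu⟩⟩
  have hUc : U.card = 135 := by
    rw [hU, Finset.card_biUnion, Finset.sum_congr rfl fun t ht => show ((Φ.img t).erase 0).card = 3 by
      rw [Finset.card_erase_of_mem (Φ.img_sub t).zero, hN.card_img ((Set.toFinite T).mem_toFinset.1 ht)],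
      Finset.sum_const, smul_eq_mul, ← Set.ncard_eq_toFinset_card _, ncard_T]
    intro s hs t ht hst
    rw [Function.onFun, Finset.disjoint_left]
    intro x hx hx'
    exact (Finset.mem_erase.1 hx).1 (hN.disjoint ((Set.toFinite T).mem_toFinset.1 hs)
      ((Set.toFinite T).mem_toFinset.1 ht) hst (Finset.mem_erase.1 hx).2 (Finset.mem_erase.1 hx').2)
  have hSc : S.card ≤ 135 := by
    choose w hw hw0 using fun i => hN.exists_ne i
    choose p hp using fun i => move_check (cone i) (cone_ne i).1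
    let el : Fin 4 → Fin 4 → V := fun i n => ![0, w i, Φ.U (p i) (w i), Φ.U (p i + p i) (w i)] n
    let P : Finset (Fin 4 → Fin 4) :=
      Finset.univ.filter fun n => (Finset.univ.filter fun i => n i ≠ 0).card % 2 = 0
    have hP : P.card = 136 := by decide +kernel
    have hel : ∀ i n, el i n ∈ Φ.W (cone i) ∧ (n ≠ 0 → el i n ≠ 0) := by
      intro i n
      fin_cases n
      · exact ⟨(Φ.W_sub _).zero, fun h => absurd rfl h⟩
      · exact ⟨hw i, fun _ => hw0 i⟩
      · exact ⟨Φ.W_U (hw i) _, fun _ e => hw0 i (Φ.R_injective _ (e.trans (Φ.R_zero _).symm))⟩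
      · exact ⟨Φ.W_U (hw i) _, fun _ e => hw0 i (Φ.R_injective _ (e.trans (Φ.R_zero _).symm))⟩
    have hq : ∀ n : Fin 4 → Fin 4, Φ.q (∑ i, el i (n i)) = ((Finset.univ.filter fun i => n i ≠ 0).card : ZMod 2) := by
      intro n
      have hB : ∀ i j, i ≠ j → Φ.B (el i (n i)) (el j (n j)) = 0 := fun i j h =>
        hN.orth_cone h (hel i (n i)).1 (hel j (n j)).1
      have h1 : ∀ i, Φ.q (el i (n i)) = if n i ≠ 0 then 1 else 0 := fun i => by
        split_ifs with h
        · exact hN.q_weight (hel i (n i)).1 ((hel i (n i)).2 h)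
        · rw [not_not.1 h]; exact Φ.q_zero
      rw [Finset.natCast_card_filter, Fin.sum_univ_four, Fin.sum_univ_four, Φ.q_add, Φ.q_add, Φ.q_add]
      simp [Φ.B_add, hB, h1]
    have hsub : S ⊆ (P.image fun n => ∑ i, el i (n i)).erase 0 := by
      intro u hu
      obtain ⟨hu0, hu⟩ := Finset.mem_erase.1 hu
      obtain ⟨x, hx, rfl⟩ := hN.2 u
      have hpick : ∀ i, ∃ n, el i n = x i := fun i => by
        rcases hN.W_list i (hw i) (hw0 i) (hp i) (hx i) with e | e | e | e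
        exacts [⟨0, e.symm⟩, ⟨1, e.symm⟩, ⟨2, e.symm⟩, ⟨3, e.symm⟩]
      choose n hn using hpick
      refine Finset.mem_erase.2 ⟨hu0, Finset.mem_image.2 ⟨n, Finset.mem_filter.2 ⟨Finset.mem_univ n, ?_⟩,
        Finset.sum_congr rfl fun i _ => hn i⟩⟩
      have h := hq n
      rw [Finset.sum_congr rfl fun i _ => hn i, (Finset.mem_filter.1 hu).2] at h
      exact Nat.even_iff.1 (ZMod.natCast_eq_zero_iff_even.1 h.symm)
    have h0 : (0 : V) ∈ P.image fun n => ∑ i, el i (n i) :=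
      Finset.mem_image.2 ⟨0, by decide, Finset.sum_eq_zero fun i _ => rfl⟩
    have := Finset.card_le_card hsub
    rw [Finset.card_erase_of_mem h0] at this
    have := Finset.card_image_le (s := P) (f := fun n => ∑ i, el i (n i))
    omega
  have hmem : v ∈ U := by
    rw [Finset.eq_of_subset_of_card_le hUS (by omega)]
    exact Finset.mem_erase.2 ⟨hne, Finset.mem_filter.2 ⟨Finset.mem_univ v, hv⟩⟩
  obtain ⟨t, ht, h⟩ := Finset.mem_biUnion.1 hmem
  exact ⟨t, (Set.toFinite T).mem_toFinset.1 ht, (Finset.mem_erase.1 h).2⟩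

end Natural

end Act

end CfsgLib.U6Cent
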