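import Cfsg.Agent.Lib.Invol.U6Cent.Planes

/-!
Owner: helper13. The centralizer of a member induces only rotations on the plane of the member.
-/

set_option autoImplicit false
set_option linter.unusedSectionVars false
set_option maxRecDepth 100000

namespace CfsgLib.U6Cent

open CfsgLib.Recog.SpFourCent CfsgLib.Sporadic

/-- The codes of one plane and exponent dividing three. -/
noncomputable def cubeRoots : List ℕ := (List.range 24).filterMap fun a =>
  if Nat.beq (pw (cn a 0 0) 3) 0 then some (cn a 0 0) else none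

/-- The codes of the other plane and exponent dividing three. -/
noncomputable def cubeRoots' : List ℕ := (List.range 24).filterMap fun b =>
  if Nat.beq (pw (cn 0 b 0) 3) 0 then some (cn 0 b 0) else none

theorem roots_check : ((cubeRoots ++ cubeRoots').all fun x => Nat.blt x 576 && Nat.beq (pw x 3) 0) = true := by
  decide +kernel

theorem plane_check : (forallLt 24 fun a =>
    (cubeRoots.any fun x => cubeRoots.any fun y => cubeRoots.any fun w => Nat.beq (mul (mul x y) w) (cn a 0 0)) &&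
    (cubeRoots'.any fun x => cubeRoots'.any fun y => cubeRoots'.any fun w => Nat.beq (mul (mul x y) w) (cn 0 a 0)))
    = true := by decide +kernel

theorem split_check : (forallLt 576 fun x => Nat.beq x (mul (mul (cn (ca x) 0 0) (cn 0 (cb x) 0)) (cn 0 0 (cs x))))
    = true := by decide +kernel

theorem small_check : (forallLt 24 fun a => Nat.blt (cn a 0 0) 576 && Nat.blt (cn 0 a 0) 576) = true ∧
    Nat.blt (cn 0 0 1) 576 = true ∧ cn 0 0 0 = 0 := by decide +kernel

theorem flip_mat : mat (cn 0 0 1) = dM Mv.flip.A Mv.flip.B ∨ mat (cn 0 0 1) = -dM Mv.flip.A Mv.flip.B := by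
  decide +kernel

theorem flip_qx : qx (cn 0 0 1) = Mv.flip.el := by
  rw [Mv.el, cl_of_mem (mv_mem _), qx, mk_eq_iff]
  rcases flip_mat with h | h
  · exact Or.inl h.symm
  · exact Or.inr ((neg_neg _).symm.trans (congrArg Neg.neg h.symm))

/-- Induction over the centralizer of the standard member. -/
theorem cent_induction {P : P43 → Prop} (hmul : ∀ g h, Commute g tau → Commute h tau → P g → P h → P (g * h))
    (hflip : P Mv.flip.el) (hthree : ∀ g, Commute g tau → g * g * g = 1 → P g) {g : P43} (hg : Commute g tau) :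
    P g := by
  obtain ⟨x, hx, rfl⟩ := tau_cent hg.eq
  have hP1 : P 1 := hthree 1 (Commute.one_left _) (by simp)
  have hroot : ∀ y ∈ cubeRoots ++ cubeRoots', y < 576 ∧ P (qx y) := by
    intro y hy
    have h := roots_check
    simp only [List.all_eq_true, Bool.and_eq_true, Nat.beq_eq] at h
    obtain ⟨h1, h2⟩ := h y hy
    have hy' := Nat.blt_eq.mp h1
    refine ⟨hy', hthree _ (show Commute _ _ from qx_comm hy') ?_⟩
    have e3 : pw y 3 = mul (mul (mul 0 y) y) y := rfl
    rw [h2] at e3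
    have e' := congrArg qx e3.symm
    have h0y := mul_lt (show 0 < 576 by norm_num) hy'
    rw [qx_mul (mul_lt h0y hy') hy', qx_mul h0y hy', qx_mul (by norm_num) hy', qx_zero, one_mul] at e'
    exact e'
  have hplane : ∀ a < 24, (cn a 0 0 < 576 ∧ P (qx (cn a 0 0))) ∧ (cn 0 a 0 < 576 ∧ P (qx (cn 0 a 0))) := by
    intro a ha
    have h := forallLt_elim plane_check ha
    have hs := forallLt_elim small_check.1 ha
    simp only [Bool.and_eq_true, List.any_eq_true, Nat.beq_eq] at h hs
    obtain ⟨⟨x, hx, y, hy, w, hw, e⟩, x', hx', y', hy', w', hw', e'⟩ := h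
    have key : ∀ x y w, x ∈ cubeRoots ++ cubeRoots' → y ∈ cubeRoots ++ cubeRoots' → w ∈ cubeRoots ++ cubeRoots' →
        P (qx (mul (mul x y) w)) := fun x y w hx hy hw => by
      obtain ⟨hx, px⟩ := hroot x hx
      obtain ⟨hy, py⟩ := hroot y hy
      obtain ⟨hw, pw'⟩ := hroot w hw
      rw [qx_mul (mul_lt hx hy) hw, qx_mul hx hy]
      exact hmul _ _ ((show Commute _ _ from qx_comm hx).mul_left (qx_comm hy)) (qx_comm hw)
        (hmul _ _ (qx_comm hx) (qx_comm hy) px py) pw'
    refine ⟨⟨Nat.blt_eq.mp hs.1, ?_⟩, ⟨Nat.blt_eq.mp hs.2, ?_⟩⟩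
    · rw [← e]
      exact key x y w (List.mem_append_left _ hx) (List.mem_append_left _ hy) (List.mem_append_left _ hw)
    · rw [← e']
      exact key x' y' w' (List.mem_append_right _ hx') (List.mem_append_right _ hy') (List.mem_append_right _ hw')
  have hsx := forallLt_elim split_check hx
  rw [Nat.eq_of_beq_eq_true hsx]
  obtain ⟨⟨l1, p1⟩, -⟩ := hplane _ (ca_lt' hx)
  obtain ⟨-, l2, p2⟩ := hplane _ (cb_lt x)
  have h3 : cn 0 0 (cs x) < 576 ∧ P (qx (cn 0 0 (cs x))) := by
    have := cs_lt x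
    rcases (show cs x = 0 ∨ cs x = 1 by omega) with e | e <;> rw [e]
    · exact ⟨by rw [small_check.2.2]; norm_num, by rw [small_check.2.2, qx_zero]; exact hP1⟩
    · exact ⟨Nat.blt_eq.mp small_check.2.1, flip_qx ▸ hflip⟩
  rw [qx_mul (mul_lt l1 l2) h3.1, qx_mul l1 l2]
  exact hmul _ _ ((show Commute _ _ from qx_comm l1).mul_left (qx_comm l2)) (qx_comm h3.1)
    (hmul _ _ (qx_comm l1) (qx_comm l2) p1 p2) h3.2

theorem perm_three : ∀ f : Fin 3 → Fin 3, (∀ i, f (f (f i)) = i) → ∀ i, f (i + 1) = f i + 1 := by decide +kernel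

theorem flip_cones : Mv.flip.dual (cone 2) = cone 2 := by decide +kernel

namespace Act.Natural

variable {Φ : Act} (hN : Φ.Natural)
include hN

theorem flip_fix {w : V} (hw : w ∈ Φ.W (cone 2)) : Φ.R Mv.flip.el w = w := by
  by_cases hne : w = 0
  · rw [hne, R_zero]
  have hmem : Φ.R Mv.flip.el w ∈ Φ.W (cone 2) := Φ.R_mem_W _ (by rwa [flip_cones])
  have hcomm : ∀ u, Φ.R Mv.flip.el (Φ.U (1, 0, 1) u) = Φ.U (1, 0, 1) (Φ.R Mv.flip.el u) := fun u => by
    show Φ.R Mv.flip.el (Φ.R gam u) = Φ.R gam (Φ.R Mv.flip.el u)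
    rw [← Φ.R_mul, ← Φ.R_mul, gam_flip.eq]
  have htt : Φ.R Mv.flip.el (Φ.R Mv.flip.el w) = w := by rw [← Φ.R_mul, sq_T flip_mem, R_one]
  have hp := gam_check.2.2.1
  rcases hN.W_list 2 hw hne hp hmem with e | e | e | e
  · exact absurd (Φ.R_injective _ (e.trans (Φ.R_zero _).symm)) hne
  · exact e
  · rw [e, hcomm, e, ← U_add] at htt
    exfalso
    exact Φ.U_ne hw hne hp (by
      conv_rhs => rw [← Φ.U_zero w, ← par_three ((1, 0, 1) : Par), add_comm _ ((1, 0, 1) : Par), U_add, htt])
  · rw [e, Φ.U_add, hcomm, hcomm, e, ← U_add, ← U_add,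
      show ((1, 0, 1) : Par) + (1, 0, 1) + ((1, 0, 1) + (1, 0, 1)) = (1, 0, 1) by decide] at htt
    exact absurd htt (Φ.U_ne hw hne hp)

theorem gam_three : Φ.R gam (Φ.R gam (Φ.R gam (0 : V))) = 0 := by simp only [R_zero]

/-- An element centralizing a member and fixing one vector of its plane fixes all of them. -/
theorem fix_plane {t g : P43} (ht : t ∈ T) (hg : Commute g t) {a : V} (ha : a ∈ Φ.img t) (ha0 : a ≠ 0)
    (hga : Φ.R g a = a) {b : V} (hb : b ∈ Φ.img t) : Φ.R g b = b := by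
  classical
  obtain ⟨c, rfl⟩ := exists_conj_T tau_mem ht
  rw [Φ.img_conj, Finset.mem_image] at ha hb
  obtain ⟨a, ha, rfl⟩ := ha
  obtain ⟨b, hb, rfl⟩ := hb
  obtain ⟨k, rfl⟩ : ∃ k, g = c * k * c⁻¹ := ⟨c⁻¹ * g * c, by group⟩
  have hk : Commute k tau := (Commute.conj_iff c).1 hg
  have e : ∀ x, Φ.R (c * k * c⁻¹) (Φ.R c x) = Φ.R c (Φ.R k x) := fun x => by
    rw [← Φ.R_mul, inv_mul_cancel_right, Φ.R_mul]
  rw [e] at hga ⊢
  congr 1
  have hka := Φ.R_injective c hga
  have ha0 : a ≠ 0 := fun e => ha0 (by rw [e, R_zero])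
  -- the shape of the plane
  have hshape : ∀ x ∈ Φ.img tau, x = 0 ∨ x = a ∨ x = Φ.R gam a ∨ x = Φ.R gam (Φ.R gam a) := by
    intro x hx
    rw [hN.img_tau, Finset.mem_image] at ha hx
    obtain ⟨v, hv, rfl⟩ := ha
    obtain ⟨w, hw, rfl⟩ := hx
    have hv0 : v ≠ 0 := fun e => ha0 (by rw [e, R_zero, add_zero])
    have key : ∀ u, Φ.R gam (Φ.R tau u + u) = Φ.R tau (Φ.R gam u) + Φ.R gam u := fun u => by
      rw [R_add, ← Φ.R_mul, ← Φ.R_mul, gam_tau.eq]
    rcases hN.W_list 2 hv hv0 (p := (1, 0, 1)) gam_check.2.2.1 hw with e | e | e | e <;> rw [e]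
    · exact Or.inl (by rw [R_zero, add_zero])
    · exact Or.inr (Or.inl rfl)
    · exact Or.inr (Or.inr (Or.inl (key v).symm))
    · refine Or.inr (Or.inr (Or.inr ?_))
      rw [U_add, key, key]; rfl
  have hgood : ∀ x ∈ Φ.img tau, Φ.R k (Φ.R gam x) = Φ.R gam (Φ.R k x) := by
    refine cent_induction (P := fun k => ∀ x ∈ Φ.img tau, Φ.R k (Φ.R gam x) = Φ.R gam (Φ.R k x))
      (fun g h _ hh pg ph x hx => ?_) (fun x hx => ?_) (fun g hg h3 x hx => ?_) hk
    · rw [Φ.R_mul, Φ.R_mul, ph x hx, pg _ (Φ.R_img_of_commute hh hx)]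
    · rw [← Φ.R_mul, ← gam_flip.eq, Φ.R_mul]
    · -- an element of exponent three
      have hmove : ∀ y ∈ Φ.img tau, Φ.R g y ∈ Φ.img tau := fun y hy => Φ.R_img_of_commute hg hy
      have hG : ∀ y ∈ Φ.img tau, Φ.R gam y ∈ Φ.img tau := fun y hy => Φ.R_img_of_commute gam_tau hy
      have hg3 : ∀ y, Φ.R g (Φ.R g (Φ.R g y)) = y := fun y => by
        rw [← Φ.R_mul, ← Φ.R_mul, h3, R_one]
      have hγ3 : ∀ y, Φ.R gam (Φ.R gam (Φ.R gam y)) = y := fun y => by
        rw [← Φ.R_mul, ← Φ.R_mul, gam, ue_cube, R_one]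
      let pts : Fin 3 → V := ![a, Φ.R gam a, Φ.R gam (Φ.R gam a)]
      have hstep : ∀ i, Φ.R gam (pts i) = pts (i + 1) := by
        intro i; fin_cases i <;> simp [pts, hγ3]
      have hmem : ∀ i, pts i ∈ Φ.img tau := by
        intro i; fin_cases i
        exacts [ha, hG _ ha, hG _ (hG _ ha)]
      have hcov : ∀ x ∈ Φ.img tau, x = 0 ∨ ∃ i, pts i = x := fun x hx => by
        rcases hshape x hx with e | e | e | e
        exacts [Or.inl e, Or.inr ⟨0, e.symm⟩, Or.inr ⟨1, e.symm⟩, Or.inr ⟨2, e.symm⟩]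
      have hinj : Function.Injective pts := by
        have hc : 3 ≤ (Finset.univ.image pts).card := by
          have hsub : Φ.img tau ⊆ insert 0 (Finset.univ.image pts) := fun x hx => by
            rcases hcov x hx with rfl | ⟨i, rfl⟩
            · exact Finset.mem_insert_self _ _
            · exact Finset.mem_insert_of_mem (Finset.mem_image_of_mem _ (Finset.mem_univ i))
          have := (Finset.card_le_card hsub).trans (Finset.card_insert_le _ _)
          rw [hN.card_img tau_mem] at this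
          omega
        intro i j e
        exact Finset.card_image_iff.1 (le_antisymm Finset.card_image_le (by simpa using hc))
          (Finset.mem_coe.2 (Finset.mem_univ i)) (Finset.mem_coe.2 (Finset.mem_univ j)) e
      have hne : ∀ i, pts i ≠ 0 := fun i e => by
        have h1 := hstep i
        rw [e, R_zero] at h1
        exact (show ∀ j : Fin 3, j ≠ j + 1 by decide) i (hinj (e.trans h1))
      have hf : ∀ i, ∃ i', pts i' = Φ.R g (pts i) := fun i =>
        (hcov _ (hmove _ (hmem i))).resolve_left fun e => hne i (Φ.R_injective g (e.trans (Φ.R_zero g).symm))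
      choose f hf using hf
      rcases hcov x hx with rfl | ⟨i, rfl⟩
      · simp only [R_zero]
      · rw [hstep, ← hf, ← hf, hstep]
        exact congrArg pts (perm_three f (fun i => hinj (by rw [hf, hf, hf, hg3])) i)
  rcases hshape b hb with rfl | rfl | rfl | rfl
  · rw [R_zero]
  · exact hka
  · rw [hgood _ ha, hka]
  · rw [hgood _ (Φ.R_img_of_commute gam_tau ha), hgood _ ha, hka]

end Act.Natural

end CfsgLib.U6Cent
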