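import Cfsg.Agent.Lib.ThreeTrans.LargeExtra
import Mathlib.Data.ZMod.Basic

/-!
Owner: helper13. An extraspecial group of order `2^9` with the centralizer of its centre over it mapped onto a
group `A`: coordinates and transport.
-/

set_option autoImplicit false
set_option linter.unusedSectionVars false

namespace CfsgLib.U6Cent

open Cfsg CfsgLib.ThreeTrans

/-- Eight coordinates over two elements. -/
abbrev V : Type := Fin 8 → ZMod 2

theorem two_cases (x : ZMod 2) : x = 0 ∨ x = 1 := by revert x; decide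

theorem ne_zero_iff {x : ZMod 2} : x ≠ 0 ↔ x = 1 := by revert x; decide

theorem z2_add_self (x : ZMod 2) : x + x = 0 := CharTwo.add_self_eq_zero x

theorem v_add_self (v : V) : v + v = 0 := funext fun i => z2_add_self (v i)

theorem v_add_eq_zero {u v : V} : u + v = 0 ↔ u = v :=
  ⟨fun h => by rw [← add_zero u, ← v_add_self v, ← add_assoc, h, zero_add], fun h => h ▸ v_add_self u⟩

theorem v_cancel (u v : V) : u + (u + v) = v := by rw [← add_assoc, v_add_self, zero_add]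

/-- Coordinates on `Q` modulo its centre and the image of the centralizer of `z` modulo `Q`. -/
structure Setting {G : Type*} [Group G] (z : G) (Q : Subgroup G) (A : Type*) [Group A] where
  h : LargeData z Q
  hcard : Nat.card Q = 2 ^ 9
  /-- the image modulo `Q` -/
  π : G → A
  π_mul : ∀ a b, Commute a z → Commute b z → π (a * b) = π a * π b
  π_eq_one : ∀ c, Commute c z → (π c = 1 ↔ c ∈ Q)
  π_surj : ∀ a : A, ∃ c, Commute c z ∧ π c = a
  /-- the coordinates -/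
  ψ : G → V
  /-- the squaring form -/
  q : V → ZMod 2
  /-- the action -/
  act : G → V → V
  ψ_mul : ∀ a ∈ Q, ∀ b ∈ Q, ψ (a * b) = ψ a + ψ b
  ψ_surj : ∀ v, ∃ a ∈ Q, ψ a = v
  ψ_eq_zero : ∀ a ∈ Q, (ψ a = 0 ↔ a ∈ Subgroup.zpowers z)
  q_eq_zero : ∀ a ∈ Q, (q (ψ a) = 0 ↔ a * a = 1)
  ψ_conj : ∀ c, Commute c z → ∀ a ∈ Q, ψ (c * a * c⁻¹) = act c (ψ a)

namespace Setting

variable {G : Type*} [Group G] {z : G} {Q : Subgroup G} {A : Type*} [Group A] (S : Setting z Q A)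
include S

theorem commute_of_mem {a : G} (ha : a ∈ Q) : Commute a z := S.h.commute_z ha

theorem π_of_mem {a : G} (ha : a ∈ Q) : S.π a = 1 := (S.π_eq_one a (S.commute_of_mem ha)).mpr ha

theorem π_one : S.π 1 = 1 := S.π_of_mem (one_mem Q)

theorem π_inv {c : G} (hc : Commute c z) : S.π c⁻¹ = (S.π c)⁻¹ := by
  refine eq_inv_of_mul_eq_one_left ?_
  rw [← S.π_mul _ _ hc.inv_left hc, inv_mul_cancel, S.π_one]

theorem π_conj {c a : G} (hc : Commute c z) (ha : Commute a z) :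
    S.π (c * a * c⁻¹) = S.π c * S.π a * (S.π c)⁻¹ := by
  rw [S.π_mul _ _ (hc.mul_left ha) hc.inv_left, S.π_mul _ _ hc ha, S.π_inv hc]

theorem π_pow {c : G} (hc : Commute c z) (n : ℕ) : S.π (c ^ n) = S.π c ^ n := by
  induction n with
  | zero => rw [pow_zero, pow_zero, S.π_one]
  | succ n ih => rw [pow_succ, pow_succ, S.π_mul _ _ (hc.pow_left n) hc, ih]

theorem π_eq_iff {c d : G} (hc : Commute c z) (hd : Commute d z) : S.π c = S.π d ↔ c⁻¹ * d ∈ Q := by
  rw [← S.π_eq_one _ (hc.inv_left.mul_left hd), S.π_mul _ _ hc.inv_left hd, S.π_inv hc, inv_mul_eq_one]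

theorem ψ_one : S.ψ 1 = 0 := (S.ψ_eq_zero 1 (one_mem Q)).mpr (one_mem _)

theorem ψ_z : S.ψ z = 0 := (S.ψ_eq_zero z S.h.z_mem).mpr (Subgroup.mem_zpowers z)

theorem ψ_inv {a : G} (ha : a ∈ Q) : S.ψ a⁻¹ = S.ψ a := by
  rw [← v_add_eq_zero, ← S.ψ_mul _ (inv_mem ha) _ ha, inv_mul_cancel, S.ψ_one]

theorem ψ_eq_iff {a b : G} (ha : a ∈ Q) (hb : b ∈ Q) : S.ψ a = S.ψ b ↔ b = a ∨ b = z * a := by
  rw [← v_add_eq_zero, add_comm, ← S.ψ_inv ha, ← S.ψ_mul _ hb _ (inv_mem ha),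
    S.ψ_eq_zero _ (mul_mem hb (inv_mem ha))]
  constructor
  · intro h
    rcases S.h.eq_or h with e | e
    · exact Or.inl (mul_inv_eq_one.mp e)
    · exact Or.inr (mul_inv_eq_iff_eq_mul.mp e)
  · rintro (rfl | rfl)
    · rw [mul_inv_cancel]; exact one_mem _
    · rw [mul_inv_cancel_right]; exact Subgroup.mem_zpowers z

theorem ψ_zmul {a : G} (ha : a ∈ Q) : S.ψ (z * a) = S.ψ a := by
  rw [S.ψ_mul _ S.h.z_mem _ ha, S.ψ_z, zero_add]

theorem sq_one_iff {a : G} (ha : a ∈ Q) : a * a = 1 ↔ S.q (S.ψ a) = 0 := (S.q_eq_zero a ha).symm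

theorem sq_z_iff [Finite G] {a : G} (ha : a ∈ Q) : a * a = z ↔ S.q (S.ψ a) = 1 := by
  rw [← ne_zero_iff, ne_eq, S.q_eq_zero a ha]
  constructor
  · exact fun h e => S.h.z_ne_one (h.symm.trans e)
  · exact fun h => (S.h.eq_or (S.h.sq_mem ha)).resolve_left h

/-- The polar form. -/
def B (u v : V) : ZMod 2 := S.q (u + v) + S.q u + S.q v

variable [Finite G]

theorem sq_mul_sq {a b : G} (ha : a ∈ Q) (hb : b ∈ Q) : S.B (S.ψ a) (S.ψ b) = 0 ↔ Commute a b := by
  have hz := S.h.mul_self_z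
  have hq : ∀ c ∈ Q, c * c = if S.q (S.ψ c) = 0 then 1 else z := fun c hc => by
    rcases two_cases (S.q (S.ψ c)) with e | e
    · rw [if_pos e]; exact (S.sq_one_iff hc).mpr e
    · rw [if_neg (by rw [e]; decide)]; exact (S.sq_z_iff hc).mpr e
  have h1 := hq a ha
  have h2 := hq b hb
  have h3 := hq (a * b) (mul_mem ha hb)
  have hne := S.h.z_ne_one
  rw [S.ψ_mul _ ha _ hb] at h3
  rcases S.h.conj_eq_or hb ha with e | e
  · have hc : Commute b a := mul_inv_eq_iff_eq_mul.mp e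
    refine iff_of_true ?_ hc.symm
    rw [hc.mul_mul_mul_comm, h1, h2] at h3
    simp only [B]
    rcases two_cases (S.q (S.ψ a)) with e1 | e1 <;> rcases two_cases (S.q (S.ψ b)) with e2 | e2 <;>
      rcases two_cases (S.q (S.ψ a + S.ψ b)) with e3 | e3 <;>
      simp [e1, e2, e3, hz, hne, hne.symm] at h3 ⊢ <;> decide
  · have hc : b * a = z * a * b := mul_inv_eq_iff_eq_mul.mp e
    refine iff_of_false ?_ fun hcm => hne ?_
    · have hzc : a * z = z * a := S.h.commute_z ha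
      have key : a * b * (a * b) = z * (a * a * (b * b)) := by
        calc a * b * (a * b) = a * (b * a) * b := by group
          _ = a * (z * a * b) * b := by rw [hc]
          _ = (a * z) * a * (b * b) := by group
          _ = z * (a * a * (b * b)) := by rw [hzc]; group
      rw [key, h1, h2] at h3
      simp only [B]
      rcases two_cases (S.q (S.ψ a)) with e1 | e1 <;> rcases two_cases (S.q (S.ψ b)) with e2 | e2 <;>
        rcases two_cases (S.q (S.ψ a + S.ψ b)) with e3 | e3 <;>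
        simp [e1, e2, e3, hz, hne, hne.symm] at h3 ⊢ <;> decide
    · have : z * (a * b) = a * b := by rw [← mul_assoc, ← hc, hcm.eq]
      exact mul_eq_right.mp this

theorem B_eq_one {a b : G} (ha : a ∈ Q) (hb : b ∈ Q) : S.B (S.ψ a) (S.ψ b) = 1 ↔ a * b * a⁻¹ = z * b := by
  rw [← ne_zero_iff, ne_eq, S.sq_mul_sq ha hb]
  constructor
  · exact fun h => (S.h.conj_eq_or ha hb).resolve_left fun e => h (mul_inv_eq_iff_eq_mul.mp e)
  · intro h hc
    rw [hc.eq, mul_inv_cancel_right, eq_comm, mul_eq_right] at h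
    exact S.h.z_ne_one h

theorem B_comm (u v : V) : S.B u v = S.B v u := by simp only [B, add_comm u v]; ring

theorem B_self (u : V) : S.B u u = 0 := by
  obtain ⟨a, ha, rfl⟩ := S.ψ_surj u
  exact (S.sq_mul_sq ha ha).mpr (Commute.refl a)

theorem q_zero : S.q 0 = 0 := by
  rw [← S.ψ_one]; exact (S.sq_one_iff (one_mem Q)).mp (one_mul 1)

theorem B_zero (u : V) : S.B 0 u = 0 := by
  simp only [B, zero_add, S.q_zero, add_zero]; exact z2_add_self _

theorem q_add (u v : V) : S.q (u + v) = S.q u + S.q v + S.B u v := by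
  simp only [B]
  rcases two_cases (S.q (u + v)) with a | a <;> rcases two_cases (S.q u) with b | b <;>
    rcases two_cases (S.q v) with c | c <;> rw [a, b, c] <;> decide

theorem B_add (u u' v : V) : S.B (u + u') v = S.B u v + S.B u' v := by
  obtain ⟨a, ha, rfl⟩ := S.ψ_surj u
  obtain ⟨a', ha', rfl⟩ := S.ψ_surj u'
  obtain ⟨b, hb, rfl⟩ := S.ψ_surj v
  rw [← S.ψ_mul _ ha _ ha']
  have key : ∀ x ∈ Q, (S.B (S.ψ x) (S.ψ b) = 0 ∧ b * x * b⁻¹ = x) ∨
      (S.B (S.ψ x) (S.ψ b) = 1 ∧ b * x * b⁻¹ = z * x) := by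
    intro x hx
    rw [S.B_comm]
    rcases two_cases (S.B (S.ψ b) (S.ψ x)) with e | e
    · exact Or.inl ⟨e, by rw [((S.sq_mul_sq hb hx).mp e).eq, mul_inv_cancel_right]⟩
    · exact Or.inr ⟨e, (S.B_eq_one hb hx).mp e⟩
  have hprod : b * (a * a') * b⁻¹ = b * a * b⁻¹ * (b * a' * b⁻¹) := by group
  have hne := S.h.z_ne_one
  have hz := S.h.mul_self_z
  have haz : a * z = z * a := S.h.commute_z ha
  rcases key a ha with ⟨e1, c1⟩ | ⟨e1, c1⟩ <;> rcases key a' ha' with ⟨e2, c2⟩ | ⟨e2, c2⟩ <;>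
    rcases key _ (mul_mem ha ha') with ⟨e3, c3⟩ | ⟨e3, c3⟩ <;> rw [e1, e2, e3] <;>
    rw [c1, c2, c3] at hprod <;> first
      | decide
      | (exfalso
         simp [← mul_assoc, haz, hz, hne, hne.symm, mul_eq_right] at hprod)

theorem B_add_right (u v v' : V) : S.B u (v + v') = S.B u v + S.B u v' := by
  rw [S.B_comm, S.B_add, S.B_comm v, S.B_comm v']

theorem nondeg {u : V} (hu : ∀ v, S.B u v = 0) : u = 0 := by
  obtain ⟨a, ha, rfl⟩ := S.ψ_surj u
  rw [S.ψ_eq_zero _ ha, ← S.h.hcent, Subgroup.mem_centralizer_iff]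
  intro x hx
  exact ((S.sq_mul_sq ha hx).mp (hu _)).eq.symm

theorem act_add {c : G} (hc : Commute c z) (u v : V) : S.act c (u + v) = S.act c u + S.act c v := by
  obtain ⟨a, ha, rfl⟩ := S.ψ_surj u
  obtain ⟨b, hb, rfl⟩ := S.ψ_surj v
  rw [← S.ψ_mul _ ha _ hb, ← S.ψ_conj c hc _ (mul_mem ha hb), ← S.ψ_conj c hc _ ha, ← S.ψ_conj c hc _ hb,
    ← conj_mul, S.ψ_mul _ (S.h.conj_mem hc ha) _ (S.h.conj_mem hc hb)]

theorem act_zero {c : G} (hc : Commute c z) : S.act c 0 = 0 := by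
  rw [← S.ψ_one, ← S.ψ_conj c hc _ (one_mem Q), mul_one, mul_inv_cancel]

theorem act_mul {c d : G} (hc : Commute c z) (hd : Commute d z) (v : V) :
    S.act (c * d) v = S.act c (S.act d v) := by
  obtain ⟨a, ha, rfl⟩ := S.ψ_surj v
  rw [← S.ψ_conj _ (hc.mul_left hd) _ ha, ← S.ψ_conj d hd _ ha, ← S.ψ_conj c hc _ (S.h.conj_mem hd ha)]
  congr 1
  group

theorem act_of_mem {c : G} (hc : c ∈ Q) (v : V) : S.act c v = v := by
  obtain ⟨a, ha, rfl⟩ := S.ψ_surj v
  rw [← S.ψ_conj c (S.commute_of_mem hc) _ ha]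
  rcases S.h.conj_eq_or hc ha with e | e
  · rw [e]
  · rw [e, S.ψ_zmul ha]

theorem act_one (v : V) : S.act 1 v = v := S.act_of_mem (one_mem Q) v

theorem act_inv {c : G} (hc : Commute c z) (v : V) : S.act c⁻¹ (S.act c v) = v := by
  rw [← S.act_mul hc.inv_left hc, inv_mul_cancel, S.act_one]

theorem act_injective {c : G} (hc : Commute c z) : Function.Injective (S.act c) :=
  Function.LeftInverse.injective (S.act_inv hc)

theorem act_q {c : G} (hc : Commute c z) (v : V) : S.q (S.act c v) = S.q v := by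
  obtain ⟨a, ha, rfl⟩ := S.ψ_surj v
  rw [← S.ψ_conj c hc _ ha]
  have e : S.q (S.ψ (c * a * c⁻¹)) = 0 ↔ S.q (S.ψ a) = 0 := by
    rw [← S.sq_one_iff ha, ← S.sq_one_iff (S.h.conj_mem hc ha), conj_mul, conj_eq_one_iff]
  rcases two_cases (S.q (S.ψ (c * a * c⁻¹))) with e1 | e1 <;> rcases two_cases (S.q (S.ψ a)) with e2 | e2 <;>
    rw [e1, e2] at e ⊢ <;> simp at e

theorem act_B {c : G} (hc : Commute c z) (u v : V) : S.B (S.act c u) (S.act c v) = S.B u v := by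
  simp only [B, ← S.act_add hc, S.act_q hc]

theorem act_congr {c d : G} (hc : Commute c z) (hd : Commute d z) (h : S.π c = S.π d) (v : V) :
    S.act c v = S.act d v := by
  have := (S.π_eq_iff hc hd).mp h
  calc S.act c v = S.act c (S.act (c⁻¹ * d) v) := by rw [S.act_of_mem this]
    _ = S.act d v := by rw [← S.act_mul hc (hc.inv_left.mul_left hd), mul_inv_cancel_left]

theorem mem_of_act {c : G} (hc : Commute c z) (h : ∀ v, S.act c v = v) : c ∈ Q := by
  refine S.h.mem_of_trivial hc fun x hx => ?_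
  have e := (S.ψ_conj c hc x hx).trans (h _)
  rcases (S.ψ_eq_iff hx (S.h.conj_mem hc hx)).mp e.symm with e' | e'
  · rw [e', mul_inv_cancel]; exact one_mem _
  · rw [e', mul_inv_cancel_right]; exact Subgroup.mem_zpowers z

/-- The action of the image. -/
noncomputable def ρ (γ : A) (v : V) : V := S.act (S.π_surj γ).choose v

theorem ρ_π {c : G} (hc : Commute c z) (v : V) : S.ρ (S.π c) v = S.act c v :=
  S.act_congr (S.π_surj (S.π c)).choose_spec.1 hc (S.π_surj (S.π c)).choose_spec.2 v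

theorem ρ_one (v : V) : S.ρ 1 v = v := by
  rw [← S.π_one, S.ρ_π (Commute.one_left z), S.act_one]

theorem ρ_mul (γ δ : A) (v : V) : S.ρ (γ * δ) v = S.ρ γ (S.ρ δ v) := by
  obtain ⟨c, hc, rfl⟩ := S.π_surj γ
  obtain ⟨d, hd, rfl⟩ := S.π_surj δ
  rw [← S.π_mul c d hc hd, S.ρ_π (hc.mul_left hd), S.ρ_π hd, S.ρ_π hc, S.act_mul hc hd]

theorem ρ_add (γ : A) (u v : V) : S.ρ γ (u + v) = S.ρ γ u + S.ρ γ v := by
  obtain ⟨c, hc, rfl⟩ := S.π_surj γ
  simp only [S.ρ_π hc, S.act_add hc]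

theorem ρ_zero (γ : A) : S.ρ γ 0 = 0 := by
  obtain ⟨c, hc, rfl⟩ := S.π_surj γ
  rw [S.ρ_π hc, S.act_zero hc]

theorem ρ_q (γ : A) (v : V) : S.q (S.ρ γ v) = S.q v := by
  obtain ⟨c, hc, rfl⟩ := S.π_surj γ
  rw [S.ρ_π hc, S.act_q hc]

theorem ρ_B (γ : A) (u v : V) : S.B (S.ρ γ u) (S.ρ γ v) = S.B u v := by
  obtain ⟨c, hc, rfl⟩ := S.π_surj γ
  rw [S.ρ_π hc, S.ρ_π hc, S.act_B hc]

theorem ρ_inv (γ : A) (v : V) : S.ρ γ⁻¹ (S.ρ γ v) = v := by
  rw [← S.ρ_mul, inv_mul_cancel, S.ρ_one]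

theorem ρ_injective (γ : A) : Function.Injective (S.ρ γ) :=
  Function.LeftInverse.injective (S.ρ_inv γ)

theorem ρ_faithful {γ : A} (h : ∀ v, S.ρ γ v = v) : γ = 1 := by
  obtain ⟨c, hc, rfl⟩ := S.π_surj γ
  exact (S.π_eq_one c hc).mpr (S.mem_of_act hc fun v => (S.ρ_π hc v).symm.trans (h v))

/-! Conjugates of `z` in `Q`. -/

/-- The vectors carried by conjugates of `z` in `Q` other than `z`. -/
def Phi (v : V) : Prop := ∃ g : G, g * z * g⁻¹ ∈ Q ∧ g * z * g⁻¹ ≠ z ∧ S.ψ (g * z * g⁻¹) = v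

theorem phi_of {x : G} (hc : IsConj z x) (hx : x ∈ Q) (hne : x ≠ z) : S.Phi (S.ψ x) := by
  obtain ⟨g, rfl⟩ := isConj_iff.mp hc
  exact ⟨g, hx, hne, rfl⟩

theorem conj_of_phi {a : G} (ha : a ∈ Q) (h : S.Phi (S.ψ a)) : IsConj z a := by
  obtain ⟨g, hg, hne, e⟩ := h
  have hg' : g * z * g⁻¹ ∉ Subgroup.zpowers z := fun hh => by
    rcases S.h.eq_or hh with e1 | e1
    · exact S.h.z_ne_one (conj_eq_one_iff.mp e1)
    · exact hne e1
  rcases (S.ψ_eq_iff hg ha).mp e with rfl | rfl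
  · exact isConj_iff.mpr ⟨g, rfl⟩
  · obtain ⟨q, -, hq⟩ := S.h.exists_move hg hg'
    exact isConj_iff.mpr ⟨q * g, by rw [← hq]; group⟩

theorem phi_ne_zero {v : V} (h : S.Phi v) : v ≠ 0 := by
  obtain ⟨g, hg, hne, rfl⟩ := h
  intro e
  rcases S.h.eq_or ((S.ψ_eq_zero _ hg).mp e) with e1 | e1
  · exact S.h.z_ne_one (conj_eq_one_iff.mp e1)
  · exact hne e1

theorem conj_sq {g : G} : g * z * g⁻¹ * (g * z * g⁻¹) = 1 := by
  rw [conj_mul, S.h.mul_self_z, mul_one, mul_inv_cancel]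

theorem phi_singular {v : V} (h : S.Phi v) : S.q v = 0 := by
  obtain ⟨g, hg, hne, rfl⟩ := h
  exact (S.sq_one_iff hg).mp S.conj_sq

theorem phi_act {c : G} (hc : Commute c z) {v : V} (h : S.Phi v) : S.Phi (S.act c v) := by
  obtain ⟨g, hg, hne, rfl⟩ := h
  rw [← S.ψ_conj c hc _ hg, show c * (g * z * g⁻¹) * c⁻¹ = c * g * z * (c * g)⁻¹ by group]
  refine ⟨c * g, ?_, fun e => hne ?_, rfl⟩
  · rw [show c * g * z * (c * g)⁻¹ = c * (g * z * g⁻¹) * c⁻¹ by group]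
    exact S.h.conj_mem hc hg
  · calc g * z * g⁻¹ = c⁻¹ * (c * g * z * (c * g)⁻¹) * c := by group
      _ = c⁻¹ * (z * c) := by rw [e, mul_assoc]
      _ = z := by rw [← hc.eq]; group

theorem phi_ρ (γ : A) {v : V} (h : S.Phi v) : S.Phi (S.ρ γ v) := by
  obtain ⟨c, hc, rfl⟩ := S.π_surj γ
  rw [S.ρ_π hc]
  exact S.phi_act hc h

end Setting

end CfsgLib.U6Cent
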