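import Cfsg.Agent.Lib.Invol.U6Cent.Tools
import Cfsg.Agent.Lib.Invol.U6Cent.Invariant

/-!
Owner: helper13. The setting with `PSp₄(3)` inside the image: the action of `PSp₄(3)`, lifts centralizing a
conjugate in `Q`, and the second conjugate seen from the first.
-/

set_option autoImplicit false
set_option linter.unusedSectionVars false

namespace CfsgLib.U6Cent

open Cfsg CfsgLib.ThreeTrans CfsgLib.Recog.SpFourCent

/-- A setting with `PSp₄(3)` as a normal subgroup of index at most two of the image. -/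
structure Sit {G : Type*} [Group G] (z : G) (Q : Subgroup G) (A : Type*) [Group A] extends Setting z Q A where
  /-- the embedding -/
  j : P43 →* A
  j_inj : Function.Injective j
  j_normal : ∀ (a : A) (g : P43), ∃ h, a * j g * a⁻¹ = j h
  j_two : ∀ a b : A, a ∉ j.range → b ∉ j.range → a * b ∈ j.range

namespace Sit

variable {G : Type*} [Group G] [Finite G] {z : G} {Q : Subgroup G} {A : Type*} [Group A] (S : Sit z Q A)
include S

/-- The action of `PSp₄(3)`. -/
noncomputable def Φ : Act where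
  q := S.q
  B := S.toSetting.B
  B_comm := S.toSetting.B_comm
  B_self := S.toSetting.B_self
  B_add := S.toSetting.B_add
  q_add := S.toSetting.q_add
  q_zero := S.toSetting.q_zero
  nondeg := fun _ => S.toSetting.nondeg
  R := fun g v => S.toSetting.ρ (S.j g) v
  R_one := fun v => by rw [map_one, Setting.ρ_one]
  R_mul := fun g h v => by rw [map_mul, Setting.ρ_mul]
  R_add := fun g => S.toSetting.ρ_add (S.j g)
  R_q := fun g => S.toSetting.ρ_q (S.j g)
  faithful := fun g h => S.j_inj (by rw [map_one]; exact S.toSetting.ρ_faithful h)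

theorem Φ_B (u v : V) : S.Φ.B u v = S.toSetting.B u v := rfl

theorem Φ_q (v : V) : S.Φ.q v = S.q v := rfl

theorem act_eq {c : G} (hc : Commute c z) {g : P43} (h : S.π c = S.j g) (v : V) : S.act c v = S.Φ.R g v := by
  rw [← S.toSetting.ρ_π hc, h]; rfl

theorem exists_lift (g : P43) : ∃ c, Commute c z ∧ S.π c = S.j g := S.π_surj (S.j g)

theorem z_ne (x : G) {g : G} (h : g * z * g⁻¹ = x) (hne : x ≠ z) : ¬ Commute g z := fun hc => hne (by
  rw [← h, hc.eq, mul_inv_cancel_right])

theorem ψ_ne_zero {x : G} (hx : x ∈ Q) (h1 : x ≠ 1) (hz : x ≠ z) : S.ψ x ≠ 0 := fun e =>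
  (S.h.eq_or ((S.ψ_eq_zero x hx).1 e)).elim h1 hz

theorem ψ_cases {x y : G} (hx : x ∈ Q) (hy : y ∈ Q) :
    (S.ψ y = 0 ∨ S.ψ y = S.ψ x) ↔ (y = 1 ∨ y = z) ∨ (y = x ∨ y = z * x) := by
  refine or_congr ⟨fun e => S.h.eq_or ((S.ψ_eq_zero y hy).1 e), ?_⟩ ?_
  · rintro (rfl | rfl)
    exacts [S.toSetting.ψ_one, S.toSetting.ψ_z]
  · rw [eq_comm, S.toSetting.ψ_eq_iff hx hy]

/-- A lift fixing a vector of `Q` can be moved to centralize the element. -/
theorem exists_lift_commute {x : G} (hx : x ∈ Q) (hxz : x ∉ Subgroup.zpowers z) {a : A}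
    (hfix : S.toSetting.ρ a (S.ψ x) = S.ψ x) : ∃ c, Commute c z ∧ S.π c = a ∧ Commute c x := by
  obtain ⟨c, hc, rfl⟩ := S.π_surj a
  rw [S.toSetting.ρ_π hc, ← S.ψ_conj c hc x hx, eq_comm, S.toSetting.ψ_eq_iff hx (S.h.conj_mem hc hx)] at hfix
  rcases hfix with e | e
  · exact ⟨c, hc, rfl, mul_inv_eq_iff_eq_mul.1 e⟩
  obtain ⟨r, hr, hrx⟩ := S.h.exists_move hx hxz
  have hrz := S.h.commute_z hr
  refine ⟨r * c, (hrz : Commute r z).mul_left hc, ?_, mul_inv_eq_iff_eq_mul.1 ?_⟩
  · rw [S.π_mul _ _ hrz hc, S.toSetting.π_of_mem hr, one_mul]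
  · calc r * c * x * (r * c)⁻¹ = r * (c * x * c⁻¹) * r⁻¹ := by group
      _ = (r * z * r⁻¹) * (r * x * r⁻¹) := by rw [e]; group
      _ = z * (z * x) := by rw [hrx, show r * z = z * r from hrz, mul_inv_cancel_right]
      _ = x := by rw [← mul_assoc, S.h.mul_self_z, one_mul]

/-- The conjugate of `Q`. -/
def conjQ (_S : Sit z Q A) (g : G) : Subgroup G := Q.map (MulAut.conj g).toMonoidHom

theorem mem_conjQ {g a : G} : a ∈ S.conjQ g ↔ g⁻¹ * a * g ∈ Q := by
  rw [conjQ, Subgroup.mem_map_equiv, MulAut.conj_symm_apply]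

theorem conjQ_norm {g a k : G} (ha : Commute a (g * z * g⁻¹)) (hk : k ∈ S.conjQ g) :
    a * k * a⁻¹ ∈ S.conjQ g := by
  rw [S.mem_conjQ] at hk ⊢
  have hb : Commute (g⁻¹ * a * g) z := by
    show g⁻¹ * a * g * z = z * (g⁻¹ * a * g)
    calc g⁻¹ * a * g * z = g⁻¹ * (a * (g * z * g⁻¹)) * g := by group
      _ = g⁻¹ * (g * z * g⁻¹ * a) * g := by rw [ha.eq]
      _ = z * (g⁻¹ * a * g) := by group
  have := S.h.conj_mem hb hk
  rwa [show g⁻¹ * a * g * (g⁻¹ * k * g) * (g⁻¹ * a * g)⁻¹ = g⁻¹ * (a * k * a⁻¹) * g by group] at this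

theorem back_commute {g a : G} (ha : Commute a (g * z * g⁻¹)) : Commute (g⁻¹ * a * g) z := by
  show g⁻¹ * a * g * z = z * (g⁻¹ * a * g)
  calc g⁻¹ * a * g * z = g⁻¹ * (a * (g * z * g⁻¹)) * g := by group
    _ = g⁻¹ * (g * z * g⁻¹ * a) * g := by rw [ha.eq]
    _ = z * (g⁻¹ * a * g) := by group

/-- The image seen from a conjugate. -/
def μ (g a : G) : A := S.π (g⁻¹ * a * g)

theorem μ_mul {g a b : G} (ha : Commute a (g * z * g⁻¹)) (hb : Commute b (g * z * g⁻¹)) :
    S.μ g (a * b) = S.μ g a * S.μ g b := by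
  rw [μ, μ, μ, ← S.π_mul _ _ (S.back_commute ha) (S.back_commute hb)]
  congr 1
  group

theorem μ_eq_one {g a : G} (ha : Commute a (g * z * g⁻¹)) : S.μ g a = 1 ↔ a ∈ S.conjQ g := by
  rw [μ, S.π_eq_one _ (S.back_commute ha), S.mem_conjQ]

/-- The image seen from a conjugate as a homomorphism on a subgroup of its centralizer. -/
def μHom (g : G) (P : Subgroup G) (hP : ∀ a ∈ P, Commute a (g * z * g⁻¹)) : ↥P →* A where
  toFun a := S.μ g a
  map_one' := (S.μ_eq_one (Commute.one_left _)).2 (one_mem _)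
  map_mul' a b := S.μ_mul (hP _ a.2) (hP _ b.2)

theorem mem_ker_μHom {g : G} {P : Subgroup G} {hP : ∀ a ∈ P, Commute a (g * z * g⁻¹)} {a : ↥P} :
    a ∈ (S.μHom g P hP).ker ↔ (a : G) ∈ S.conjQ g := by
  rw [MonoidHom.mem_ker]
  exact S.μ_eq_one (hP _ a.2)

theorem card_perp_two {u : V} (hu : u ≠ 0) : (S.toSetting.perp {0, u}).card = 128 := by
  have h : IsSub ({0, u} : Finset V) := by
    refine ⟨Finset.mem_insert_self _ _, fun {a b} ha hb => ?_⟩
    simp only [Finset.mem_insert, Finset.mem_singleton] at ha hb ⊢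
    rcases ha with rfl | rfl <;> rcases hb with rfl | rfl <;> simp [v_add_self]
  have := S.toSetting.card_mul_perp h
  rw [Finset.card_pair hu.symm] at this
  omega

theorem exists_separate {a b : V} (hb : b ≠ 0) (hab : a ≠ b) :
    ∃ u, S.toSetting.B u a = 0 ∧ S.toSetting.B u b = 1 := by
  by_contra hcon
  push Not at hcon
  have hle : ∀ u, S.toSetting.B u a = 0 → S.toSetting.B u b = 0 := fun u h =>
    (two_cases _).resolve_right (hcon u h)
  by_cases ha : a = 0
  · refine hb (S.toSetting.nondeg fun u => ?_)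
    rw [S.toSetting.B_comm]
    exact hle u (by rw [ha, S.toSetting.B_comm, S.toSetting.B_zero])
  have h4 : IsSub ({0, a, b, a + b} : Finset V) := by
    have hd : b + a = a + b := add_comm b a
    have h1 : a + (a + b) = b := v_cancel a b
    have h2 : a + b + a = b := by rw [add_comm, h1]
    have h3 : b + (a + b) = a := by rw [← hd, v_cancel]
    have h4 : a + b + b = a := by rw [add_assoc, v_add_self, add_zero]
    refine ⟨Finset.mem_insert_self _ _, fun {x y} hx hy => ?_⟩
    simp only [Finset.mem_insert, Finset.mem_singleton] at hx hy ⊢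
    rcases hx with e | e | e | e <;> rcases hy with e' | e' | e' | e' <;> rw [e, e'] <;>
      simp [v_add_self, hd, h1, h2, h3, h4]
  have hc : ({0, a, b, a + b} : Finset V).card = 4 := by
    rw [Finset.card_insert_of_notMem, Finset.card_insert_of_notMem, Finset.card_insert_of_notMem,
      Finset.card_singleton]
    · simp [ha]
    · simp [hab, hb]
    · simp only [Finset.mem_insert, Finset.mem_singleton, not_or]
      exact ⟨Ne.symm ha, Ne.symm hb, fun e => hab (v_add_eq_zero.1 e.symm)⟩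
  have h := S.toSetting.card_mul_perp h4
  rw [hc] at h
  have hsub : S.toSetting.perp {0, a} ⊆ S.toSetting.perp {0, a, b, a + b} := by
    intro u hu
    have h1 := S.toSetting.mem_perp.1 hu a (by simp)
    refine S.toSetting.mem_perp.2 fun x hx => ?_
    simp only [Finset.mem_insert, Finset.mem_singleton] at hx
    have h2 : S.toSetting.B b u = 0 := by
      rw [S.toSetting.B_comm]; exact hle u (by rw [S.toSetting.B_comm]; exact h1)
    rcases hx with rfl | rfl | rfl | rfl
    · exact S.toSetting.B_zero u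
    · exact h1
    · exact h2
    · rw [S.toSetting.B_add, h1, h2, add_zero]
  have := Finset.card_le_card hsub
  rw [S.card_perp_two ha] at this
  omega

end Sit

end CfsgLib.U6Cent
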