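import Cfsg.Agent.Lib.Invol.U6Cent.SplitWeights
import Cfsg.Agent.Lib.Invol.U6Cent.WeakClosure

/-!
Owner: helper13. With the split pattern and `PSp₄(3)` as the whole image, `z` is the only one of its conjugates
in its centralizer.
-/

set_option autoImplicit false
set_option linter.unusedSectionVars false

namespace CfsgLib.U6Cent

open Cfsg CfsgLib.ThreeTrans CfsgLib.Recog.SpFourCent

namespace Sit

variable {G : Type*} [Group G] [Finite G] {z : G} {Q : Subgroup G} {A : Type*} [Group A] (S : Sit z Q A)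
variable (hsp : S.Φ.Split) (hsurj : Function.Surjective S.j)
include hsp hsurj

theorem conj_zero {c a : G} (hc : Commute c z) (ha : a ∈ Q) (hw : S.ψ a ∈ S.Φ.W 0) :
    c * a * c⁻¹ = a ∨ c * a * c⁻¹ = z * a := by
  obtain ⟨r, hr⟩ := hsurj (S.π c)
  refine (S.toSetting.ψ_eq_iff ha (S.h.conj_mem hc ha)).1 ?_
  rw [S.ψ_conj c hc a ha, S.act_eq hc hr.symm, hsp.fix_zero r hw]

/-- A commutator in the centralizer centralizes the weight zero part. -/
theorem comm_zero {c d a : G} (hc : Commute c z) (hd : Commute d z) (ha : a ∈ Q) (hw : S.ψ a ∈ S.Φ.W 0) :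
    Commute (c * d * c⁻¹ * d⁻¹) a := by
  have key : ∀ e, Commute e z → ∃ w, (w = 1 ∨ w = z) ∧ e * a * e⁻¹ = w * a ∧ e⁻¹ * a * e = w * a := by
    intro e he
    rcases S.conj_zero hsp hsurj he ha hw with h | h
    · exact ⟨1, Or.inl rfl, by rw [h, one_mul], by
        calc e⁻¹ * a * e = e⁻¹ * (e * a * e⁻¹) * e := by rw [h]
          _ = 1 * a := by group⟩
    · refine ⟨z, Or.inr rfl, h, ?_⟩
      calc e⁻¹ * a * e = (z * z) * (e⁻¹ * a * e) := by rw [S.h.mul_self_z, one_mul]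
        _ = z * (z * e⁻¹) * a * e := by group
        _ = z * (e⁻¹ * z) * a * e := by rw [he.inv_left.eq]
        _ = z * e⁻¹ * (z * a) * e := by group
        _ = z * e⁻¹ * (e * a * e⁻¹) * e := by rw [h]
        _ = z * a := by group
  obtain ⟨w1, hw1, h1, h1'⟩ := key c hc
  obtain ⟨w2, hw2, h2, h2'⟩ := key d hd
  have hwc : ∀ {w e : G}, (w = 1 ∨ w = z) → Commute e z → e * w * e⁻¹ = w := fun hw' he => by
    rcases hw' with rfl | rfl
    · group
    · rw [he.eq, mul_inv_cancel_right]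
  have hww : ∀ {w : G}, (w = 1 ∨ w = z) → w * w = 1 := fun hw' => by
    rcases hw' with rfl | rfl
    exacts [one_mul 1, S.h.mul_self_z]
  have hw21 : w2 * w1 = w1 * w2 := by
    rcases hw1 with rfl | rfl <;> rcases hw2 with rfl | rfl <;> simp
  refine mul_inv_eq_iff_eq_mul.1 ?_
  calc c * d * c⁻¹ * d⁻¹ * a * (c * d * c⁻¹ * d⁻¹)⁻¹
      = c * (d * (c⁻¹ * (d⁻¹ * a * d) * c) * d⁻¹) * c⁻¹ := by group
    _ = c * (d * ((c⁻¹ * w2 * c⁻¹⁻¹) * (c⁻¹ * a * c)) * d⁻¹) * c⁻¹ := by rw [h2']; group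
    _ = c * ((d * w2 * d⁻¹) * (d * w1 * d⁻¹) * (d * a * d⁻¹)) * c⁻¹ := by rw [hwc hw2 hc.inv_left, h1']; group
    _ = (c * w2 * c⁻¹) * (c * w1 * c⁻¹) * (c * w2 * c⁻¹) * (c * a * c⁻¹) := by
        rw [hwc hw2 hd, hwc hw1 hd, h2]; group
    _ = w2 * w1 * w2 * w1 * a := by rw [hwc hw2 hc, hwc hw1 hc, h1]; group
    _ = a := by
        rw [mul_assoc (w2 * w1) w2 w1, show w2 * w1 * (w2 * w1) = 1 by
          rw [hw21, mul_assoc, ← mul_assoc w2, hw21, mul_assoc, hww hw2, mul_one, hww hw1], one_mul]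

theorem turn {x a : G} (hx : Commute x z) (ha : a ∈ Q) (h : x * a * x⁻¹ = z * a) : a * x * a⁻¹ = z * x := by
  have h1 : x * a = z * a * x := mul_inv_eq_iff_eq_mul.1 h
  calc a * x * a⁻¹ = z * z * (a * x) * a⁻¹ := by rw [S.h.mul_self_z, one_mul]
    _ = z * (z * a * x) * a⁻¹ := by group
    _ = z * x := by rw [← h1]; group

/-- Two elements of `Q` centralizing a conjugate of `z` and not each other. -/
theorem exists_noncommuting {g : G} (hc : Commute (g * z * g⁻¹) z) (hne : g * z * g⁻¹ ≠ z) :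
    ∃ a ∈ Q, ∃ b ∈ Q, Commute a (g * z * g⁻¹) ∧ Commute b (g * z * g⁻¹) ∧ a * b * a⁻¹ = z * b := by
  classical
  set x := g * z * g⁻¹ with hx
  by_cases hQ : x ∈ Q
  · have h0 : S.ψ x ≠ 0 := S.ψ_ne_zero hQ (fun e => S.h.z_ne_one (conj_eq_one_iff.1 e)) hne
    by_contra hno
    push Not at hno
    have hiso : S.toSetting.Isotropic (S.toSetting.perp {0, S.ψ x}) := by
      intro u hu v hv
      obtain ⟨a, ha, rfl⟩ := S.ψ_surj u
      obtain ⟨b, hb, rfl⟩ := S.ψ_surj v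
      have hax := S.toSetting.mem_perp.1 hu (S.ψ x) (by simp)
      have hbx := S.toSetting.mem_perp.1 hv (S.ψ x) (by simp)
      rw [S.toSetting.B_comm] at hax hbx
      refine (two_cases _).resolve_right fun h => hno a ha b hb ((S.toSetting.sq_mul_sq hQ ha).1 ?_).symm
        ((S.toSetting.sq_mul_sq hQ hb).1 ?_).symm ((S.toSetting.B_eq_one ha hb).1 h)
      · first | exact hax | (rw [S.toSetting.B_comm]; exact hax)
      · first | exact hbx | (rw [S.toSetting.B_comm]; exact hbx)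
    have := S.toSetting.isotropic_card (S.toSetting.perp_sub _) hiso
    rw [S.card_perp_two h0] at this
    omega
  obtain ⟨r, hr⟩ := hsurj (S.π x)
  have hr1 : r ≠ 1 := fun e => hQ ((S.π_eq_one x hc).1 (by rw [← hr, e, map_one]))
  have hr2 : r * r = 1 := S.j_inj (by
    rw [map_mul, hr, ← S.π_mul _ _ hc hc, hx, S.conj_mul_self g, S.toSetting.π_one, map_one])
  obtain ⟨w1, hw1, w2, hw2, h12⟩ := hsp.exists_basis_zero
  obtain ⟨u1, u2, hf1, hf2, hu12, horth⟩ := hsp.exists_fixed_pair hr2 hr1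
  obtain ⟨a1, ha1, rfl⟩ := S.ψ_surj w1
  obtain ⟨a2, ha2, rfl⟩ := S.ψ_surj w2
  obtain ⟨b1, hb1, rfl⟩ := S.ψ_surj u1
  obtain ⟨b2, hb2, rfl⟩ := S.ψ_surj u2
  have hor : ∀ a ∈ Q, S.Φ.R r (S.ψ a) = S.ψ a → Commute a x ∨ a * x * a⁻¹ = z * x := by
    intro a ha hf
    rcases S.toSetting.conj_or_of_fix hc ha (S.toSetting.mem_fix.2 (by rw [S.act_eq hc hr.symm, hf])) with h | h
    · exact Or.inl (mul_inv_eq_iff_eq_mul.1 h : Commute x a).symm
    · exact Or.inr (S.turn hsp hsurj hc ha h)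
  have hbad : ∀ a ∈ Q, ∀ b : G, a * x * a⁻¹ = z * x → b * x * b⁻¹ = z * x → Commute (a * b) x := by
    intro a ha b h h'
    refine mul_inv_eq_iff_eq_mul.1 ?_
    calc a * b * x * (a * b)⁻¹ = a * (b * x * b⁻¹) * a⁻¹ := by group
      _ = a * z * a⁻¹ * (a * x * a⁻¹) := by rw [h']; group
      _ = x := by rw [h, show a * z = z * a from S.h.commute_z ha, mul_inv_cancel_right, ← mul_assoc, S.h.mul_self_z,
          one_mul]
  have done : ∀ a ∈ Q, ∀ b ∈ Q, Commute a x → Commute b x → S.toSetting.B (S.ψ a) (S.ψ b) = 1 →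
      ∃ a ∈ Q, ∃ b ∈ Q, Commute a x ∧ Commute b x ∧ a * b * a⁻¹ = z * b :=
    fun a ha b hb hax hbx h => ⟨a, ha, b, hb, hax, hbx, (S.toSetting.B_eq_one ha hb).1 h⟩
  replace h12 : S.toSetting.B (S.ψ a1) (S.ψ a2) = 1 := h12
  have h21 : S.toSetting.B (S.ψ a2) (S.ψ a1) = 1 := by rw [S.toSetting.B_comm]; exact h12
  have hB1 : ∀ b, (b = b1 ∨ b = b2) → S.toSetting.B (S.ψ b) (S.ψ a1) = 0 ∧ S.toSetting.B (S.ψ b) (S.ψ a2) = 0 := by
    rintro b (rfl | rfl)
    exacts [⟨(horth _ hw1).1, (horth _ hw2).1⟩, ⟨(horth _ hw1).2, (horth _ hw2).2⟩]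
  have hbQ : ∀ b, (b = b1 ∨ b = b2) → b ∈ Q := by rintro b (rfl | rfl) <;> assumption
  obtain ⟨b, hb, hbb⟩ | hgood : (∃ b, (b = b1 ∨ b = b2) ∧ b * x * b⁻¹ = z * x) ∨ (Commute b1 x ∧ Commute b2 x) := by
    rcases hor b1 hb1 hf1 with h1 | h1
    · rcases hor b2 hb2 hf2 with h2 | h2
      exacts [Or.inr ⟨h1, h2⟩, Or.inl ⟨b2, Or.inr rfl, h2⟩]
    · exact Or.inl ⟨b1, Or.inl rfl, h1⟩
  swap
  · exact done b1 hb1 b2 hb2 hgood.1 hgood.2 hu12
  have hbQ' := hbQ b hb
  rcases hor a1 ha1 (hsp.fix_zero r hw1) with h1 | h1 <;> rcases hor a2 ha2 (hsp.fix_zero r hw2) with h2 | h2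
  · exact done a1 ha1 a2 ha2 h1 h2 h12
  · refine done _ (mul_mem ha2 hbQ') a1 ha1 (hbad a2 ha2 b h2 hbb) h1 ?_
    rw [S.ψ_mul _ ha2 _ hbQ', S.toSetting.B_add, h21, (hB1 b hb).1, add_zero]
  · refine done _ (mul_mem ha1 hbQ') a2 ha2 (hbad a1 ha1 b h1 hbb) h2 ?_
    rw [S.ψ_mul _ ha1 _ hbQ', S.toSetting.B_add, h12, (hB1 b hb).2, add_zero]
  · refine done _ (mul_mem ha1 hbQ') _ (mul_mem ha1 ha2) (hbad a1 ha1 b h1 hbb) (hbad a1 ha1 a2 h1 h2) ?_
    rw [S.ψ_mul _ ha1 _ hbQ', S.ψ_mul _ ha1 _ ha2, S.toSetting.B_add, S.toSetting.B_add_right,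
      S.toSetting.B_add_right, S.toSetting.B_self, h12, (hB1 b hb).1, (hB1 b hb).2]
    decide

/-- The backward conjugate centralizes the weight zero part. -/
theorem back_zero {g a : G} (hc : Commute (g * z * g⁻¹) z) (hne : g * z * g⁻¹ ≠ z) (ha : a ∈ Q)
    (hw : S.ψ a ∈ S.Φ.W 0) : Commute (g⁻¹ * z * g) a := by
  obtain ⟨b, hb, b', hb', hbx, hbx', e⟩ := S.exists_noncommuting hsp hsurj hc hne
  have h := S.comm_zero hsp hsurj (S.back_commute hbx) (S.back_commute hbx') ha hw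
  rwa [show g⁻¹ * b * g * (g⁻¹ * b' * g) * (g⁻¹ * b * g)⁻¹ * (g⁻¹ * b' * g)⁻¹ = g⁻¹ * (b * b' * b⁻¹ * b'⁻¹) * g by group,
    e, mul_inv_cancel_right] at h

theorem back_conj {g : G} (hc : Commute (g * z * g⁻¹) z) (hne : g * z * g⁻¹ ≠ z) :
    Commute (g⁻¹ * z * g⁻¹⁻¹) z ∧ g⁻¹ * z * g⁻¹⁻¹ ≠ z := by
  constructor
  · have h := (Commute.conj_iff g⁻¹).2 hc
    rw [show g⁻¹ * (g * z * g⁻¹) * g⁻¹⁻¹ = z by group] at h
    exact h.symm
  · intro e
    refine hne ?_
    conv_lhs => rw [← e]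
    group

/-- A conjugate in the centralizer centralizes the weight zero part. -/
theorem front_zero {g a : G} (hc : Commute (g * z * g⁻¹) z) (hne : g * z * g⁻¹ ≠ z) (ha : a ∈ Q)
    (hw : S.ψ a ∈ S.Φ.W 0) : Commute (g * z * g⁻¹) a := by
  have h := S.back_zero hsp hsurj (S.back_conj hsp hsurj hc hne).1 (S.back_conj hsp hsurj hc hne).2 ha hw
  rwa [inv_inv] at h

theorem fourth_power {c : G} (hc : c ∈ Q) : c ^ 4 = 1 := by
  rw [show (4 : ℕ) = 2 * 2 by norm_num, pow_mul, pow_two c]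
  rcases S.h.eq_or (S.h.sq_mem hc) with e | e
  · rw [e, one_pow]
  · rw [e, pow_two, S.h.mul_self_z]

/-- No conjugate but `z` lies in `Q`. -/
theorem split_weak {g : G} (hQ : g * z * g⁻¹ ∈ Q) : g * z * g⁻¹ = z := by
  by_contra hne
  have hzQ' := S.z_mem_conjQ hQ hne
  set x := g * z * g⁻¹ with hx
  have hc : Commute x z := S.h.commute_z hQ
  have hx0 : S.ψ x ≠ 0 := S.ψ_ne_zero hQ (fun e => S.h.z_ne_one (conj_eq_one_iff.1 e)) hne
  have hperp : ∀ w ∈ S.Φ.W 0, S.Φ.B (S.ψ x) w = 0 := fun w hw => by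
    obtain ⟨a, ha, rfl⟩ := S.ψ_surj w
    exact (S.toSetting.sq_mul_sq hQ ha).2 (S.front_zero hsp hsurj hc hne ha hw)
  obtain ⟨w1, hw1, w2, hw2, h12⟩ := hsp.exists_basis_zero
  obtain ⟨y, hy, rfl⟩ := S.ψ_surj w1
  have hyx : Commute x y := S.front_zero hsp hsurj hc hne hy hw1
  have hy0 : S.ψ y ≠ 0 := fun e => by rw [e, S.Φ.B_zero] at h12; exact zero_ne_one h12
  have hyψ : S.ψ y ≠ S.ψ x := fun e => by rw [e, hperp _ hw2] at h12; exact zero_ne_one h12
  -- `y` is outside the normal subgroup at `x`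
  have hyQ' : y ∉ S.conjQ g := by
    intro hy'
    set y' := g⁻¹ * y * g with hy'def
    set z' := g⁻¹ * z * g with hz'def
    have hy'Q : y' ∈ Q := S.mem_conjQ.1 hy'
    have hz'Q : z' ∈ Q := S.mem_conjQ.1 hzQ'
    have hback : y = g * y' * g⁻¹ := by rw [hy'def]; group
    have hy'0 : S.ψ y' ≠ 0 := by
      refine S.ψ_ne_zero hy'Q (fun e => hy0 ?_) fun e => hyψ ?_
      · rw [hback, e, mul_one, mul_inv_cancel, S.toSetting.ψ_one]
      · rw [hback, e, ← hx]
    have hz'y' : S.ψ z' ≠ S.ψ y' := by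
      intro e
      rcases (S.toSetting.ψ_eq_iff hz'Q hy'Q).1 e with e | e
      · refine hy0 ?_
        rw [hback, e, hz'def, show g * (g⁻¹ * z * g) * g⁻¹ = z by group, S.toSetting.ψ_z]
      · refine hyψ ?_
        rw [hback, e, hz'def, show g * (z * (g⁻¹ * z * g)) * g⁻¹ = x * z by rw [hx]; group,
          show x * z = z * x from S.h.commute_z hQ, S.toSetting.ψ_zmul hQ]
    obtain ⟨u, hu1, hu2⟩ := S.exists_separate hy'0 hz'y'
    obtain ⟨m', hm', rfl⟩ := S.ψ_surj u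
    set m := g * m' * g⁻¹ with hm
    have hmz : Commute m z := by
      have h := (Commute.conj_iff g).2 ((S.toSetting.sq_mul_sq hm' hz'Q).1 hu1)
      rwa [hz'def, show g * (g⁻¹ * z * g) * g⁻¹ = z by group] at h
    have hmy : m * y * m⁻¹ = x * y := by
      have h := (S.toSetting.B_eq_one hm' hy'Q).1 hu2
      rw [hy'def] at h
      calc m * y * m⁻¹ = g * (m' * (g⁻¹ * y * g) * m'⁻¹) * g⁻¹ := by rw [hm]; group
        _ = x * y := by rw [h, hx]; group
    obtain ⟨r, hr⟩ := hsurj (S.π m)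
    have h := S.ψ_conj m hmz y hy
    rw [hmy, S.ψ_mul _ hQ _ hy, S.act_eq hmz hr.symm, hsp.fix_zero r hw1] at h
    exact hx0 (add_eq_right.1 h)
  -- an element of order five
  obtain ⟨g5, hg1, hg5, hgx⟩ := hsp.exists_five (v := S.ψ x) hperp ((S.toSetting.sq_one_iff hQ).1 (S.conj_mul_self g)) hx0
  obtain ⟨c, hcz, hcπ, hcx⟩ := S.exists_lift_commute hQ (S.conj_notMem_zpowers hne) (a := S.j g5) hgx
  set c' := c ^ 4 with hc'
  have hc5 : c' ^ 5 = 1 := by
    rw [hc', ← pow_mul, show 4 * 5 = 5 * 4 from rfl, pow_mul]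
    refine S.fourth_power hsp hsurj ?_
    rw [← S.π_eq_one _ (hcz.pow_left 5), S.toSetting.π_pow hcz, hcπ, ← map_pow, hg5, map_one]
  have hc'1 : c' ≠ 1 := by
    intro e
    have h : S.j (g5 ^ 4) = 1 := by
      rw [map_pow, ← hcπ, ← S.toSetting.π_pow hcz, ← hc', e, S.toSetting.π_one]
    rw [← map_one S.j] at h
    exact hg1 (by
      have h5 := hg5
      rw [pow_succ, S.j_inj h, one_mul] at h5
      exact h5)
  have hc'x : Commute c' x := hcx.pow_left 4
  have hc'y : Commute c' y := by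
    have h2 : Commute (c' ^ 2) y := by
      refine mul_inv_eq_iff_eq_mul.1 ?_
      have hz' : Commute c' z := hcz.pow_left 4
      rw [pow_two, show c' * c' * y * (c' * c')⁻¹ = c' * (c' * y * c'⁻¹) * c'⁻¹ by group]
      rcases S.conj_zero hsp hsurj hz' hy hw1 with e | e <;> rw [e]
      · exact e
      · rw [show c' * (z * y) * c'⁻¹ = (c' * z * c'⁻¹) * (c' * y * c'⁻¹) by group, e, hz'.eq, mul_inv_cancel_right,
          ← mul_assoc, S.h.mul_self_z, one_mul]
    have h6 := h2.pow_left 3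
    rwa [← pow_mul, show 2 * 3 = 5 + 1 from rfl, pow_succ, hc5, one_mul] at h6
  let P := Subgroup.centralizer ({x} : Set G)
  let f := S.μHom g P fun a ha => Subgroup.mem_centralizer_singleton_iff.1 ha
  let yP : ↥P := ⟨y, Subgroup.mem_centralizer_singleton_iff.2 hyx.symm.eq⟩
  let cP : ↥P := ⟨c', Subgroup.mem_centralizer_singleton_iff.2 hc'x.eq⟩
  obtain ⟨r, hr⟩ := hsurj (f yP)
  obtain ⟨s, hs⟩ := hsurj (f cP)
  have hr1 : r ≠ 1 := fun e => hyQ' (S.mem_ker_μHom.1 (show yP ∈ f.ker by rw [MonoidHom.mem_ker, ← hr, e, map_one]))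
  have hr2 : r * r = 1 := S.j_inj (by
    rw [map_mul, hr, ← map_mul, map_one]
    refine (S.mem_ker_μHom (a := yP * yP)).2 ?_
    rcases S.h.eq_or (S.h.sq_mem hy) with e | e
    · show y * y ∈ _; rw [e]; exact one_mem _
    · show y * y ∈ _; rw [e]; exact hzQ')
  have hs5 : s ^ 5 = 1 := S.j_inj (by
    rw [map_pow, hs, ← map_pow, show cP ^ 5 = 1 from Subtype.ext hc5, map_one, map_one])
  have hsr : Commute s r := S.j_inj (by
    rw [map_mul, map_mul, hr, hs, ← map_mul, ← map_mul, show cP * yP = yP * cP from Subtype.ext hc'y.eq])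
  have hs1 := five_eq_one hr2 hr1 hs5 hsr
  have hker : c' ∈ S.conjQ g :=
    S.mem_ker_μHom.1 (show cP ∈ f.ker by rw [MonoidHom.mem_ker, ← hs, hs1, map_one])
  have hQ' := S.mem_conjQ.1 hker
  have h4 := S.fourth_power hsp hsurj hQ'
  have h5 : (g⁻¹ * c' * g) ^ 5 = 1 := by
    rw [show g⁻¹ * c' * g = g⁻¹ * c' * g⁻¹⁻¹ by group, conj_pow, hc5, mul_one, mul_inv_cancel]
  rw [pow_succ, h4, one_mul] at h5
  exact hc'1 (conj_eq_one_iff.1 (show g⁻¹ * c' * g⁻¹⁻¹ = 1 by rwa [inv_inv]))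

/-- With the split pattern `z` is the only conjugate in its centralizer. -/
theorem eq_of_split {g : G} (hc : Commute (g * z * g⁻¹) z) : g * z * g⁻¹ = z := by
  classical
  by_contra hne
  have hQ : g * z * g⁻¹ ∉ Q := fun h => hne (S.split_weak hsp hsurj h)
  set x := g * z * g⁻¹ with hx
  obtain ⟨r, hr⟩ := hsurj (S.π x)
  have hxx : x * x = 1 := S.conj_mul_self g
  have hr1 : r ≠ 1 := fun e => hQ ((S.π_eq_one x hc).1 (by rw [← hr, e, map_one]))
  have hr2 : r * r = 1 := S.j_inj (by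
    rw [map_mul, hr, ← S.π_mul _ _ hc hc, hxx, S.toSetting.π_one, map_one])
  -- the weight zero part at `x` acts trivially on the centralizer of `x` in `Q`
  let inM : V → Prop := fun v => ∃ a ∈ Q, Commute a x ∧ S.ψ a = v
  have key : ∀ w ∈ Q, S.ψ w ∈ S.Φ.W 0 → Commute (g * w * g⁻¹) z ∧ Commute (g * w * g⁻¹) x ∧
      ∀ p, S.π (g * w * g⁻¹) = S.j p → Commute p r ∧ ∀ v, inM v → S.Φ.R p v = v := by
    intro w hw hw0
    set u := g * w * g⁻¹ with hu
    have huz : Commute u z := by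
      have h := (Commute.conj_iff g).2 (S.back_zero hsp hsurj hc hne hw hw0)
      rw [show g * (g⁻¹ * z * g) * g⁻¹ = z by group] at h
      exact h.symm
    have hux : Commute u x := (Commute.conj_iff g).2 (S.h.commute_z hw)
    refine ⟨huz, hux, fun p hp => ⟨S.j_inj ?_, ?_⟩⟩
    · rw [map_mul, map_mul, ← hp, hr, ← S.π_mul _ _ huz hc, ← S.π_mul _ _ hc huz, hux.eq]
    rintro - ⟨a, ha, hax, rfl⟩
    have haz : Commute a z := S.h.commute_z ha
    have hau : Commute u a := by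
      rcases S.conj_zero hsp hsurj (S.back_commute hax) hw hw0 with e | e
      · refine (mul_inv_eq_iff_eq_mul.1 (?_ : a * u * a⁻¹ = u) : Commute a u).symm
        calc a * u * a⁻¹ = g * (g⁻¹ * a * g * w * (g⁻¹ * a * g)⁻¹) * g⁻¹ := by rw [hu]; group
          _ = u := by rw [e]
      · exfalso
        have h : a * u * a⁻¹ = x * u := by
          calc a * u * a⁻¹ = g * (g⁻¹ * a * g * w * (g⁻¹ * a * g)⁻¹) * g⁻¹ := by rw [hu]; group
            _ = x * u := by rw [e, hx, hu]; group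
        refine hQ ?_
        have h2 : a * (u * a⁻¹ * u⁻¹) ∈ Q := mul_mem ha (S.h.conj_mem huz (inv_mem ha))
        rwa [show a * (u * a⁻¹ * u⁻¹) = (a * u * a⁻¹) * u⁻¹ by group, h, mul_inv_cancel_right] at h2
    rw [← S.act_eq huz hp, ← S.ψ_conj u huz a ha, hau.eq, mul_inv_cancel_right]
  obtain ⟨w1, hw1, w2, hw2, h12⟩ := hsp.exists_basis_zero
  obtain ⟨a1, ha1, rfl⟩ := S.ψ_surj w1
  obtain ⟨a2, ha2, rfl⟩ := S.ψ_surj w2
  obtain ⟨hu1z, hu1x, k1⟩ := key a1 ha1 hw1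
  obtain ⟨hu2z, hu2x, k2⟩ := key a2 ha2 hw2
  obtain ⟨p1, hp1⟩ := hsurj (S.π (g * a1 * g⁻¹))
  obtain ⟨p2, hp2⟩ := hsurj (S.π (g * a2 * g⁻¹))
  obtain ⟨hp1r, hp1M⟩ := k1 p1 hp1.symm
  obtain ⟨hp2r, hp2M⟩ := k2 p2 hp2.symm
  have hcomm : ¬ Commute p1 p2 := by
    intro h
    refine hr1 (S.j_inj ?_)
    have e := (S.toSetting.B_eq_one ha1 ha2).1 h12
    have e' : g * a1 * g⁻¹ * (g * a2 * g⁻¹) = x * (g * a2 * g⁻¹) * (g * a1 * g⁻¹) := by
      calc g * a1 * g⁻¹ * (g * a2 * g⁻¹) = g * (a1 * a2 * a1⁻¹) * a1 * g⁻¹ := by group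
        _ = _ := by rw [e, hx]; group
    have h2 := congrArg S.π e'
    rw [S.π_mul _ _ hu1z hu2z, S.π_mul _ _ (hc.mul_left hu2z) hu1z, S.π_mul _ _ hc hu2z, ← hr, ← hp1, ← hp2,
      ← map_mul, ← map_mul, ← map_mul] at h2
    have h3 := S.j_inj h2
    rw [h.eq, mul_assoc, right_eq_mul] at h3
    rw [h3]
  -- the fixed vectors
  have hbad2 : ∀ u v, S.Φ.R r u = u → S.Φ.R r v = v → ¬ inM u → ¬ inM v → inM (u + v) := by
    intro u v hu hv hnu hnv
    obtain ⟨a, ha, rfl⟩ := S.ψ_surj u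
    obtain ⟨b, hb, rfl⟩ := S.ψ_surj v
    have hor : ∀ a ∈ Q, S.Φ.R r (S.ψ a) = S.ψ a → ¬ inM (S.ψ a) → a * x * a⁻¹ = z * x := by
      intro a ha hf hn
      rcases S.toSetting.conj_or_of_fix hc ha (S.toSetting.mem_fix.2 (by rw [S.act_eq hc hr.symm, hf])) with h | h
      · exact absurd ⟨a, ha, (mul_inv_eq_iff_eq_mul.1 h : Commute x a).symm, rfl⟩ hn
      · exact S.turn hsp hsurj hc ha h
    refine ⟨a * b, mul_mem ha hb, mul_inv_eq_iff_eq_mul.1 ?_, S.ψ_mul _ ha _ hb⟩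
    calc a * b * x * (a * b)⁻¹ = a * (b * x * b⁻¹) * a⁻¹ := by group
      _ = a * z * a⁻¹ * (a * x * a⁻¹) := by rw [hor b hb hv hnv]; group
      _ = x := by
        rw [hor a ha hu hnu, show a * z = z * a from S.h.commute_z ha, mul_inv_cancel_right, ← mul_assoc,
          S.h.mul_self_z, one_mul]
  have himg_fix : ∀ i ∈ S.Φ.img r, S.Φ.R r i = i := by
    intro i hi
    obtain ⟨v, rfl⟩ := S.Φ.mem_img.1 hi
    rw [S.Φ.R_add, ← S.Φ.R_mul, hr2, S.Φ.R_one, add_comm]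
  have hdual : ∀ i, (∀ v, S.Φ.R r v = v → S.Φ.B i v = 0) → i ∈ S.Φ.img r := by
    intro i hi
    set W := S.Φ.img r with hW
    have hsub : W ⊆ S.toSetting.perp (S.toSetting.perp W) := fun w hw => S.toSetting.mem_perp.2 fun u hu => by
      rw [S.toSetting.B_comm]; exact S.toSetting.mem_perp.1 hu w hw
    have h1 := S.toSetting.card_mul_perp (S.Φ.img_sub r)
    have h2 := S.toSetting.card_mul_perp (S.toSetting.perp_sub W)
    rw [show W.card = 4 from hsp.card_img_inv hr2 hr1] at h1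
    have h64 : (S.toSetting.perp W).card = 64 := by rw [hW]; omega
    rw [h64] at h2
    rw [Finset.eq_of_subset_of_card_le hsub (by rw [show W.card = 4 from hsp.card_img_inv hr2 hr1]; omega),
      S.toSetting.mem_perp]
    intro u hu
    rw [S.toSetting.B_comm]
    first
      | exact hi u ((S.Φ.fixed_iff hr2).2 fun a ha => (S.toSetting.B_comm u a).trans (S.toSetting.mem_perp.1 hu a ha))
      | (rw [S.toSetting.B_comm]; exact hi u ((S.Φ.fixed_iff hr2).2 fun a ha => (S.toSetting.B_comm u a).trans (S.toSetting.mem_perp.1 hu a ha)))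
  have hperpM : ∀ p, (∀ v, inM v → S.Φ.R p v = v) → ∀ v m, inM m → S.Φ.B (S.Φ.R p v + v) m = 0 := by
    intro p hp v m hm
    rw [S.Φ.B_add]
    nth_rewrite 1 [← hp m hm]
    rw [S.Φ.R_B, z2_add_self]
  by_cases hA : ∀ i ∈ S.Φ.img r, inM i
  · have hinvol : ∀ p, (∀ v, inM v → S.Φ.R p v = v) → p * p = 1 := by
      intro p hp
      refine S.Φ.faithful _ fun v => ?_
      set i := S.Φ.R p v + v with hi
      have hif : S.Φ.R r i = i := (S.Φ.fixed_iff hr2).2 fun a ha => hperpM p hp v a (hA a ha)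
      have hiM : inM i := by
        by_contra hn
        refine hn (hA i (hdual i fun w hw => ?_))
        by_cases hwM : inM w
        · exact hperpM p hp v w hwM
        · have h := hperpM p hp v _ (hbad2 w i hw hif hwM hn)
          rwa [S.Φ.B_add_right, ← hi, S.Φ.B_self, add_zero] at h
      have h := hp i hiM
      rw [hi, S.Φ.R_add] at h
      rw [S.Φ.R_mul]
      exact add_right_cancel (h.trans (add_comm _ _))
    have h12' : ∀ v, inM v → S.Φ.R (p1 * p2) v = v := fun v hv => by rw [S.Φ.R_mul, hp2M v hv, hp1M v hv]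
    refine hcomm ?_
    show p1 * p2 = p2 * p1
    rw [eq_inv_of_mul_eq_one_left (hinvol _ h12'), mul_inv_rev, inv_eq_of_mul_eq_one_left (hinvol p1 hp1M),
      inv_eq_of_mul_eq_one_left (hinvol p2 hp2M)]
  push Not at hA
  obtain ⟨c, hcI, hcM⟩ := hA
  have hq : ∀ i ∈ S.Φ.img r, (inM i ↔ S.Φ.q i = 0) := by
    intro i hi
    obtain ⟨v, rfl⟩ := S.Φ.mem_img.1 hi
    obtain ⟨a, ha, rfl⟩ := S.ψ_surj v
    have he := S.toSetting.cm_mem hc hxx ha
    have hψ : S.ψ (cm x a) = S.Φ.R r (S.ψ a) + S.ψ a := by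
      rw [S.toSetting.ψ_cm hc hxx ha, S.act_eq hc hr.symm]
    have hsq : x * cm x a * (x * cm x a) = 1 := by
      rw [← conj_eq_cm hxx]
      calc a⁻¹ * x * a * (a⁻¹ * x * a) = a⁻¹ * (x * x) * a := by group
        _ = 1 := by rw [hxx, mul_one, inv_mul_cancel]
    rw [← hψ]
    constructor
    · rintro ⟨b, hb, hbx, e⟩
      have hcx : Commute (cm x a) x := by
        rcases (S.toSetting.ψ_eq_iff hb he).1 e with h | h <;> rw [h]
        exacts [hbx, hc.symm.mul_left hbx]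
      refine (S.toSetting.sq_one_iff he).1 ?_
      rwa [hcx.mul_mul_mul_comm, hxx, one_mul] at hsq
    · intro h0
      refine ⟨cm x a, he, ?_, rfl⟩
      have h2 := (S.toSetting.sq_one_iff he).2 h0
      generalize cm x a = m at h2 hsq
      show m * x = x * m
      calc m * x = (x * x) * (m * x) * (m * m) := by rw [hxx, h2, one_mul, mul_one]
        _ = x * (x * m * (x * m)) * m := by simp only [mul_assoc]
        _ = x * m := by rw [hsq, mul_one]
  obtain ⟨d, hdI, hdM, hd0⟩ : ∃ d ∈ S.Φ.img r, inM d ∧ d ≠ 0 := by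
    obtain ⟨e, he, hne'⟩ := Finset.exists_mem_notMem_of_card_lt_card (s := ({0, c} : Finset V)) (t := S.Φ.img r)
      (lt_of_le_of_lt Finset.card_le_two (by rw [hsp.card_img_inv hr2 hr1]; norm_num))
    simp only [Finset.mem_insert, Finset.mem_singleton, not_or] at hne'
    by_cases heM : inM e
    · exact ⟨e, he, heM, hne'.1⟩
    · exact ⟨c + e, (S.Φ.img_sub r).add hcI he, hbad2 c e (himg_fix c hcI) (himg_fix e he) hcM heM,
        fun h => hne'.2 (v_add_eq_zero.1 h).symm⟩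
  have hc0 : c ≠ 0 := fun h => hcM ⟨1, one_mem _, Commute.one_left x, h ▸ S.toSetting.ψ_one⟩
  have hcd : c ≠ d := fun h => hcM (h ▸ hdM)
  have hqd : S.Φ.q d = 0 := (hq d hdI).1 hdM
  have hqc : S.Φ.q c = 1 := (two_cases _).resolve_left fun h => hcM ((hq c hcI).2 h)
  have hcdM : ¬ inM (c + d) := fun ⟨a, ha, hax, e⟩ => by
    obtain ⟨b, hb, hbx, e'⟩ := hdM
    exact hcM ⟨a * b, mul_mem ha hb, hax.mul_left hbx, by
      rw [S.ψ_mul _ ha _ hb, e, e', add_assoc, v_add_self, add_zero]⟩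
  have hqcd : S.Φ.q (c + d) = 1 := (two_cases _).resolve_left fun h => hcdM ((hq _ ((S.Φ.img_sub r).add hcI hdI)).2 h)
  have hlist : ∀ i ∈ S.Φ.img r, i = 0 ∨ i = c ∨ i = d ∨ i = c + d := by
    intro i hi
    have hc4 : ({0, c, d, c + d} : Finset V).card = 4 := by
      rw [Finset.card_insert_of_notMem, Finset.card_insert_of_notMem, Finset.card_insert_of_notMem,
        Finset.card_singleton]
      · simp [hc0]
      · simp [hcd, hd0]
      · simp [Ne.symm hc0, Ne.symm hd0]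
        exact fun e => hcd (v_add_eq_zero.1 e.symm)
    have hsub : ({0, c, d, c + d} : Finset V) ⊆ S.Φ.img r := fun j hj => by
      simp only [Finset.mem_insert, Finset.mem_singleton] at hj
      rcases hj with rfl | rfl | rfl | rfl
      exacts [(S.Φ.img_sub r).zero, hcI, hdI, (S.Φ.img_sub r).add hcI hdI]
    rw [← Finset.eq_of_subset_of_card_le hsub (by rw [hc4, hsp.card_img_inv hr2 hr1])] at hi
    simpa using hi
  -- transvection data of an involution with these commutators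
  have hform : ∀ p : P43, p * p = 1 → S.Φ.img p = S.Φ.img r → ∀ v, S.Φ.B v d = 1 →
      S.Φ.R p v + v = if S.Φ.B v c = 1 then c else c + d := by
    intro p hp himg v hvd
    have hf : S.Φ.R p v + v ∈ S.Φ.img p := S.Φ.mem_img.2 ⟨v, rfl⟩
    have hB : S.Φ.q (S.Φ.R p v + v) = S.Φ.B v (S.Φ.R p v + v) := by
      have h := S.Φ.q_add v (S.Φ.R p v + v)
      rw [show v + (S.Φ.R p v + v) = S.Φ.R p v by rw [add_comm (S.Φ.R p v) v, v_cancel], S.Φ.R_q,
        add_assoc, left_eq_add] at h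
      rcases two_cases (S.Φ.q (S.Φ.R p v + v)) with a | a <;>
        rcases two_cases (S.Φ.B v (S.Φ.R p v + v)) with b | b <;> rw [a, b] at h ⊢ <;>
        exact absurd h (by decide)
    have hne0 : S.Φ.R p v + v ≠ 0 := fun h => by
      have := (S.Φ.fixed_iff hp).1 (v_add_eq_zero.1 h) d (himg ▸ hdI)
      rw [this] at hvd
      exact zero_ne_one hvd
    rcases hlist _ (himg ▸ hf) with e | e | e | e
    · exact absurd e hne0
    · rw [e, hqc] at hB; rw [e, if_pos hB.symm]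
    · rw [e, hqd, hvd] at hB; exact absurd hB zero_ne_one
    · rw [e, hqcd, S.Φ.B_add_right, hvd] at hB
      rw [e, if_neg]
      intro h
      rw [h] at hB
      exact absurd hB (by decide)
  -- the stabilizer of `c` is too small
  have hsmall : ∀ p, (∀ v, inM v → S.Φ.R p v = v) → S.Φ.R p c = c → p = 1 ∨ p = r := by
    intro p hp hpc
    have hfix : ∀ v, S.Φ.R r v = v → S.Φ.R p v = v := by
      intro v hv
      by_cases hvM : inM v
      · exact hp v hvM
      · have h := hp _ (hbad2 v c hv (himg_fix c hcI) hvM hcM)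
        rw [S.Φ.R_add, hpc] at h
        exact add_right_cancel h
    have hsub : S.Φ.img p ⊆ S.Φ.img r := by
      intro i hi
      obtain ⟨v, rfl⟩ := S.Φ.mem_img.1 hi
      refine hdual _ fun w hw => ?_
      rw [S.Φ.B_add]
      nth_rewrite 1 [← hfix w hw]
      rw [S.Φ.R_B, z2_add_self]
    have hpp : p * p = 1 := S.Φ.faithful _ fun v => by
      have h := hfix _ (himg_fix _ (hsub (S.Φ.mem_img.2 ⟨v, rfl⟩)))
      rw [S.Φ.R_add] at h
      rw [S.Φ.R_mul]
      exact add_right_cancel (h.trans (add_comm _ _))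
    by_cases hp1 : p = 1
    · exact Or.inl hp1
    refine Or.inr ?_
    have himg : S.Φ.img p = S.Φ.img r := Finset.eq_of_subset_of_card_le hsub
      (by rw [hsp.card_img_inv hr2 hr1, hsp.card_img_inv hpp hp1])
    have hR : ∀ v, S.Φ.R p v = S.Φ.R r v := by
      have h1 : ∀ v, S.Φ.B v d = 1 → S.Φ.R p v = S.Φ.R r v := fun v hv =>
        add_right_cancel ((hform p hpp himg v hv).trans (hform r hr2 rfl v hv).symm)
      obtain ⟨v0, hv0⟩ : ∃ v0, S.Φ.B v0 d = 1 := by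
        by_contra hno
        push Not at hno
        refine hd0 (S.Φ.nondeg d fun u => ?_)
        rw [S.Φ.B_comm]
        exact (two_cases _).resolve_right (hno u)
      intro v
      rcases two_cases (S.Φ.B v d) with h | h
      · have h2 := h1 (v + v0) (by rw [S.Φ.B_add, h, hv0, zero_add])
        rw [S.Φ.R_add, S.Φ.R_add, h1 v0 hv0] at h2
        exact add_right_cancel h2
      · exact h1 v h
    refine (inv_mul_eq_one.1 (S.Φ.faithful (r⁻¹ * p) fun v => ?_)).symm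
    rw [S.Φ.R_mul, hR, S.Φ.R_inv]
  have hperm : ∀ p, Commute p r → (∀ v, inM v → S.Φ.R p v = v) → S.Φ.R p c = c ∨ S.Φ.R p c = c + d := by
    intro p hpr hp
    rcases hlist _ (S.Φ.R_img_of_commute hpr hcI) with e | e | e | e
    · exact absurd (S.Φ.R_injective p (e.trans (S.Φ.R_zero p).symm)) hc0
    · exact Or.inl e
    · exact absurd (S.Φ.R_injective p (e.trans (hp d hdM).symm)) hcd
    · exact Or.inr e
  have hrest : ∀ p q, Commute q r → (p = 1 ∨ p = r) → Commute p q := by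
    rintro p q hqr (rfl | rfl)
    exacts [Commute.one_left q, hqr.symm]
  rcases hperm p1 hp1r hp1M with e1 | e1
  · exact hcomm (hrest _ _ hp2r (hsmall p1 hp1M e1))
  rcases hperm p2 hp2r hp2M with e2 | e2
  · exact hcomm (hrest _ _ hp1r (hsmall p2 hp2M e2)).symm
  have h12' := hsmall (p1 * p2) (fun v hv => by rw [S.Φ.R_mul, hp2M v hv, hp1M v hv]) (by
    rw [S.Φ.R_mul, e2, S.Φ.R_add, e1, hp1M d hdM, add_assoc, v_add_self, add_zero])
  refine hcomm ?_
  rcases h12' with h | h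
  · rw [eq_inv_of_mul_eq_one_right h]; exact (Commute.refl p1).inv_right
  · rw [eq_inv_mul_of_mul_eq h]; exact (Commute.refl p1).inv_right.mul_right hp1r

end Sit

end CfsgLib.U6Cent
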