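import Cfsg.Agent.Lib.Invol.U6Cent.Rotation
import Cfsg.Agent.Lib.Invol.U6Cent.Hull

/-!
Owner: helper13. Facts on `PSp₄(3)` for the split pattern: a generation criterion, the two classes of involutions,
and no element of order five centralizes an involution.
-/

set_option autoImplicit false
set_option linter.unusedSectionVars false
set_option maxRecDepth 100000

namespace CfsgLib.U6Cent

open CfsgLib.Recog.SpFourCent CfsgLib.Sporadic

theorem plane_ue_check : ∀ a : Fin 24,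
    (cn a.1 0 0 < 576 ∧ mat (cn a.1 0 0) * uM (0, 0, 1) = uM (0, 0, 1) * mat (cn a.1 0 0)) ∧
    (cn 0 a.1 0 < 576 ∧ mat (cn 0 a.1 0) * uM (1, 0, 0) = uM (1, 0, 0) * mat (cn 0 a.1 0)) := by
  decide +kernel

theorem qx_eq_cl (x : ℕ) : qx x = cl (mat x) := (cl_of_mem (mat_mem x)).symm

theorem plane_ue {a : ℕ} (ha : a < 24) :
    (cn a 0 0 < 576 ∧ Commute (qx (cn a 0 0)) (ue (0, 0, 1))) ∧
    (cn 0 a 0 < 576 ∧ Commute (qx (cn 0 a 0)) (ue (1, 0, 0))) := by
  obtain ⟨⟨h1, e1⟩, h2, e2⟩ := plane_ue_check ⟨a, ha⟩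
  refine ⟨⟨h1, ?_⟩, h2, ?_⟩ <;>
    (show _ * _ = _ * _
     rw [qx_eq_cl, ue, ← cl_mul (mat_mem _) (uM_mem _), ← cl_mul (uM_mem _) (mat_mem _)])
  · rw [e1]
  · rw [e2]

theorem nb_orbit_check : (listA.all fun x => (List.range 576).any fun g => Nat.beq (cj g 1) x) = true := by
  decide +kernel

/-- The centralizer of the standard member is transitive on its neighbours. -/
theorem nb_transitive {a b : P43} (ha : a ∈ Nb tau) (hb : b ∈ Nb tau) :
    ∃ g, Commute g tau ∧ g * a * g⁻¹ = b := by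
  obtain ⟨K, hK, hf⟩ := exists_numbering
  have key : ∀ y ∈ Nb tau, ∃ g, Commute g tau ∧ g * K.psi 1 * g⁻¹ = y := by
    rintro y ⟨hy, hyne, hc⟩
    have h : y ∈ {y | y ∈ conjugatesOf K.tt ∧ y ≠ K.tt ∧ Commute K.tt y} := by rw [hK]; exact ⟨hy, hyne, hc⟩
    rw [hf.nb_eq] at h
    obtain ⟨m, hm, rfl⟩ := h
    have hchk := nb_orbit_check
    simp only [List.all_eq_true, List.any_eq_true, List.mem_range, Nat.beq_eq] at hchk
    obtain ⟨g, hg, e⟩ := hchk m (List.mem_toFinset.1 hm)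
    exact ⟨K.psi g, hK ▸ K.comm_tt hg, by rw [← K.psi_cj hg (by norm_num), e]⟩
  obtain ⟨g, hg, rfl⟩ := key a ha
  obtain ⟨k, hk, rfl⟩ := key b hb
  exact ⟨k * g⁻¹, hk.mul_left hg.inv_left, by group⟩

/-- A subgroup with the changes of basis and two centralizers is everything. -/
theorem eq_top_of_siegel {K : Subgroup P43} (hmv : ∀ m : Mv, m.el ∈ K)
    (h0 : ∀ g, Commute g (ue (1, 0, 0)) → g ∈ K) (h1 : ∀ g, Commute g (ue (0, 0, 1)) → g ∈ K) : K = ⊤ := by
  have hcent : ∀ g, Commute g tau → g ∈ K := by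
    intro g hg
    obtain ⟨x, hx, rfl⟩ := tau_cent hg.eq
    have hsplit := forallLt_elim split_check hx
    simp only [Nat.beq_eq] at hsplit
    have hab : ca x < 24 ∧ cb x < 24 ∧ cs x < 2 := ⟨ca_lt' hx, cb_lt x, cs_lt x⟩
    obtain ⟨⟨ha, hca⟩, -⟩ := plane_ue hab.1
    obtain ⟨-, hb, hcb⟩ := plane_ue hab.2.1
    have hs : cn 0 0 (cs x) < 576 ∧ qx (cn 0 0 (cs x)) ∈ K := by
      have hsc := small_check
      rcases (show cs x = 0 ∨ cs x = 1 by omega) with e | e <;> rw [e]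
      · rw [hsc.2.2]; exact ⟨by norm_num, qx_zero ▸ one_mem K⟩
      · exact ⟨Nat.blt_eq.mp hsc.2.1, flip_qx ▸ hmv Mv.flip⟩
    rw [hsplit, qx_mul (mul_lt ha hb) hs.1, qx_mul ha hb]
    exact mul_mem (mul_mem (h1 _ hca) (h0 _ hcb)) hs.2
  have hflipNb : Mv.flip.el ∈ Nb tau := ⟨flip_mem, Ne.symm flip_ne, flip_comm⟩
  have hcent' : ∀ x ∈ T, Commute tau x → ∀ g, Commute g x → g ∈ K := by
    intro x hx hc g hg
    by_cases hne : x = tau
    · exact hcent g (hne ▸ hg)
    obtain ⟨k, hk, hkx⟩ := nb_transitive hflipNb ⟨hx, hne, hc⟩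
    have hkK := mul_mem (hcent k hk) (hmv Mv.rot)
    have hxe : x = k * Mv.rot.el * tau * (k * Mv.rot.el)⁻¹ := by rw [← hkx, ← flip_el]; group
    rw [hxe] at hg
    obtain ⟨g', rfl⟩ : ∃ g', g = k * Mv.rot.el * g' * (k * Mv.rot.el)⁻¹ :=
      ⟨(k * Mv.rot.el)⁻¹ * g * (k * Mv.rot.el), by group⟩
    exact mul_mem (mul_mem hkK (hcent g' ((Commute.conj_iff _).1 hg))) (inv_mem hkK)
  rw [eq_top_iff, ← closure_T, Subgroup.closure_le]
  intro t ht
  obtain ⟨x, hx, hxc, htx⟩ := exists_middle tau_mem ht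
  exact hcent' x hx hxc t htx

/-- An involution is conjugate to the standard member or to the standard pair. -/
theorem inv_conj {r : P43} (hr : r * r = 1) (hr1 : r ≠ 1) :
    ∃ g, r = g * tau * g⁻¹ ∨ r = g * (tau * Mv.flip.el) * g⁻¹ := by
  rcases inv_cases hr hr1 with h | ⟨a, b, ha, hb, hab, hne, rfl⟩
  · obtain ⟨g, hg⟩ := exists_conj_T tau_mem h
    exact ⟨g, Or.inl hg.symm⟩
  · obtain ⟨g, hg⟩ := isConj_iff.1 (pair_isConj tau_mem flip_mem flip_comm flip_ne ha hb hab hne)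
    exact ⟨g, Or.inr hg.symm⟩

/-- No element of order five centralizes an involution. -/
theorem five_eq_one {r s : P43} (hr : r * r = 1) (hr1 : r ≠ 1) (hs : s ^ 5 = 1) (hc : Commute s r) : s = 1 := by
  obtain ⟨K, hK, hf⟩ := exists_numbering
  have hcard : Nat.card (Subgroup.centralizer ({r} : Set P43)) = 576 ∨
      Nat.card (Subgroup.centralizer ({r} : Set P43)) = 96 := by
    have key : ∀ {a : P43}, IsConj a r →
        Nat.card (Subgroup.centralizer ({r} : Set P43)) = Nat.card (Subgroup.centralizer ({a} : Set P43)) := by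
      intro a h
      obtain ⟨g, rfl⟩ := isConj_iff.1 h
      refine (Nat.card_congr ((MulAut.conj g).toEquiv.subtypeEquiv fun y => ?_)).symm
      show y ∈ Subgroup.centralizer ({a} : Set P43) ↔ g * y * g⁻¹ ∈ Subgroup.centralizer ({g * a * g⁻¹} : Set P43)
      rw [Subgroup.mem_centralizer_singleton_iff, Subgroup.mem_centralizer_singleton_iff]
      exact (Commute.conj_iff g).symm
    rcases hf.cover r (orderOf_eq_prime (by rw [pow_two, hr]) hr1) with h | h
    · exact Or.inl ((key h).trans K.card_cent)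
    · exact Or.inr ((key h).trans hf.card_centralizer_U)
  have h1 := Subgroup.orderOf_dvd_natCard (Subgroup.centralizer ({r} : Set P43))
    (Subgroup.mem_centralizer_singleton_iff.2 hc.eq)
  have h2 := orderOf_dvd_of_pow_eq_one hs
  rcases (Nat.dvd_prime (by norm_num : Nat.Prime 5)).1 h2 with e | e
  · exact orderOf_eq_one_iff.1 e
  · exfalso
    rw [e] at h1
    rcases hcard with c | c <;> rw [c] at h1 <;> omega

theorem card_P43 : Nat.card P43 = 25920 := by
  obtain ⟨K, -, hf⟩ := exists_numbering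
  exact hf.card_group

end CfsgLib.U6Cent
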