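import Cfsg.Agent.Lib.Invol.U6Cent.SplitGroup
import Cfsg.Agent.Lib.Invol.U6Cent.Natural

/-!
Owner: helper13. The split weight pattern: four fixed vectors, the six-dimensional part, involutions with four
commutator vectors, and elements of order five fixing singular vectors.
-/

set_option autoImplicit false
set_option linter.unusedSectionVars false
set_option maxRecDepth 100000

namespace CfsgLib.U6Cent

open CfsgLib.Recog.SpFourCent

theorem tri_moves : ∀ i, fv (tri i) (1, 0, 0) ≠ 0 ∧ fv (tri i) (0, 0, 1) ≠ 0 := by decide +kernel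

theorem tri_gam : fv (tri 0) (1, 0, 1) ≠ 0 := by decide +kernel

theorem tri_dual : (Mv.diag.dual (tri 0) = tri 0 ∧ Mv.flip.dual (tri 0) = tri 0) ∧
    (Mv.diag.dual (tri 1) = tri 2 ∧ Mv.diag.dual (tri 2) = tri 1) ∧
    (SameLine (Mv.flip.dual (tri 1)) (tri 2) ∧ SameLine (Mv.flip.dual (tri 2)) (tri 1)) ∧
    ∀ m : Mv, m.dual 0 = 0 := by decide +kernel

theorem tri_swap : fv (tri 1) (0, 1, 0) ≠ 0 ∧ fv (tri 2) (0, 1, 0) ≠ 0 ∧
    Mv.diag.sub (Mv.flip.sub (0, 1, 0)) = ((0, 2, 0) : Par) ∧ ((0, 1, 0) : Par) + (0, 1, 0) = (0, 2, 0) := by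
  decide +kernel

theorem tri_kill : ∀ i j : Fin 3, i ≠ j → ∀ c : ZMod 3, ∃ p : Par, fv (tri i) p = c ∧ fv (tri j) p = 0 := by
  decide +kernel

namespace Act

variable (Φ : Act)
include Φ

/-- A weight space of four vectors is an orbit and zero. -/
theorem list_four {l : Frm} (h4 : (Φ.W l).card = 4) {v : V} (hv : v ∈ Φ.W l) (hne : v ≠ 0) {p : Par}
    (hp : fv l p ≠ 0) {w : V} (hw : w ∈ Φ.W l) : w = 0 ∨ w = v ∨ w = Φ.U p v ∨ w = Φ.U (p + p) v := by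
  classical
  have h1 := Φ.U_ne hv hne hp
  have h2 : Φ.U (p + p) v ≠ v := fun e => h1 (by
    conv_rhs => rw [← Φ.U_zero v, ← par_three p, add_comm (p + p) p, U_add, e])
  have h12 : Φ.U p v ≠ Φ.U (p + p) v := fun e => h1 (Φ.R_injective (ue p) (e.trans (Φ.U_add p p v))).symm
  have h3 : Φ.U p v ≠ 0 := fun e => hne (Φ.R_injective (ue p) (e.trans (Φ.R_zero _).symm))
  have h4' : Φ.U (p + p) v ≠ 0 := fun e => hne (Φ.R_injective (ue (p + p)) (e.trans (Φ.R_zero _).symm))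
  have hc : ({0, v, Φ.U p v, Φ.U (p + p) v} : Finset V).card = 4 := by
    rw [Finset.card_insert_of_notMem, Finset.card_insert_of_notMem, Finset.card_insert_of_notMem,
      Finset.card_singleton]
    · simp [h12]
    · simp [h1.symm, h2.symm]
    · simp [hne.symm, h3.symm, h4'.symm]
  have hsub : ({0, v, Φ.U p v, Φ.U (p + p) v} : Finset V) ⊆ Φ.W l := fun x hx => by
    simp only [Finset.mem_insert, Finset.mem_singleton] at hx
    rcases hx with rfl | rfl | rfl | rfl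
    exacts [(Φ.W_sub _).zero, hv, Φ.W_U hv p, Φ.W_U hv _]
  rw [← Finset.eq_of_subset_of_card_le hsub (by rw [hc, h4])] at hw
  simpa using hw

theorem U_two_two (p : Par) (v : V) : Φ.U (p + p) (Φ.U (p + p) v) = Φ.U p v := by
  rw [← U_add, show p + p + (p + p) = p by rw [add_assoc, ← add_assoc p p p, par_three, add_zero]]

variable {Φ}

namespace Split

variable (hS : Φ.Split)
include hS

theorem orth_zero {i : Fin 3} {v w : V} (hv : v ∈ Φ.W (tri i)) (hw : w ∈ Φ.W 0) : Φ.B v w = 0 := by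
  rw [Φ.B_comm]
  refine Φ.orth_weight (tri_ne i).1 ?_ hw hv
  rintro (h | h)
  · exact (tri_ne i).1 h
  · exact (tri_ne i).1 (h.trans neg_zero)

theorem orth_tri {i j : Fin 3} (hij : i ≠ j) {v w : V} (hv : v ∈ Φ.W (tri i)) (hw : w ∈ Φ.W (tri j)) :
    Φ.B v w = 0 := Φ.orth_weight (tri_ne j).1 ((tri_ne j).2 i hij) hv hw

/-- The coordinates of a vector. -/
theorem exists_parts (v : V) : ∃ w ∈ Φ.W 0, ∃ a ∈ Φ.W (tri 0), ∃ b ∈ Φ.W (tri 1), ∃ c ∈ Φ.W (tri 2),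
    w + a + b + c = v := by
  obtain ⟨x, hx, rfl⟩ := hS.2.2 v
  exact ⟨x none, hx none, x (some 0), hx (some 0), x (some 1), hx (some 1), x (some 2), hx (some 2), by
    rw [Fintype.sum_option, Fin.sum_univ_three]; abel⟩

theorem B_parts {w a b c : V} (hw : w ∈ Φ.W 0) (ha : a ∈ Φ.W (tri 0)) (hb : b ∈ Φ.W (tri 1))
    (hc : c ∈ Φ.W (tri 2)) : (∀ x ∈ Φ.W 0, Φ.B x (w + a + b + c) = Φ.B x w) ∧
      (∀ x ∈ Φ.W (tri 0), Φ.B x (w + a + b + c) = Φ.B x a) ∧ (∀ x ∈ Φ.W (tri 1), Φ.B x (w + a + b + c) = Φ.B x b) ∧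
      ∀ x ∈ Φ.W (tri 2), Φ.B x (w + a + b + c) = Φ.B x c := by
  have h0 : ∀ {i : Fin 3} {x y : V}, x ∈ Φ.W 0 → y ∈ Φ.W (tri i) → Φ.B x y = 0 := fun hx hy => by
    rw [Φ.B_comm]; exact hS.orth_zero hy hx
  refine ⟨fun x hx => ?_, fun x hx => ?_, fun x hx => ?_, fun x hx => ?_⟩ <;>
    rw [B_add_right, B_add_right, B_add_right]
  · rw [h0 hx ha, h0 hx hb, h0 hx hc]; simp
  · rw [hS.orth_zero hx hw, hS.orth_tri (by decide) hx hb, hS.orth_tri (by decide) hx hc]; simp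
  · rw [hS.orth_zero hx hw, hS.orth_tri (by decide) hx ha, hS.orth_tri (by decide) hx hc]; simp
  · rw [hS.orth_zero hx hw, hS.orth_tri (by decide) hx ha, hS.orth_tri (by decide) hx hb]; simp

theorem exists_pair_zero {v : V} (hv : v ∈ Φ.W 0) (hne : v ≠ 0) : ∃ w ∈ Φ.W 0, Φ.B v w = 1 := by
  by_contra hno
  push Not at hno
  refine hne (Φ.nondeg v fun u => ?_)
  obtain ⟨w, hw, a, ha, b, hb, c, hc, rfl⟩ := hS.exists_parts u
  rw [(hS.B_parts hw ha hb hc).1 v hv]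
  exact (two_cases _).resolve_right (hno w hw)

theorem exists_pair_tri {i : Fin 3} {v : V} (hv : v ∈ Φ.W (tri i)) (hne : v ≠ 0) :
    ∃ w ∈ Φ.W (tri i), Φ.B v w = 1 := by
  by_contra hno
  push Not at hno
  refine hne (Φ.nondeg v fun u => ?_)
  obtain ⟨w, hw, a, ha, b, hb, c, hc, rfl⟩ := hS.exists_parts u
  obtain ⟨-, h0, h1, h2⟩ := hS.B_parts hw ha hb hc
  fin_cases i
  · rw [h0 v hv]; exact (two_cases _).resolve_right (hno a ha)
  · rw [h1 v hv]; exact (two_cases _).resolve_right (hno b hb)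
  · rw [h2 v hv]; exact (two_cases _).resolve_right (hno c hc)

theorem exists_basis_zero : ∃ w1 ∈ Φ.W 0, ∃ w2 ∈ Φ.W 0, Φ.B w1 w2 = 1 := by
  obtain ⟨v, hv, hne⟩ := Finset.exists_mem_ne (s := Φ.W 0) (by rw [hS.2.1]; norm_num) 0
  obtain ⟨w, hw, h⟩ := hS.exists_pair_zero hv hne
  exact ⟨v, hv, w, hw, h⟩

theorem exists_basis_tri (i : Fin 3) : ∃ u1 ∈ Φ.W (tri i), ∃ u2 ∈ Φ.W (tri i), Φ.B u1 u2 = 1 := by
  obtain ⟨v, hv, hne⟩ := Finset.exists_mem_ne (s := Φ.W (tri i)) (by rw [hS.1 i]; norm_num) 0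
  obtain ⟨w, hw, h⟩ := hS.exists_pair_tri hv hne
  exact ⟨v, hv, w, hw, h⟩

theorem q_tri {i : Fin 3} {v : V} (hv : v ∈ Φ.W (tri i)) (hne : v ≠ 0) : Φ.q v = 1 := by
  obtain ⟨w, hw, hB⟩ := hS.exists_pair_tri hv hne
  obtain ⟨p, hp⟩ := move_check (tri i) (tri_ne i).1
  have hBp : Φ.B v (Φ.U p v) = 1 := by
    rcases Φ.list_four (hS.1 i) hv hne hp hw with rfl | rfl | rfl | rfl
    · rw [Φ.B_comm, B_zero] at hB; exact absurd hB zero_ne_one
    · rw [Φ.B_self] at hB; exact absurd hB zero_ne_one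
    · exact hB
    · rw [← hB, ← Φ.R_B (ue p) v (Φ.U (p + p) v)]
      show Φ.B v (Φ.U p v) = Φ.B (Φ.U p v) (Φ.U p (Φ.U (p + p) v))
      rw [← U_add, show p + (p + p) = 0 by rw [← add_assoc, par_three], U_zero, Φ.B_comm]
  have h := congrArg Φ.q (v_add_eq_zero.1 (show v + Φ.U p v + Φ.U (p + p) v = 0 from (Φ.mem_W.1 hv).2 p hp))
  rw [Φ.q_add, show Φ.q (Φ.U (p + p) v) = Φ.q v from Φ.R_q _ _, show Φ.q (Φ.U p v) = Φ.q v from Φ.R_q _ _,
    hBp, z2_add_self, zero_add] at h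
  exact h.symm

theorem parts_zero {w a b c : V} (hw : w ∈ Φ.W 0) (ha : a ∈ Φ.W (tri 0)) (hb : b ∈ Φ.W (tri 1))
    (hc : c ∈ Φ.W (tri 2)) (h : w + a + b + c = 0) : w = 0 ∧ a = 0 ∧ b = 0 ∧ c = 0 := by
  let x : Option (Fin 3) → V := fun i => i.elim w ![a, b, c]
  have hx := Φ.indep (fun i : Option (Fin 3) => i.elim 0 tri) (by decide +kernel) 4 x
    (Finset.card_le_univ _) (fun i => by
      match i with
      | none => exact hw
      | some 0 => exact ha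
      | some 1 => exact hb
      | some 2 => exact hc) (by
      rw [Fintype.sum_option, Fin.sum_univ_three, ← h]
      show w + (a + b + c) = w + a + b + c
      abel)
  exact ⟨hx none, hx (some 0), hx (some 1), hx (some 2)⟩

/-- The fixed vectors of the two long root elements. -/
theorem mem_zero_of_fix {e : Par} (he : ∀ i, fv (tri i) e ≠ 0) {v : V} (hv : Φ.U e v = v) : v ∈ Φ.W 0 := by
  obtain ⟨w, hw, a, ha, b, hb, c, hc, rfl⟩ := hS.exists_parts v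
  have hwf : Φ.U e w = w := Φ.mem_W_zero.1 hw e
  simp only [U_vadd, hwf] at hv
  have h0 : (0 : V) + (Φ.U e a + a) + (Φ.U e b + b) + (Φ.U e c + c) = 0 := by
    calc (0 : V) + (Φ.U e a + a) + (Φ.U e b + b) + (Φ.U e c + c)
        = (w + w) + (Φ.U e a + a) + (Φ.U e b + b) + (Φ.U e c + c) := by rw [v_add_self]
      _ = (w + Φ.U e a + Φ.U e b + Φ.U e c) + (w + a + b + c) := by abel
      _ = 0 := by rw [hv, v_add_self]
  obtain ⟨-, h1, h2, h3⟩ := hS.parts_zero (Φ.W_sub 0).zero ((Φ.W_sub _).add (Φ.W_U ha e) ha)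
    ((Φ.W_sub _).add (Φ.W_U hb e) hb) ((Φ.W_sub _).add (Φ.W_U hc e) hc) h0
  have hz : ∀ {i : Fin 3} {x : V}, x ∈ Φ.W (tri i) → Φ.U e x + x = 0 → x = 0 := fun {i x} hx hx' => by
    by_contra hne
    exact Φ.U_ne hx hne (he i) (v_add_eq_zero.1 hx')
  rw [hz ha h1, hz hb h2, hz hc h3, add_zero, add_zero, add_zero]
  exact hw

/-- The four vectors of weight zero are fixed. -/
theorem fix_zero (g : P43) {w : V} (hw : w ∈ Φ.W 0) : Φ.R g w = w := by
  let K : Subgroup P43 :=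
    { carrier := {g | ∀ v, v ∈ Φ.W 0 ↔ Φ.R g v ∈ Φ.W 0}
      one_mem' := fun v => by rw [R_one]
      mul_mem' := fun {g h} hg hh v => by rw [R_mul]; exact (hh v).trans (hg _)
      inv_mem' := fun {g} hg v => by
        conv_rhs => rw [hg (Φ.R g⁻¹ v), ← Φ.R_mul, mul_inv_cancel, R_one] }
  have hK : K = ⊤ := by
    have hmem : ∀ g : P43, (∀ v ∈ Φ.W 0, Φ.R g v ∈ Φ.W 0) → g ∈ K := by
      intro g hg v
      refine ⟨hg v, fun h => ?_⟩
      classical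
      have himg : (Φ.W 0).image (Φ.R g) = Φ.W 0 :=
        Finset.eq_of_subset_of_card_le (fun x hx => by
          obtain ⟨y, hy, rfl⟩ := Finset.mem_image.1 hx
          exact hg y hy) (by rw [Finset.card_image_of_injective _ (Φ.R_injective g)])
      rw [← himg, Finset.mem_image] at h
      obtain ⟨y, hy, e⟩ := h
      rwa [Φ.R_injective g e] at hy
    have hcomm : ∀ e : Par, (∀ i, fv (tri i) e ≠ 0) → ∀ g, Commute g (ue e) → g ∈ K := fun e he g hg => by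
      refine hmem g fun v hv => hS.mem_zero_of_fix he ?_
      show Φ.R (ue e) (Φ.R g v) = Φ.R g v
      rw [← Φ.R_mul, ← hg.eq, Φ.R_mul]
      exact congrArg (Φ.R g) (Φ.mem_W_zero.1 hv e)
    refine eq_top_of_siegel (fun m => hmem _ fun v hv => Φ.R_mem_W m ?_)
      (hcomm _ fun i => (tri_moves i).1) (hcomm _ fun i => (tri_moves i).2)
    rwa [tri_dual.2.2.2 m]
  let Kp : Subgroup P43 :=
    { carrier := {g | ∀ v ∈ Φ.W 0, Φ.R g v = v}
      one_mem' := fun v _ => Φ.R_one v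
      mul_mem' := fun {g h} hg hh v hv => by rw [R_mul, hh v hv, hg v hv]
      inv_mem' := fun {g} hg v hv => by conv_lhs => rw [← hg v hv, R_inv] }
  have hn : Kp.Normal := ⟨fun x hx g v hv => by
    have hg : g⁻¹ ∈ K := hK ▸ Subgroup.mem_top _
    rw [R_mul, R_mul, hx _ ((hg v).1 hv), ← Φ.R_mul, mul_inv_cancel, R_one]⟩
  have htop : Kp = ⊤ := (IsSimpleGroup.eq_bot_or_eq_top_of_normal _ hn).resolve_left fun h =>
    ue_ne_one (show ((1, 0, 0) : Par) ≠ 0 by decide)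
      (Subgroup.mem_bot.1 (h ▸ (show ue (1, 0, 0) ∈ Kp from fun v hv => Φ.mem_W_zero.1 hv (1, 0, 0))))
  exact (htop ▸ Subgroup.mem_top g : g ∈ Kp) w hw

theorem fix_block {g : P43} (hg : g * g = 1) (hc : Commute g gam)
    (hpres : ∀ v ∈ Φ.W (tri 0), Φ.R g v ∈ Φ.W (tri 0)) {v : V} (hv : v ∈ Φ.W (tri 0)) : Φ.R g v = v := by
  by_cases hne : v = 0
  · rw [hne, R_zero]
  have hcomm : ∀ w, Φ.R g (Φ.U (1, 0, 1) w) = Φ.U (1, 0, 1) (Φ.R g w) := fun w => by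
    show Φ.R g (Φ.R gam w) = Φ.R gam (Φ.R g w)
    rw [← Φ.R_mul, ← Φ.R_mul, hc.eq]
  have htt : Φ.R g (Φ.R g v) = v := by rw [← Φ.R_mul, hg, R_one]
  rcases Φ.list_four (hS.1 0) hv hne tri_gam (hpres v hv) with e | e | e | e
  · exact absurd (Φ.R_injective _ (e.trans (Φ.R_zero _).symm)) hne
  · exact e
  · rw [e, hcomm, e] at htt
    exfalso
    refine Φ.U_ne hv hne tri_gam ?_
    conv_rhs => rw [← Φ.U_zero v, ← par_three ((1, 0, 1) : Par), add_comm _ ((1, 0, 1) : Par), U_add, U_add, htt]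
  · rw [e, Φ.U_add, hcomm, hcomm, e, ← Φ.U_add (1, 0, 1) (1, 0, 1), Φ.U_two_two] at htt
    exact absurd htt (Φ.U_ne hv hne tri_gam)

theorem tau_pres {v : V} : (v ∈ Φ.W (tri 0) → Φ.R tau v ∈ Φ.W (tri 0)) ∧
    (v ∈ Φ.W (tri 1) → Φ.R tau v ∈ Φ.W (tri 2)) ∧ (v ∈ Φ.W (tri 2) → Φ.R tau v ∈ Φ.W (tri 1)) := by
  rw [← diag_el]
  exact ⟨fun h => Φ.R_mem_W _ (by rwa [tri_dual.1.1]), fun h => Φ.R_mem_W _ (by rwa [tri_dual.2.1.2]),
    fun h => Φ.R_mem_W _ (by rwa [tri_dual.2.1.1])⟩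

theorem flip_pres {v : V} : (v ∈ Φ.W (tri 0) → Φ.R Mv.flip.el v ∈ Φ.W (tri 0)) ∧
    (v ∈ Φ.W (tri 1) → Φ.R Mv.flip.el v ∈ Φ.W (tri 2)) ∧ (v ∈ Φ.W (tri 2) → Φ.R Mv.flip.el v ∈ Φ.W (tri 1)) :=
  ⟨fun h => Φ.R_mem_W _ (by rwa [tri_dual.1.2]), fun h => Φ.R_mem_W _ (by rwa [Φ.W_same tri_dual.2.2.1.2]),
    fun h => Φ.R_mem_W _ (by rwa [Φ.W_same tri_dual.2.2.1.1])⟩

theorem img_tau_card : (Φ.img tau).card = 4 := by
  classical
  have h : Φ.img tau = (Φ.W (tri 1)).image fun w => Φ.R tau w + w := by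
    ext i
    simp only [mem_img, Finset.mem_image]
    refine ⟨?_, fun ⟨w, _, e⟩ => ⟨w, e⟩⟩
    rintro ⟨v, rfl⟩
    obtain ⟨w, hw, a, ha, b, hb, c, hc, rfl⟩ := hS.exists_parts v
    refine ⟨b + Φ.R tau c, (Φ.W_sub _).add hb (hS.tau_pres.2.2 hc), ?_⟩
    simp only [R_add, hS.fix_zero tau hw,
      hS.fix_block (sq_T tau_mem) gam_tau.symm (fun x hx => hS.tau_pres.1 hx) ha]
    rw [← Φ.R_mul, sq_T tau_mem, R_one]
    calc Φ.R tau b + c + (b + Φ.R tau c)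
        = (0 : V) + 0 + (Φ.R tau b + c + (b + Φ.R tau c)) := by rw [add_zero, zero_add]
      _ = (w + w) + (a + a) + (Φ.R tau b + c + (b + Φ.R tau c)) := by rw [v_add_self w, v_add_self a]
      _ = _ := by abel
  rw [h, Finset.card_image_of_injOn, hS.1]
  intro a ha b hb e
  have hab := (Φ.W_sub _).add ha hb
  refine v_add_eq_zero.1 (hS.parts_zero (Φ.W_sub 0).zero (Φ.W_sub _).zero hab (hS.tau_pres.2.1 hab) ?_).2.2.1
  calc (0 : V) + 0 + (a + b) + Φ.R tau (a + b) = (Φ.R tau a + a) + (Φ.R tau b + b) := by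
        rw [R_add, zero_add, zero_add]; abel
    _ = 0 := by rw [show Φ.R tau a + a = Φ.R tau b + b from e, v_add_self]

theorem pair_block {i : Fin 3} (hpres : ∀ v ∈ Φ.W (tri i), Φ.R (tau * Mv.flip.el) v ∈ Φ.W (tri i))
    (hp : fv (tri i) (0, 1, 0) ≠ 0) : ∃ a ∈ Φ.W (tri i), a ≠ 0 ∧
      (∀ v ∈ Φ.W (tri i), Φ.R (tau * Mv.flip.el) v + v = 0 ∨ Φ.R (tau * Mv.flip.el) v + v = a) ∧
      ∃ v ∈ Φ.W (tri i), Φ.R (tau * Mv.flip.el) v + v = a := by
  set g := tau * Mv.flip.el with hg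
  have hconj : g * ue (0, 1, 0) * g⁻¹ = ue (0, 2, 0) := by
    calc g * ue (0, 1, 0) * g⁻¹ = tau * (Mv.flip.el * ue (0, 1, 0) * Mv.flip.el⁻¹) * tau⁻¹ := by rw [hg]; group
      _ = ue (0, 2, 0) := by rw [Mv.el_ue, ← diag_el, Mv.el_ue, tri_swap.2.2.1]
  set e : Par := (0, 1, 0) with he
  have hcomm : ∀ w, Φ.R g (Φ.U e w) = Φ.U (e + e) (Φ.R g w) := fun w => by
    rw [show e + e = ((0, 2, 0) : Par) from tri_swap.2.2.2]
    show Φ.R g (Φ.R (ue e) w) = Φ.R (ue (0, 2, 0)) (Φ.R g w)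
    rw [← Φ.R_mul, ← Φ.R_mul, ← hconj, inv_mul_cancel_right]
  obtain ⟨v, hv, hne⟩ := Finset.exists_mem_ne (s := Φ.W (tri i)) (by rw [hS.1]; norm_num) 0
  obtain ⟨a, ha, ha0, hfix⟩ : ∃ a ∈ Φ.W (tri i), a ≠ 0 ∧ Φ.R g a = a := by
    have hUne : ∀ p : Par, Φ.U p v ≠ 0 := fun p h => hne (Φ.R_injective _ (h.trans (Φ.R_zero _).symm))
    rcases Φ.list_four (hS.1 i) hv hne hp (hpres v hv) with h | h | h | h
    · exact absurd (Φ.R_injective _ (h.trans (Φ.R_zero _).symm)) hne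
    · exact ⟨v, hv, hne, h⟩
    · refine ⟨_, Φ.W_U hv (e + e), hUne _, ?_⟩
      rw [U_add, hcomm, hcomm, h, Φ.U_two_two, ← U_add]
    · exact ⟨_, Φ.W_U hv e, hUne _, by rw [hcomm, h, Φ.U_two_two]⟩
  have hsum : a + Φ.U e a + Φ.U (e + e) a = 0 := (Φ.mem_W.1 ha).2 e hp
  have h1 : Φ.R g (Φ.U e a) + Φ.U e a = a := by
    rw [hcomm, hfix, add_comm]
    refine v_add_eq_zero.1 ?_
    rw [← hsum]; abel
  refine ⟨a, ha, ha0, fun w hw => ?_, Φ.U e a, Φ.W_U ha e, h1⟩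
  rcases Φ.list_four (hS.1 i) ha ha0 hp hw with rfl | rfl | rfl | rfl
  · left; rw [R_zero, add_zero]
  · left; rw [hfix, v_add_self]
  · exact Or.inr h1
  · right
    rw [Φ.U_add e e, hcomm, hcomm, hfix, Φ.U_two_two, ← U_add]
    refine v_add_eq_zero.1 ?_
    rw [← hsum]; abel

theorem pair_pres {v : V} : (v ∈ Φ.W (tri 0) → Φ.R (tau * Mv.flip.el) v ∈ Φ.W (tri 0)) ∧
    (v ∈ Φ.W (tri 1) → Φ.R (tau * Mv.flip.el) v ∈ Φ.W (tri 1)) ∧
    (v ∈ Φ.W (tri 2) → Φ.R (tau * Mv.flip.el) v ∈ Φ.W (tri 2)) := by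
  refine ⟨fun h => ?_, fun h => ?_, fun h => ?_⟩ <;> rw [R_mul]
  exacts [hS.tau_pres.1 (hS.flip_pres.1 h), hS.tau_pres.2.2 (hS.flip_pres.2.1 h),
    hS.tau_pres.2.1 (hS.flip_pres.2.2 h)]

theorem pair_sq : tau * Mv.flip.el * (tau * Mv.flip.el) = 1 := by
  rw [flip_comm.symm.mul_mul_mul_comm, sq_T tau_mem, sq_T flip_mem, one_mul]

theorem pair_fix_block {v : V} (hv : v ∈ Φ.W (tri 0)) : Φ.R (tau * Mv.flip.el) v = v :=
  hS.fix_block hS.pair_sq (gam_tau.symm.mul_left gam_flip.symm) (fun _ hx => hS.pair_pres.1 hx) hv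

theorem img_pair_card : (Φ.img (tau * Mv.flip.el)).card = 4 := by
  classical
  obtain ⟨a1, ha1, ha1', h1, v1, hv1, e1⟩ := hS.pair_block (fun v hv => hS.pair_pres.2.1 hv) tri_swap.1
  obtain ⟨a2, ha2, ha2', h2, v2, hv2, e2⟩ := hS.pair_block (fun v hv => hS.pair_pres.2.2 hv) tri_swap.2.1
  have hind : ∀ x y, (x = 0 ∨ x = a1) → (y = 0 ∨ y = a2) → x + y = 0 → x = 0 ∧ y = 0 := by
    intro x y hx hy e
    have hx' : x ∈ Φ.W (tri 1) := by rcases hx with rfl | rfl; exacts [(Φ.W_sub _).zero, ha1]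
    have hy' : y ∈ Φ.W (tri 2) := by rcases hy with rfl | rfl; exacts [(Φ.W_sub _).zero, ha2]
    exact (hS.parts_zero (Φ.W_sub 0).zero (Φ.W_sub _).zero hx' hy' (by rw [zero_add, zero_add, e])).2.2
  have hR0 : Φ.R (tau * Mv.flip.el) 0 = 0 := Φ.R_zero _
  have h : Φ.img (tau * Mv.flip.el) = {0, a1, a2, a1 + a2} := by
    ext i
    simp only [mem_img, Finset.mem_insert, Finset.mem_singleton]
    constructor
    · rintro ⟨v, rfl⟩
      obtain ⟨w, hw, a, ha, b, hb, c, hc, rfl⟩ := hS.exists_parts v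
      simp only [R_add, hS.fix_zero _ hw, hS.pair_fix_block ha]
      have e : w + a + Φ.R (tau * Mv.flip.el) b + Φ.R (tau * Mv.flip.el) c + (w + a + b + c) =
          (Φ.R (tau * Mv.flip.el) b + b) + (Φ.R (tau * Mv.flip.el) c + c) := by
        calc _ = (w + w) + (a + a) + ((Φ.R (tau * Mv.flip.el) b + b) + (Φ.R (tau * Mv.flip.el) c + c)) := by abel
          _ = _ := by rw [v_add_self, v_add_self, zero_add, zero_add]
      rw [e]
      rcases h1 b hb with p | p <;> rcases h2 c hc with q | q <;> rw [p, q] <;> simp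
    · rintro (rfl | rfl | rfl | rfl)
      · exact ⟨0, by rw [hR0, add_zero]⟩
      · exact ⟨v1, e1⟩
      · exact ⟨v2, e2⟩
      · exact ⟨v1 + v2, by rw [R_add, ← e1, ← e2]; abel⟩
  rw [h, Finset.card_insert_of_notMem, Finset.card_insert_of_notMem, Finset.card_insert_of_notMem,
    Finset.card_singleton]
  · rw [Finset.mem_singleton]
    exact fun e => ha1' (add_eq_right.1 e.symm)
  · simp only [Finset.mem_insert, Finset.mem_singleton, not_or]
    exact ⟨fun e => ha1' (hind a1 a2 (Or.inr rfl) (Or.inr rfl) (v_add_eq_zero.2 e)).1,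
      fun e => ha2' (left_eq_add.1 e)⟩
  · simp only [Finset.mem_insert, Finset.mem_singleton, not_or]
    exact ⟨Ne.symm ha1', Ne.symm ha2', fun e => ha1' (hind a1 a2 (Or.inr rfl) (Or.inr rfl) e.symm).1⟩

/-- An involution has four commutator vectors. -/
theorem card_img_inv {r : P43} (hr : r * r = 1) (hr1 : r ≠ 1) : (Φ.img r).card = 4 := by
  classical
  obtain ⟨g, rfl | rfl⟩ := inv_conj hr hr1 <;> rw [Φ.img_conj, Finset.card_image_of_injective _ (Φ.R_injective g)]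
  exacts [hS.img_tau_card, hS.img_pair_card]

/-- An involution fixes a hyperbolic pair orthogonal to the weight zero vectors. -/
theorem exists_fixed_pair {r : P43} (hr : r * r = 1) (hr1 : r ≠ 1) :
    ∃ u1 u2, Φ.R r u1 = u1 ∧ Φ.R r u2 = u2 ∧ Φ.B u1 u2 = 1 ∧ ∀ w ∈ Φ.W 0, Φ.B u1 w = 0 ∧ Φ.B u2 w = 0 := by
  obtain ⟨u1, hu1, u2, hu2, h12⟩ := hS.exists_basis_tri 0
  have key : ∀ g x : P43, (∀ v ∈ Φ.W (tri 0), Φ.R x v = v) → ∃ v1 v2, Φ.R (g * x * g⁻¹) v1 = v1 ∧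
      Φ.R (g * x * g⁻¹) v2 = v2 ∧ Φ.B v1 v2 = 1 ∧ ∀ w ∈ Φ.W 0, Φ.B v1 w = 0 ∧ Φ.B v2 w = 0 := by
    intro g x hx
    refine ⟨Φ.R g u1, Φ.R g u2, ?_, ?_, by rw [R_B, h12], fun w hw => ?_⟩
    · rw [R_mul, R_mul, R_inv, hx _ hu1]
    · rw [R_mul, R_mul, R_inv, hx _ hu2]
    · rw [← hS.fix_zero g hw, R_B, R_B]
      exact ⟨hS.orth_zero hu1 hw, hS.orth_zero hu2 hw⟩
  obtain ⟨g, rfl | rfl⟩ := inv_conj hr hr1
  · exact key g tau fun v hv => hS.fix_block (sq_T tau_mem) gam_tau.symm (fun _ h => hS.tau_pres.1 h) hv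
  · exact key g _ fun v hv => hS.pair_fix_block hv

theorem exists_U {i j : Fin 3} (hij : i ≠ j) {a a' : V} (ha : a ∈ Φ.W (tri i)) (ha' : a' ∈ Φ.W (tri i))
    (h : a ≠ 0) (h' : a' ≠ 0) : ∃ p, Φ.U p a = a' ∧ fv (tri j) p = 0 := by
  obtain ⟨p, hp, hpj⟩ := tri_kill i j hij 1
  have hp' : fv (tri i) p ≠ 0 := by rw [hp]; decide
  rcases Φ.list_four (hS.1 i) ha h hp' ha' with e | e | e | e
  · exact absurd e h'
  · exact ⟨0, by rw [U_zero, e], by simp [fv]⟩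
  · exact ⟨p, e.symm, hpj⟩
  · refine ⟨p + p, e.symm, ?_⟩
    have : fv (tri j) (p + p) = fv (tri j) p + fv (tri j) p := by
      simp only [fv, Prod.fst_add, Prod.snd_add]; ring
    rw [this, hpj, add_zero]

/-- A singular vector orthogonal to the weight zero ones is fixed by an element of order five. -/
theorem exists_five {v : V} (hv : ∀ w ∈ Φ.W 0, Φ.B v w = 0) (hq : Φ.q v = 0) (hne : v ≠ 0) :
    ∃ g : P43, g ≠ 1 ∧ g ^ 5 = 1 ∧ Φ.R g v = v := by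
  classical
  haveI := Fintype.ofFinite P43
  haveI : Fact (Nat.Prime 5) := ⟨by norm_num⟩
  let St : Subgroup P43 :=
    { carrier := {g | Φ.R g v = v}
      one_mem' := Φ.R_one v
      mul_mem' := fun {g h} hg hh => show Φ.R (g * h) v = v by rw [R_mul, hh, hg]
      inv_mem' := fun {g} hg => by
        show Φ.R g⁻¹ v = v
        conv_lhs => rw [← (hg : Φ.R g v = v), R_inv] }
  by_cases h5 : 5 ∣ Nat.card St
  · obtain ⟨g, hg⟩ := exists_prime_orderOf_dvd_card' 5 h5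
    refine ⟨g.1, fun e => ?_, by rw [← SubmonoidClass.coe_pow, ← hg, pow_orderOf_eq_one]; rfl, g.2⟩
    rw [show g = 1 from Subtype.ext e, orderOf_one] at hg
    omega
  exfalso
  set O : Finset V := Finset.univ.image fun g => Φ.R g v with hO
  have hOmem : ∀ {x}, x ∈ O ↔ ∃ g, Φ.R g v = x := fun {x} => by simp [O]
  have hindex : St.index = O.card := by
    rw [Subgroup.index_eq_card, ← Fintype.card_coe, ← Nat.card_eq_fintype_card]
    let f : P43 ⧸ St → ↥O := Quotient.lift (fun g => ⟨Φ.R g v, hOmem.2 ⟨g, rfl⟩⟩) fun g h hgh => by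
      refine Subtype.ext ?_
      have h' : Φ.R (g⁻¹ * h) v = v := QuotientGroup.leftRel_apply.1 hgh
      show Φ.R g v = Φ.R h v
      conv_lhs => rw [← h', ← R_mul, mul_inv_cancel_left]
    refine Nat.card_congr (Equiv.ofBijective f ⟨?_, ?_⟩)
    · intro a b
      obtain ⟨g, rfl⟩ := QuotientGroup.mk_surjective a
      obtain ⟨h, rfl⟩ := QuotientGroup.mk_surjective b
      intro e
      refine QuotientGroup.eq.2 ?_
      show Φ.R (g⁻¹ * h) v = v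
      rw [R_mul, ← (show Φ.R g v = Φ.R h v from congrArg Subtype.val e), R_inv]
    · rintro ⟨x, hx⟩
      obtain ⟨g, rfl⟩ := hOmem.1 hx
      exact ⟨QuotientGroup.mk g, rfl⟩
  have h5O : 5 ∣ O.card := by
    have h := St.card_mul_index
    rw [hindex, card_P43] at h
    exact ((Nat.Prime.dvd_mul (by norm_num)).1 (h ▸ (by norm_num : 5 ∣ 25920))).resolve_left h5
  -- the three supports
  let P : Fin 3 → Fin 3 → Finset V := fun i j =>
    (((Φ.W (tri i)).erase 0) ×ˢ ((Φ.W (tri j)).erase 0)).image fun x => x.1 + x.2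
  let idx : Fin 3 → Fin 3 × Fin 3 := ![(1, 2), (0, 2), (0, 1)]
  have hidx : ∀ k, (idx k).1 ≠ (idx k).2 := by decide
  let Pk : Fin 3 → Finset V := fun k => P (idx k).1 (idx k).2
  have hP9 : ∀ k, (Pk k).card = 9 := by
    intro k
    rw [Finset.card_image_of_injOn, Finset.card_product, Finset.card_erase_of_mem (Φ.W_sub _).zero,
      Finset.card_erase_of_mem (Φ.W_sub _).zero, hS.1, hS.1]
    rintro ⟨a, b⟩ hab ⟨a', b'⟩ hab' e
    simp only [Finset.mem_coe, Finset.mem_product, Finset.mem_erase] at hab hab'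
    have hz : (a + a') + (b + b') = 0 := by
      calc (a + a') + (b + b') = (a + b) + (a' + b') := by abel
        _ = 0 := by rw [show a + b = a' + b' from e, v_add_self]
    have ho : ∀ {u x}, u ∈ Φ.W (tri (idx k).1) → x ∈ Φ.W (tri (idx k).2) → Φ.B u x = 0 := fun hu hx =>
      hS.orth_tri (hidx k) hu hx
    have hA : a + a' = 0 := by
      by_contra hA
      obtain ⟨u, hu, hu1⟩ := hS.exists_pair_tri ((Φ.W_sub _).add hab.1.2 hab'.1.2) hA
      have h := congrArg (Φ.B u) hz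
      rw [B_add_right, Φ.B_comm u (a + a'), hu1, ho hu ((Φ.W_sub _).add hab.2.2 hab'.2.2), Φ.B_comm u 0,
        B_zero] at h
      exact one_ne_zero h
    rw [hA, zero_add] at hz
    exact Prod.ext (v_add_eq_zero.1 hA) (v_add_eq_zero.1 hz)
  have hclosed : ∀ k, ∀ x ∈ Pk k, x ∈ O → Pk k ⊆ O := by
    intro k x hx hxO y hy
    simp only [Pk, P, Finset.mem_image, Finset.mem_product, Finset.mem_erase] at hx hy
    obtain ⟨⟨a, b⟩, ⟨⟨ha0, ha⟩, hb0, hb⟩, rfl⟩ := hx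
    obtain ⟨⟨a', b'⟩, ⟨⟨ha0', ha'⟩, hb0', hb'⟩, rfl⟩ := hy
    obtain ⟨p, hp, hp'⟩ := hS.exists_U (hidx k) ha ha' ha0 ha0'
    obtain ⟨r, hr, hr'⟩ := hS.exists_U (hidx k).symm hb hb' hb0 hb0'
    obtain ⟨g, hg⟩ := hOmem.1 hxO
    refine hOmem.2 ⟨ue (p + r) * g, ?_⟩
    rw [R_mul, hg, R_add]
    show Φ.U (p + r) a + Φ.U (p + r) b = a' + b'
    rw [U_add, U_add, (Φ.mem_W.1 ha).1 r hr', hp, hr, (Φ.mem_W.1 hb').1 p hp']
  have hcover : ∀ x ∈ O, ∃ k, x ∈ Pk k := by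
    intro x hx
    obtain ⟨g, rfl⟩ := hOmem.1 hx
    obtain ⟨w, hw, a, ha, b, hb, c, hc, e⟩ := hS.exists_parts (Φ.R g v)
    have hw0 : w = 0 := by
      by_contra h
      obtain ⟨u, hu, hu1⟩ := hS.exists_pair_zero hw h
      have h1 := hv u hu
      rw [← Φ.R_B g, hS.fix_zero g hu, ← e, Φ.B_comm, (hS.B_parts hw ha hb hc).1 u hu, Φ.B_comm, hu1] at h1
      exact one_ne_zero h1
    have hq' : Φ.q (Φ.R g v) = 0 := by rw [R_q, hq]
    have hne' : Φ.R g v ≠ 0 := fun h => hne (Φ.R_injective g (h.trans (Φ.R_zero g).symm))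
    rw [← e, hw0, zero_add] at hq' hne' ⊢
    rw [Φ.q_add, Φ.q_add, hS.orth_tri (by decide) ha hb, Φ.B_add, hS.orth_tri (by decide) ha hc,
      hS.orth_tri (by decide) hb hc, add_zero, add_zero, add_zero] at hq'
    have hmem : ∀ k, ∀ s ∈ Φ.W (tri (idx k).1), ∀ t ∈ Φ.W (tri (idx k).2), s ≠ 0 → t ≠ 0 → s + t ∈ Pk k :=
      fun k s hs t ht h1 h2 => Finset.mem_image.2
        ⟨(s, t), Finset.mem_product.2 ⟨Finset.mem_erase.2 ⟨h1, hs⟩, Finset.mem_erase.2 ⟨h2, ht⟩⟩, rfl⟩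
    have hq0 := Φ.q_zero
    by_cases ha0 : a = 0 <;> by_cases hb0 : b = 0 <;> by_cases hc0 : c = 0
    · simp [ha0, hb0, hc0] at hne'
    · exact absurd hq' (by rw [ha0, hb0, hq0, hS.q_tri hc hc0]; decide)
    · exact absurd hq' (by rw [ha0, hc0, hq0, hS.q_tri hb hb0]; decide)
    · exact ⟨0, by rw [ha0, zero_add]; exact hmem 0 b hb c hc hb0 hc0⟩
    · exact absurd hq' (by rw [hb0, hc0, hq0, hS.q_tri ha ha0]; decide)
    · exact ⟨1, by rw [hb0, add_zero]; exact hmem 1 a ha c hc ha0 hc0⟩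
    · exact ⟨2, by rw [hc0, add_zero]; exact hmem 2 a ha b hb ha0 hb0⟩
    · exact absurd hq' (by rw [hS.q_tri ha ha0, hS.q_tri hb hb0, hS.q_tri hc hc0]; decide)
  have hdisj : ∀ k k', k ≠ k' → ∀ x, x ∈ Pk k → x ∈ Pk k' → False := by
    intro k k' hkk x hx hx'
    simp only [Pk, P, Finset.mem_image, Finset.mem_product, Finset.mem_erase] at hx hx'
    obtain ⟨⟨a, b⟩, ⟨⟨ha0, ha⟩, hb0, hb⟩, rfl⟩ := hx
    obtain ⟨⟨a', b'⟩, ⟨⟨-, ha'⟩, -, hb'⟩, e⟩ := hx'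
    have hidx2 : ∀ k k' : Fin 3, k ≠ k' → ((idx k).1 ≠ (idx k').1 ∧ (idx k).1 ≠ (idx k').2) ∨
        ((idx k).2 ≠ (idx k').1 ∧ (idx k).2 ≠ (idx k').2) := by decide
    have he : ∀ u, Φ.B u (a' + b') = Φ.B u (a + b) := fun u => by rw [show a' + b' = a + b from e]
    rcases hidx2 k k' hkk with ⟨h1, h2⟩ | ⟨h1, h2⟩
    · obtain ⟨u, hu, hu1⟩ := hS.exists_pair_tri ha ha0
      have h := he u
      rw [B_add_right, B_add_right, hS.orth_tri h1 hu ha', hS.orth_tri h2 hu hb', Φ.B_comm u a, hu1,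
        hS.orth_tri (hidx k) hu hb] at h
      exact absurd h (by decide)
    · obtain ⟨u, hu, hu1⟩ := hS.exists_pair_tri hb hb0
      have h := he u
      rw [B_add_right, B_add_right, hS.orth_tri h1 hu ha', hS.orth_tri h2 hu hb', Φ.B_comm u b, hu1,
        hS.orth_tri (hidx k).symm hu ha] at h
      exact absurd h (by decide)
  set Ks := Finset.univ.filter fun k => (O ∩ Pk k).Nonempty with hKs
  have hOeq : O = Ks.biUnion Pk := by
    ext x
    rw [Finset.mem_biUnion]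
    refine ⟨fun hx => ?_, fun ⟨k, hk, hx⟩ => ?_⟩
    · obtain ⟨k, hk⟩ := hcover x hx
      exact ⟨k, Finset.mem_filter.2 ⟨Finset.mem_univ k, x, Finset.mem_inter.2 ⟨hx, hk⟩⟩, hk⟩
    · obtain ⟨y, hy⟩ := (Finset.mem_filter.1 hk).2
      exact hclosed k y (Finset.mem_inter.1 hy).2 (Finset.mem_inter.1 hy).1 hx
  have hcardO : O.card = Ks.card * 9 := by
    rw [hOeq, Finset.card_biUnion, Finset.sum_congr rfl fun k _ => hP9 k, Finset.sum_const, smul_eq_mul]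
    intro k _ k' _ hkk
    rw [Function.onFun, Finset.disjoint_left]
    exact fun x hx hx' => hdisj k k' hkk x hx hx'
  have hK3 : Ks.card ≤ 3 := (Finset.card_le_univ _).trans (by simp)
  have hK0 : 0 < Ks.card := by
    obtain ⟨k, hk⟩ := hcover v (hOmem.2 ⟨1, Φ.R_one v⟩)
    exact Finset.card_pos.2 ⟨k, Finset.mem_filter.2 ⟨Finset.mem_univ k, v, Finset.mem_inter.2 ⟨hOmem.2 ⟨1, Φ.R_one v⟩, hk⟩⟩⟩
  omega

end Split

end Act

end CfsgLib.U6Cent
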