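import Cfsg.Agent.Lib.Invol.U6Cent.Setting
import Cfsg.Agent.Lib.ThreeTrans.LargePair

/-!
Owner: helper13. Orthogonal complements, preimages and the centralizer in `Q` of an involution outside.
-/

set_option autoImplicit false
set_option linter.unusedSectionVars false

namespace CfsgLib.U6Cent

open Cfsg CfsgLib.ThreeTrans

/-- Closed under addition, with zero. -/
def IsSub (U : Finset V) : Prop := (0 : V) ∈ U ∧ ∀ {a b}, a ∈ U → b ∈ U → a + b ∈ U

theorem IsSub.zero {U : Finset V} (h : IsSub U) : (0 : V) ∈ U := h.1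

theorem IsSub.add {U : Finset V} (h : IsSub U) {a b : V} (ha : a ∈ U) (hb : b ∈ U) : a + b ∈ U := h.2 ha hb

theorem card_le_two_mul {G : Type*} [Group G] [Finite G] {K L : Subgroup G} (hKL : K ≤ L)
    (h : ∀ a ∈ L, ∀ b ∈ L, a ∈ K ∨ b ∈ K ∨ a⁻¹ * b ∈ K) : Nat.card L ≤ 2 * Nat.card K := by
  classical
  haveI := Fintype.ofFinite G
  by_cases hex : ∃ a ∈ L, a ∉ K
  · obtain ⟨a, ha, haK⟩ := hex
    let f : (↥K × Bool) → G := fun p => if p.2 then a * p.1 else p.1
    have hsub : (L : Set G) ⊆ Set.range f := by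
      intro b hb
      rcases h a ha b hb with h1 | h1 | h1
      · exact absurd h1 haK
      · exact ⟨(⟨b, h1⟩, false), rfl⟩
      · exact ⟨(⟨_, h1⟩, true), by simp [f]⟩
    calc Nat.card L ≤ Nat.card (Set.range f) := Nat.card_mono (Set.toFinite _) hsub
      _ ≤ Nat.card (↥K × Bool) := Nat.card_le_card_of_surjective _ Set.rangeFactorization_surjective
      _ = 2 * Nat.card K := by rw [Nat.card_prod, Nat.card_eq_fintype_card (α := Bool), Fintype.card_bool, mul_comm]
  · push Not at hex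
    calc Nat.card L ≤ Nat.card K := Subgroup.card_le_of_le hex
      _ ≤ 2 * Nat.card K := Nat.le_mul_of_pos_left _ two_pos

/-- The commutator with `w`. -/
def cm {G : Type*} [Group G] (w q : G) : G := w * q⁻¹ * w * q

theorem conj_eq_cm {G : Type*} [Group G] {w : G} (hw2 : w * w = 1) (q : G) : q⁻¹ * w * q = w * cm w q := by
  show q⁻¹ * w * q = w * (w * q⁻¹ * w * q)
  rw [← mul_assoc, ← mul_assoc, ← mul_assoc, hw2, one_mul]

theorem cm_mul {G : Type*} [Group G] {w : G} (hw2 : w * w = 1) (a b : G) : cm w (a * b) = cm w b * (b⁻¹ * cm w a * b) := by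
  simp only [cm]
  have : ∀ t, w * (w * t) = t := fun t => by rw [← mul_assoc, hw2, one_mul]
  simp only [mul_inv_rev, mul_assoc, mul_inv_cancel_left]
  rw [this]

namespace Setting

variable {G : Type*} [Group G] [Finite G] {z : G} {Q : Subgroup G} {A : Type*} [Group A] (S : Setting z Q A)
include S

/-- The preimage in `Q` of a set of vectors. -/
def pre (U : Finset V) (hU : IsSub U) : Subgroup G where
  carrier := {a | a ∈ Q ∧ S.ψ a ∈ U}
  mul_mem' := fun {a b} (ha : a ∈ Q ∧ S.ψ a ∈ U) (hb : b ∈ Q ∧ S.ψ b ∈ U) => ⟨mul_mem ha.1 hb.1, by rw [S.ψ_mul _ ha.1 _ hb.1]; exact hU.add ha.2 hb.2⟩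
  one_mem' := ⟨one_mem Q, by rw [S.ψ_one]; exact hU.zero⟩
  inv_mem' := fun {a} (ha : a ∈ Q ∧ S.ψ a ∈ U) => ⟨inv_mem ha.1, by rw [S.ψ_inv ha.1]; exact ha.2⟩

theorem mem_pre {U : Finset V} {hU : IsSub U} {a : G} : a ∈ S.pre U hU ↔ a ∈ Q ∧ S.ψ a ∈ U := Iff.rfl

/-- A chosen preimage. -/
noncomputable def sec (v : V) : G := (S.ψ_surj v).choose

theorem sec_mem (v : V) : S.sec v ∈ Q := (S.ψ_surj v).choose_spec.1

theorem ψ_sec (v : V) : S.ψ (S.sec v) = v := (S.ψ_surj v).choose_spec.2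

theorem card_pre {U : Finset V} (hU : IsSub U) : Nat.card (S.pre U hU) = 2 * U.card := by
  classical
  let f : (↥U × Bool) → S.pre U hU := fun p =>
    if p.2 then ⟨z * S.sec p.1, mul_mem S.h.z_mem (S.sec_mem _), by rw [S.ψ_zmul (S.sec_mem _), S.ψ_sec]; exact p.1.2⟩
    else ⟨S.sec p.1, S.sec_mem _, by rw [S.ψ_sec]; exact p.1.2⟩
  have hf : Function.Bijective f := by
    constructor
    · rintro ⟨u, b⟩ ⟨v, c⟩ e
      have e' : (f (u, b) : G) = f (v, c) := congrArg Subtype.val e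
      have hψ : ∀ u b, S.ψ (f (u, b) : G) = (u : V) := fun u b => by
        cases b <;> simp [f, S.ψ_zmul (S.sec_mem _), S.ψ_sec]
      have huv : u = v := Subtype.ext (by rw [← hψ u b, e', hψ v c])
      subst huv
      cases b <;> cases c <;> simp [f, S.h.z_ne_one] at e' ⊢
    · rintro ⟨a, ha, hau⟩
      rcases (S.ψ_eq_iff (S.sec_mem (S.ψ a)) ha).mp (S.ψ_sec _) with e | e
      · exact ⟨(⟨S.ψ a, hau⟩, false), Subtype.ext e.symm⟩
      · exact ⟨(⟨S.ψ a, hau⟩, true), Subtype.ext e.symm⟩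
  rw [← Nat.card_congr (Equiv.ofBijective f hf), Nat.card_prod, Nat.card_eq_finsetCard,
    Nat.card_eq_fintype_card (α := Bool), Fintype.card_bool, mul_comm]

/-- The orthogonal complement. -/
noncomputable def perp (U : Finset V) : Finset V := Finset.univ.filter fun v => ∀ u ∈ U, S.B u v = 0

theorem mem_perp {U : Finset V} {v : V} : v ∈ S.perp U ↔ ∀ u ∈ U, S.B u v = 0 := by simp [perp]

theorem perp_sub (U : Finset V) : IsSub (S.perp U) :=
  ⟨S.mem_perp.mpr fun u _ => by rw [S.B_comm, S.B_zero], fun ha hb => S.mem_perp.mpr fun u hu => by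
    rw [S.B_add_right, S.mem_perp.mp ha u hu, S.mem_perp.mp hb u hu, add_zero]⟩

theorem card_mul_perp {U : Finset V} (hU : IsSub U) : U.card * (S.perp U).card = 256 := by
  haveI : Fact (Nat.Prime 2) := ⟨Nat.prime_two⟩
  set P : Subgroup ↥Q := (S.pre U hU).subgroupOf Q with hP
  have hcP : Nat.card P = 2 * U.card := by
    rw [← S.card_pre hU]
    exact Nat.card_congr (Subgroup.subgroupOfEquivOfLe (show S.pre _ _ ≤ Q from fun a ha => (S.mem_pre.mp ha).1)).toEquiv
  have hcen : Subgroup.center ↥Q ≤ P := by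
    intro a ha
    have := (S.h.center_mem_iff a).mp ha
    rw [hP, Subgroup.mem_subgroupOf]
    exact ⟨a.2, by rw [(S.ψ_eq_zero _ a.2).mpr this]; exact hU.zero⟩
  have hce : Subgroup.centralizer (P : Set ↥Q) = (S.pre (S.perp U) (S.perp_sub U)).subgroupOf Q := by
    ext a
    rw [Subgroup.mem_centralizer_iff, Subgroup.mem_subgroupOf, S.mem_pre]
    constructor
    · refine fun h => ⟨a.2, S.mem_perp.mpr fun u hu => ?_⟩
      obtain ⟨b, hb, rfl⟩ := S.ψ_surj u
      exact (S.sq_mul_sq hb a.2).mpr (congrArg Subtype.val (h ⟨b, hb⟩ ⟨hb, hu⟩))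
    · intro h b hb
      have hb' : (b : G) ∈ S.pre U hU := hb
      exact Subtype.ext ((S.sq_mul_sq b.2 a.2).mp (S.mem_perp.mp h.2 _ hb'.2)).eq
  have h := CfsgLib.PGroups.IsExtraspecial.card_centralizer_mul_card S.h.hE hcen
  rw [hce, hcP, Nat.card_congr (Subgroup.subgroupOfEquivOfLe (show S.pre _ _ ≤ Q from fun a ha => (S.mem_pre.mp ha).1)).toEquiv,
    S.card_pre (S.perp_sub U)] at h
  have hQ : Nat.card ↥Q = 512 := S.hcard
  rw [hQ] at h
  nlinarith

/-- Vectors pairwise orthogonal. -/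
def Isotropic (U : Finset V) : Prop := ∀ u ∈ U, ∀ v ∈ U, S.B u v = 0

theorem isotropic_card {U : Finset V} (hU : IsSub U) (h : S.Isotropic U) : U.card ≤ 16 := by
  have h1 := S.card_mul_perp hU
  have h2 : U.card ≤ (S.perp U).card :=
    Finset.card_le_card fun v hv => S.mem_perp.mpr fun u hu => h u hu v hv
  by_contra hc
  push Not at hc
  nlinarith

theorem eq_one_of_three {c : G} (hc : c ∈ Q) {k : ℕ} (hk : c ^ 3 ^ k = 1) : c = 1 := by
  have h4 : c ^ 4 = 1 := by
    rcases S.h.eq_or (S.h.sq_mem hc) with e | e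
    · rw [show 4 = 2 * 2 from rfl, pow_mul, pow_two c, e, one_pow]
    · rw [show 4 = 2 * 2 from rfl, pow_mul, pow_two c, e, pow_two, S.h.mul_self_z]
  have hd := Nat.dvd_gcd (orderOf_dvd_of_pow_eq_one h4) (orderOf_dvd_of_pow_eq_one hk)
  have hg : Nat.gcd 4 (3 ^ k) = 1 := Nat.Coprime.pow_right k (by norm_num)
  rw [hg, Nat.dvd_one, orderOf_eq_one_iff] at hd
  exact hd

/-- An element of three-power order fixing the coordinates of an element of `Q` commutes with it. -/
theorem commute_of_act {c a : G} (hc : Commute c z) {k : ℕ} (hk : c ^ 3 ^ k = 1) (ha : a ∈ Q)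
    (h : S.act c (S.ψ a) = S.ψ a) : Commute c a := by
  rw [← S.ψ_conj c hc a ha, eq_comm, S.ψ_eq_iff ha (S.h.conj_mem hc ha)] at h
  rcases h with e | e
  · exact mul_inv_eq_iff_eq_mul.mp e
  · exfalso
    have hp : ∀ n : ℕ, c ^ n * a * (c ^ n)⁻¹ = if n % 2 = 0 then a else z * a := by
      intro n
      induction n with
      | zero => simp
      | succ n ih =>
        have e2 : c ^ (n + 1) * a * (c ^ (n + 1))⁻¹ = c * (c ^ n * a * (c ^ n)⁻¹) * c⁻¹ := by
          rw [pow_succ']; group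
        rw [e2, ih]
        rcases Nat.mod_two_eq_zero_or_one n with h0 | h0
        · rw [if_pos h0, if_neg (by omega), e]
        · rw [if_neg (by omega), if_pos (by omega), show c * (z * a) * c⁻¹ = (c * z * c⁻¹) * (c * a * c⁻¹) by group,
            e, hc.eq, mul_inv_cancel_right, ← mul_assoc, S.h.mul_self_z, one_mul]
    have h0 := hp (3 ^ k)
    have hodd : 3 ^ k % 2 = 1 := by rw [Nat.pow_mod]; simp
    rw [hk, if_neg (by omega), one_mul, inv_one, mul_one] at h0
    exact S.h.z_ne_one (mul_eq_right.mp h0.symm)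

/-! An involution `w` commuting with `z`, and the map `q ↦ [w, q]`. -/

theorem cm_mem {w : G} (hw : Commute w z) (hw2 : w * w = 1) {q : G} (hq : q ∈ Q) : cm w q ∈ Q := by
  have h := mul_mem (S.h.conj_mem hw (inv_mem hq)) hq
  rwa [inv_eq_of_mul_eq_one_left hw2] at h

theorem ψ_cm {w : G} (hw : Commute w z) (hw2 : w * w = 1) {q : G} (hq : q ∈ Q) :
    S.ψ (cm w q) = S.act w (S.ψ q) + S.ψ q := by
  have e : cm w q = w * q⁻¹ * w⁻¹ * q := by rw [inv_eq_of_mul_eq_one_left hw2]; rfl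
  rw [e, S.ψ_mul _ (S.h.conj_mem hw (inv_mem hq)) _ hq, S.ψ_conj w hw _ (inv_mem hq), S.ψ_inv hq]

/-- The centralizer in `Q`. -/
def cq (_S : Setting z Q A) (w : G) : Subgroup G := Q ⊓ Subgroup.centralizer {w}

theorem mem_cq {w a : G} : a ∈ S.cq w ↔ a ∈ Q ∧ Commute a w := by
  rw [cq, Subgroup.mem_inf, Subgroup.mem_centralizer_singleton_iff]
  rfl

/-- The fixed vectors of `w`. -/
noncomputable def fix (w : G) : Finset V := Finset.univ.filter fun v => S.act w v = v

theorem mem_fix {w : G} {v : V} : v ∈ S.fix w ↔ S.act w v = v := by simp [fix]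

theorem fix_sub {w : G} (hw : Commute w z) : IsSub (S.fix w) :=
  ⟨S.mem_fix.mpr (S.act_zero hw), fun ha hb => S.mem_fix.mpr
    (by rw [S.act_add hw, S.mem_fix.mp ha, S.mem_fix.mp hb])⟩

/-- The commutator vectors of `w`. -/
noncomputable def img (w : G) : Finset V := Finset.univ.image fun v => S.act w v + v

theorem mem_img {w : G} {i : V} : i ∈ S.img w ↔ ∃ v, S.act w v + v = i := by simp [img]

theorem img_sub {w : G} (hw : Commute w z) : IsSub (S.img w) := by
  refine ⟨S.mem_img.mpr ⟨0, by rw [S.act_zero hw, add_zero]⟩, fun {a b} ha hb => ?_⟩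
  obtain ⟨u, rfl⟩ := S.mem_img.mp ha
  obtain ⟨v, rfl⟩ := S.mem_img.mp hb
  exact S.mem_img.mpr ⟨u + v, by rw [S.act_add hw]; abel⟩

theorem card_fix_mul_img {w : G} (hw : Commute w z) : (S.fix w).card * (S.img w).card = 256 := by
  classical
  let f : V →+ V :=
    { toFun := fun v => S.act w v + v
      map_zero' := by rw [S.act_zero hw, add_zero]
      map_add' := fun a b => by rw [S.act_add hw]; abel }
  have h1 : Nat.card f.ker = (S.fix w).card := by
    rw [← Nat.card_eq_finsetCard]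
    exact Nat.card_congr (Equiv.subtypeEquivRight fun v => by
      rw [S.mem_fix]; exact v_add_eq_zero)
  have h2 : Nat.card f.range = (S.img w).card := by
    rw [← Nat.card_eq_finsetCard]
    exact Nat.card_congr (Equiv.subtypeEquivRight fun v => by rw [S.mem_img]; exact AddMonoidHom.mem_range)
  have h3 := f.ker.card_eq_card_quotient_mul_card_addSubgroup
  rw [Nat.card_congr (QuotientAddGroup.quotientKerEquivRange f).toEquiv, h1, h2] at h3
  rw [mul_comm, ← h3]
  simp [V]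

theorem ψ_cq_mem {w a : G} (hw : Commute w z) (ha : a ∈ S.cq w) : S.ψ a ∈ S.fix w := by
  obtain ⟨haQ, hc⟩ := S.mem_cq.mp ha
  rw [S.mem_fix, ← S.ψ_conj w hw a haQ, ← hc.eq, mul_inv_cancel_right]

theorem conj_or_of_fix {w a : G} (hw : Commute w z) (ha : a ∈ Q) (hf : S.ψ a ∈ S.fix w) :
    w * a * w⁻¹ = a ∨ w * a * w⁻¹ = z * a := by
  rw [S.mem_fix, ← S.ψ_conj w hw a ha, eq_comm, S.ψ_eq_iff ha (S.h.conj_mem hw ha)] at hf
  exact hf

theorem mul_mem_cq_or {w a b : G} (hw : Commute w z) (ha : a ∈ Q) (hb : b ∈ Q) (hfa : S.ψ a ∈ S.fix w)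
    (hfb : S.ψ b ∈ S.fix w) : a ∈ S.cq w ∨ b ∈ S.cq w ∨ a⁻¹ * b ∈ S.cq w := by
  have hc : ∀ a ∈ Q, w * a * w⁻¹ = a → a ∈ S.cq w := fun a ha e =>
    S.mem_cq.mpr ⟨ha, (mul_inv_eq_iff_eq_mul.mp e).symm⟩
  rcases S.conj_or_of_fix hw ha hfa with e | e
  · exact Or.inl (hc a ha e)
  rcases S.conj_or_of_fix hw hb hfb with e' | e'
  · exact Or.inr (Or.inl (hc b hb e'))
  refine Or.inr (Or.inr (hc _ (mul_mem (inv_mem ha) hb) ?_))
  rw [show w * (a⁻¹ * b) * w⁻¹ = (w * a * w⁻¹)⁻¹ * (w * b * w⁻¹) by group, e, e', mul_inv_rev, mul_assoc,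
    inv_mul_cancel_left]

theorem card_fix_le {w : G} (hw : Commute w z) : (S.fix w).card ≤ Nat.card (S.cq w) := by
  have hle : S.cq w ≤ S.pre (S.fix w) (S.fix_sub hw) := fun a ha =>
    ⟨(S.mem_cq.mp ha).1, S.ψ_cq_mem hw ha⟩
  have := card_le_two_mul hle fun a ha b hb => S.mul_mem_cq_or hw ha.1 hb.1 ha.2 hb.2
  rw [S.card_pre] at this
  omega

/-- An elementary centralizer is small, so the commutators are many. -/
theorem eight_le_img {w : G} (hw : Commute w z) (he : ∀ a ∈ S.cq w, a * a = 1) : 8 ≤ (S.img w).card := by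
  classical
  let U : Finset V := Finset.univ.filter fun v => ∃ a ∈ S.cq w, S.ψ a = v
  have hmemU : ∀ {v}, v ∈ U ↔ ∃ a ∈ S.cq w, S.ψ a = v := fun {v} => by simp [U]
  have hU : IsSub U := ⟨hmemU.mpr ⟨1, one_mem _, S.ψ_one⟩, fun {u v} hu hv => by
    obtain ⟨a, ha, rfl⟩ := hmemU.mp hu
    obtain ⟨b, hb, rfl⟩ := hmemU.mp hv
    exact hmemU.mpr ⟨a * b, mul_mem ha hb, S.ψ_mul _ (S.mem_cq.mp ha).1 _ (S.mem_cq.mp hb).1⟩⟩
  have hiso : S.Isotropic U := by
    intro u hu v hv
    obtain ⟨a, ha, rfl⟩ := hmemU.mp hu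
    obtain ⟨b, hb, rfl⟩ := hmemU.mp hv
    refine (S.sq_mul_sq (S.mem_cq.mp ha).1 (S.mem_cq.mp hb).1).mpr ?_
    show a * b = b * a
    have h := he _ (mul_mem ha hb)
    rw [eq_inv_of_mul_eq_one_left h, mul_inv_rev, inv_eq_of_mul_eq_one_left (he a ha),
      inv_eq_of_mul_eq_one_left (he b hb)]
  have h1 : Nat.card (S.cq w) ≤ 2 * U.card := by
    rw [← S.card_pre hU]
    exact Subgroup.card_le_of_le fun a ha => ⟨(S.mem_cq.mp ha).1, hmemU.mpr ⟨a, ha, rfl⟩⟩
  have h2 := S.isotropic_card hU hiso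
  have h3 := S.card_fix_le hw
  have h4 := S.card_fix_mul_img hw
  by_contra hc
  push Not at hc
  nlinarith

end Setting

end CfsgLib.U6Cent
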