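import Cfsg.Agent.Lib.Invol.U6Cent.Matrices
import Cfsg.Agent.Lib.Invol.U6Cent.Tools
import Mathlib.Tactic.Abel

/-!
Owner: helper13. An action of `PSp₄(3)` on eight coordinates over two elements: the weight spaces of the Siegel
subgroup, and the two possible weight patterns.
-/

set_option autoImplicit false
set_option linter.unusedSectionVars false
set_option maxRecDepth 100000
set_option synthInstance.maxSize 1000
set_option synthInstance.maxHeartbeats 200000

namespace CfsgLib.U6Cent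

open CfsgLib.Recog.SpFourCent

/-- A faithful action preserving a quadratic form with non-degenerate polar form. -/
structure Act where
  /-- the quadratic form -/
  q : V → ZMod 2
  /-- the polar form -/
  B : V → V → ZMod 2
  B_comm : ∀ u v, B u v = B v u
  B_self : ∀ u, B u u = 0
  B_add : ∀ u u' v, B (u + u') v = B u v + B u' v
  q_add : ∀ u v, q (u + v) = q u + q v + B u v
  q_zero : q 0 = 0
  nondeg : ∀ u, (∀ v, B u v = 0) → u = 0
  /-- the action -/
  R : P43 → V → V
  R_one : ∀ v, R 1 v = v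
  R_mul : ∀ g h v, R (g * h) v = R g (R h v)
  R_add : ∀ g u v, R g (u + v) = R g u + R g v
  R_q : ∀ g v, q (R g v) = q v
  faithful : ∀ g, (∀ v, R g v = v) → g = 1

theorem fv_neg (l : Frm) (p : Par) : fv (-l) p = -fv l p := by
  simp only [fv, Prod.fst_neg, Prod.snd_neg]; ring

theorem fv_zero (p : Par) : fv 0 p = 0 := by simp [fv]

theorem kill_check : ∀ l l' : Frm, l ≠ 0 → ¬ SameLine l l' → ∃ s : Par, fv l' s = 0 ∧ fv l s ≠ 0 := by
  decide +kernel

theorem move_check : ∀ l : Frm, l ≠ 0 → ∃ s : Par, fv l s ≠ 0 := by decide +kernel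

theorem sub_surj : ∀ (m : Mv) (p : Par), ∃ r, m.sub r = p := by decide +kernel

/-- The forms reached by changes of basis and signs in a bounded number of steps. -/
def reach : ℕ → Frm → Finset Frm
  | 0, l => {l}
  | n + 1, l => reach n l ∪ (reach n l).biUnion fun x => insert (-x) (Finset.univ.image fun m : Mv => m.dual x)

theorem cone_reach : ∀ i j : Fin 4, cone j ∈ reach 4 (cone i) := by decide +kernel

theorem tri_reach : ∀ i j : Fin 3, tri j ∈ reach 4 (tri i) := by decide +kernel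

theorem six_reach : ∀ i j : Fin 6, six j ∈ reach 5 (six i) := by decide +kernel

theorem cone_ne : ∀ i : Fin 4, cone i ≠ 0 ∧ ∀ j, j ≠ i → ¬ SameLine (cone i) (cone j) := by decide +kernel

theorem tri_ne : ∀ i : Fin 3, tri i ≠ 0 ∧ ∀ j, j ≠ i → ¬ SameLine (tri i) (tri j) := by decide +kernel

theorem six_ne : ∀ i : Fin 6, six i ≠ 0 ∧ ∀ j, j ≠ i → ¬ SameLine (six i) (six j) := by decide +kernel

theorem cone_tri_ne : ∀ (i : Fin 4) (j : Fin 3), ¬ SameLine (cone i) (tri j) ∧ ¬ SameLine (tri j) (cone i) := by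
  decide +kernel

theorem line_cases : ∀ l : Frm, l = 0 ∨ (∃ i, SameLine l (cone i)) ∨ (∃ i, SameLine l (tri i)) ∨
    ∃ i, SameLine l (six i) := by decide +kernel

namespace Act

variable (Φ : Act)
include Φ

theorem B_zero (u : V) : Φ.B 0 u = 0 := by
  have h := Φ.B_add 0 0 u
  rw [add_zero, z2_add_self] at h
  exact h

theorem B_add_right (u v v' : V) : Φ.B u (v + v') = Φ.B u v + Φ.B u v' := by
  rw [Φ.B_comm, Φ.B_add, Φ.B_comm v, Φ.B_comm v']

theorem R_zero (g : P43) : Φ.R g 0 = 0 := by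
  have h := Φ.R_add g 0 0
  rw [add_zero, v_add_self] at h
  exact h

theorem R_inv (g : P43) (v : V) : Φ.R g⁻¹ (Φ.R g v) = v := by rw [← Φ.R_mul, inv_mul_cancel, Φ.R_one]

theorem R_injective (g : P43) : Function.Injective (Φ.R g) := Function.LeftInverse.injective (Φ.R_inv g)

theorem R_B (g : P43) (u v : V) : Φ.B (Φ.R g u) (Φ.R g v) = Φ.B u v := by
  have h := Φ.q_add (Φ.R g u) (Φ.R g v)
  rw [← Φ.R_add, Φ.R_q, Φ.R_q, Φ.R_q, Φ.q_add] at h
  exact (add_left_cancel h).symm

/-- The action of the Siegel subgroup. -/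
noncomputable def U (p : Par) (v : V) : V := Φ.R (ue p) v

theorem U_zero (v : V) : Φ.U 0 v = v := by rw [U, ue_zero, Φ.R_one]

theorem U_add (p r : Par) (v : V) : Φ.U (p + r) v = Φ.U p (Φ.U r v) := by rw [U, ue_add, Φ.R_mul]; rfl

theorem U_vadd (p : Par) (u v : V) : Φ.U p (u + v) = Φ.U p u + Φ.U p v := Φ.R_add _ u v

theorem U_comm (p r : Par) (v : V) : Φ.U p (Φ.U r v) = Φ.U r (Φ.U p v) := by rw [← U_add, ← U_add, add_comm]

theorem U_two (p : Par) (v : V) : Φ.U (2 * p) v = Φ.U p (Φ.U p v) := by rw [two_mul, U_add]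

/-- The projection to the vectors fixed by one element. -/
noncomputable def P (p : Par) (v : V) : V := v + Φ.U p v + Φ.U (p + p) v

theorem P_fixed (p : Par) (v : V) : Φ.U p (Φ.P p v) = Φ.P p v := by
  simp only [P, U_vadd, ← U_add]
  rw [← add_assoc p p p, par_three, U_zero]
  abel

theorem P_of_fixed {p : Par} {v : V} (h : Φ.U p v = v) : Φ.P p v = v := by
  rw [P, U_add, h, h, v_add_self, zero_add]

theorem P_vadd (p : Par) (u v : V) : Φ.P p (u + v) = Φ.P p u + Φ.P p v := by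
  simp only [P, U_vadd]; abel

theorem P_U (p r : Par) (v : V) : Φ.P p (Φ.U r v) = Φ.U r (Φ.P p v) := by
  simp only [P, U_vadd, Φ.U_comm r]

theorem P_P (p r : Par) (v : V) : Φ.P p (Φ.P r v) = Φ.P r (Φ.P p v) := by
  conv_lhs => rw [P]
  simp only [← P_U, ← P_vadd]
  rfl

theorem P_zero (p : Par) : Φ.P p 0 = 0 := by
  simp only [P, U, R_zero, add_zero]

theorem moved_part (p : Par) (v : V) : Φ.P p (v + Φ.P p v) = 0 := by
  rw [P_vadd, Φ.P_of_fixed (Φ.P_fixed p v), v_add_self]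

theorem three_split {p r : Par} {v : V} (h : Φ.P p v = 0) :
    v = Φ.P r v + Φ.P (r + p) v + Φ.P (r + p + p) v := by
  have key : ∀ w, Φ.P p w = 0 → w + Φ.U p w + Φ.U (p + p) w = 0 := fun w hw => hw
  have h1 := key (Φ.U r v) (by rw [P_U, h, U, R_zero])
  have h2 := key (Φ.U (r + r) v) (by rw [P_U, h, U, R_zero])
  simp only [← U_add] at h1 h2
  have e4 : p + p + (p + p) = p := by rw [add_assoc, ← add_assoc p p p, par_three, add_zero]
  simp only [P]
  rw [show r + p + (r + p) = r + r + (p + p) by abel,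
    show r + p + p + (r + p + p) = r + r + (p + p + (p + p)) by abel, e4]
  rw [show p + r = r + p by abel, show p + p + r = r + p + p by abel] at h1
  rw [show p + (r + r) = r + r + p by abel, show p + p + (r + r) = r + r + (p + p) by abel] at h2
  calc v = v + (Φ.U r v + Φ.U (r + p) v + Φ.U (r + p + p) v) +
      (Φ.U (r + r) v + Φ.U (r + r + p) v + Φ.U (r + r + (p + p)) v) + (v + v) := by
        rw [h1, h2, v_add_self]; abel
    _ = _ := by abel

/-- The weight space of a form. -/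
@[irreducible] noncomputable def W (l : Frm) : Finset V :=
  Finset.univ.filter fun v => (∀ p, fv l p = 0 → Φ.U p v = v) ∧ ∀ p, fv l p ≠ 0 → Φ.P p v = 0

theorem mem_W {l : Frm} {v : V} :
    v ∈ Φ.W l ↔ (∀ p, fv l p = 0 → Φ.U p v = v) ∧ ∀ p, fv l p ≠ 0 → Φ.P p v = 0 := by simp [W]

theorem mem_W_zero {v : V} : v ∈ Φ.W 0 ↔ ∀ p, Φ.U p v = v := by
  simp [mem_W, fv_zero]

theorem W_sub (l : Frm) : IsSub (Φ.W l) := by
  refine ⟨Φ.mem_W.2 ⟨fun p _ => Φ.R_zero _, fun p _ => Φ.P_zero p⟩, fun {a b} ha hb => Φ.mem_W.2 ⟨?_, ?_⟩⟩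
  · intro p hp; rw [U_vadd, (Φ.mem_W.1 ha).1 p hp, (Φ.mem_W.1 hb).1 p hp]
  · intro p hp; rw [P_vadd, (Φ.mem_W.1 ha).2 p hp, (Φ.mem_W.1 hb).2 p hp, add_zero]

theorem W_U {l : Frm} {v : V} (h : v ∈ Φ.W l) (r : Par) : Φ.U r v ∈ Φ.W l := by
  refine Φ.mem_W.2 ⟨fun p hp => ?_, fun p hp => ?_⟩
  · rw [U_comm, (Φ.mem_W.1 h).1 p hp]
  · rw [P_U, (Φ.mem_W.1 h).2 p hp, U, R_zero]

theorem W_neg (l : Frm) : Φ.W (-l) = Φ.W l := by
  ext v; simp [mem_W, fv_neg]

theorem W_same {l l' : Frm} (h : SameLine l l') : Φ.W l = Φ.W l' := by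
  rcases h with rfl | rfl
  · rfl
  · rw [W_neg]

theorem U_ne {l : Frm} {v : V} (h : v ∈ Φ.W l) (hv : v ≠ 0) {p : Par} (hp : fv l p ≠ 0) : Φ.U p v ≠ v :=
  fun e => hv ((Φ.P_of_fixed e).symm.trans ((Φ.mem_W.1 h).2 p hp))

/-- A non-zero weight space has at least four vectors. -/
theorem four_le {l : Frm} (hl : l ≠ 0) {v : V} (h : v ∈ Φ.W l) (hv : v ≠ 0) : 4 ≤ (Φ.W l).card := by
  classical
  obtain ⟨p, hp⟩ := move_check l hl
  have h1 := Φ.U_ne h hv hp
  have h2 : Φ.U (p + p) v ≠ v := fun e => h1 (by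
    conv_rhs => rw [← Φ.U_zero v, ← par_three p, add_comm (p + p) p, U_add, e])
  have h12 : Φ.U p v ≠ Φ.U (p + p) v := fun e => h1 (Φ.R_injective (ue p) (e.trans (Φ.U_add p p v))).symm
  have h3 : Φ.U p v ≠ 0 := fun e => hv (Φ.R_injective (ue p) (e.trans (Φ.R_zero _).symm))
  have h4 : Φ.U (p + p) v ≠ 0 := fun e => hv (Φ.R_injective (ue (p + p)) (e.trans (Φ.R_zero _).symm))
  have hc : ({0, v, Φ.U p v, Φ.U (p + p) v} : Finset V).card = 4 := by
    rw [Finset.card_insert_of_notMem, Finset.card_insert_of_notMem, Finset.card_insert_of_notMem,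
      Finset.card_singleton]
    · simp [h12]
    · simp [h1.symm, h2.symm]
    · simp [hv.symm, h3.symm, h4.symm]
  rw [← hc]
  refine Finset.card_le_card fun x hx => ?_
  simp only [Finset.mem_insert, Finset.mem_singleton] at hx
  rcases hx with rfl | rfl | rfl | rfl
  exacts [(Φ.W_sub l).zero, h, Φ.W_U h p, Φ.W_U h _]

theorem card_dual_le (m : Mv) (l : Frm) : (Φ.W (m.dual l)).card ≤ (Φ.W l).card := by
  refine Finset.card_le_card_of_injOn (Φ.R m.el) (fun v hv => ?_) (Φ.R_injective _).injOn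
  have hu : ∀ r w, Φ.U (m.sub r) (Φ.R m.el w) = Φ.R m.el (Φ.U r w) := fun r w => by
    simp only [U]
    rw [← Φ.R_mul, ← Φ.R_mul, ← m.el_ue r, inv_mul_cancel_right]
  have hv' := Φ.mem_W.1 (Finset.mem_coe.1 hv)
  refine Finset.mem_coe.2 (Φ.mem_W.2 ⟨fun p hp => ?_, fun p hp => ?_⟩)
  · obtain ⟨r, rfl⟩ := sub_surj m p
    rw [hu, hv'.1 r (by rwa [dual_check])]
  · obtain ⟨r, rfl⟩ := sub_surj m p
    have h2 : m.sub r + m.sub r = m.sub (r + r) := by
      cases m <;> refine Prod.ext ?_ (Prod.ext ?_ ?_) <;> simp [Mv.sub] <;> ring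
    have := congrArg (Φ.R m.el) (hv'.2 r (by rwa [dual_check]))
    rw [R_zero] at this
    rw [P, h2, hu, hu, ← this, P, R_add, R_add]

theorem card_reach {l : Frm} : ∀ {n : ℕ} {x : Frm}, x ∈ reach n l → (Φ.W x).card ≤ (Φ.W l).card := by
  intro n
  induction n with
  | zero => intro x hx; rw [reach, Finset.mem_singleton] at hx; rw [hx]
  | succ n ih =>
    intro x hx
    simp only [reach, Finset.mem_union, Finset.mem_biUnion, Finset.mem_insert, Finset.mem_image,
      Finset.mem_univ, true_and] at hx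
    rcases hx with h | ⟨y, hy, rfl | ⟨m, rfl⟩⟩
    · exact ih h
    · rw [W_neg]; exact ih hy
    · exact (Φ.card_dual_le m y).trans (ih hy)

/-- Weight vectors of different lines are independent. -/
theorem indep {ι : Type*} [Fintype ι] (f : ι → Frm) (hf : ∀ i j, j ≠ i → ¬ SameLine (f i) (f j)) :
    ∀ (n : ℕ) (x : ι → V), (Finset.univ.filter fun i => x i ≠ 0).card ≤ n → (∀ i, x i ∈ Φ.W (f i)) →
      ∑ i, x i = 0 → ∀ i, x i = 0 := by
  classical
  intro n
  induction n with
  | zero =>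
    intro x hn _ _ i
    by_contra hi
    exact (Finset.card_pos.2 ⟨i, Finset.mem_filter.2 ⟨Finset.mem_univ i, hi⟩⟩).ne' (Nat.le_zero.1 hn)
  | succ n ih =>
    intro x hn hx hs
    have key : ∀ i, f i ≠ 0 → x i = 0 := by
      intro i hfi
      by_contra hi
      obtain ⟨k, hk, hki⟩ : ∃ k, x k ≠ 0 ∧ k ≠ i := by
        by_contra hno
        push Not at hno
        refine hi ?_
        rwa [Finset.sum_eq_single i (fun k _ hk => by
          by_contra h; exact hk (hno k h)) (fun h => absurd (Finset.mem_univ i) h)] at hs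
      obtain ⟨s, hsk, hsi⟩ := kill_check (f i) (f k) hfi (hf i k hki)
      let y : ι → V := fun t => x t + Φ.U s (x t)
      have hy : ∀ t, y t ∈ Φ.W (f t) := fun t => (Φ.W_sub _).add (hx t) (Φ.W_U (hx t) s)
      have hyk : y k = 0 := by
        show x k + Φ.U s (x k) = 0
        rw [(Φ.mem_W.1 (hx k)).1 s hsk, v_add_self]
      have hys : ∑ t, y t = 0 := by
        let F : V →+ V :=
          { toFun := fun v => v + Φ.U s v
            map_zero' := by show (0 : V) + Φ.R _ 0 = 0; rw [Φ.R_zero, add_zero]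
            map_add' := fun a b => by show a + b + Φ.U s (a + b) = _; rw [Φ.U_vadd]; abel }
        have h := congrArg F hs
        rw [map_sum, map_zero] at h
        exact h
      have hlt : (Finset.univ.filter fun t => y t ≠ 0).card ≤ n := by
        have hsub : (Finset.univ.filter fun t => y t ≠ 0) ⊆ (Finset.univ.filter fun t => x t ≠ 0).erase k := by
          intro t ht
          have ht' := (Finset.mem_filter.1 ht).2
          refine Finset.mem_erase.2 ⟨fun e => ht' (e ▸ hyk), Finset.mem_filter.2 ⟨Finset.mem_univ t, fun e => ?_⟩⟩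
          exact ht' (by show x t + Φ.U s (x t) = 0; rw [e, U, Φ.R_zero, add_zero])
        have h1 := Finset.card_le_card hsub
        rw [Finset.card_erase_of_mem (Finset.mem_filter.2 ⟨Finset.mem_univ k, hk⟩)] at h1
        omega
      exact Φ.U_ne (hx i) hi hsi (v_add_eq_zero.1 (ih y hlt hy hys i)).symm
    intro i
    by_cases hfi : f i = 0
    · rw [Finset.sum_eq_single i (fun k _ hk => key k fun e => hf i k hk (by rw [hfi, e]; exact Or.inl rfl))
        (fun h => absurd (Finset.mem_univ i) h)] at hs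
      exact hs
    · exact key i hfi

theorem prod_card_le {ι : Type*} [Fintype ι] (f : ι → Frm) (hf : ∀ i j, j ≠ i → ¬ SameLine (f i) (f j)) :
    ∏ i, (Φ.W (f i)).card ≤ 256 ∧ (∏ i, (Φ.W (f i)).card = 256 →
      ∀ v, ∃ x : ι → V, (∀ i, x i ∈ Φ.W (f i)) ∧ ∑ i, x i = v) := by
  classical
  let F : (∀ i, ↥(Φ.W (f i))) → V := fun x => ∑ i, (x i : V)
  have hF : Function.Injective F := by
    intro x y e
    funext i
    refine Subtype.ext (v_add_eq_zero.1 ?_)
    refine Φ.indep f hf (Fintype.card ι) (fun i => (x i : V) + (y i : V)) (Finset.card_le_univ _)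
      (fun i => (Φ.W_sub _).add (x i).2 (y i).2) ?_ i
    rw [Finset.sum_add_distrib, show ∑ i, (x i : V) = ∑ i, (y i : V) from e, v_add_self]
  have h1 : Fintype.card (∀ i, ↥(Φ.W (f i))) = ∏ i, (Φ.W (f i)).card := by simp
  have h2 : Fintype.card V = 256 := by simp [V]
  refine ⟨h1 ▸ h2 ▸ Fintype.card_le_of_injective F hF, fun h v => ?_⟩
  obtain ⟨x, hx⟩ := (Fintype.bijective_iff_injective_and_card F).2 ⟨hF, by rw [h1, h, h2]⟩ |>.2 v
  exact ⟨fun i => x i, fun i => (x i).2, hx⟩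

/-- Every vector is a sum of weight vectors. -/
theorem span {M : Set V} (hadd : ∀ a ∈ M, ∀ b ∈ M, a + b ∈ M) (hM : ∀ l, ∀ v ∈ Φ.W l, v ∈ M) (v : V) : v ∈ M := by
  have leaf : ∀ (l : Frm) (k k' g : Par) (w : V), fv l g ≠ 0 →
      (∀ p, ∃ a b c : Fin 3, p = a.val • k + b.val • k' + c.val • g ∧ (fv l p = 0 ↔ c = 0)) →
      Φ.U k w = w → Φ.U k' w = w → Φ.P g w = 0 → w ∈ M := by
    intro l k k' g w _ hsp hk hk' hg
    refine hM l w (Φ.mem_W.2 ⟨fun p hp => ?_, fun p hp => ?_⟩)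
    · obtain ⟨a, b, c, rfl, hc⟩ := hsp p
      rw [hc.1 hp]
      fin_cases a <;> fin_cases b <;> simp [U_add, U_zero, two_nsmul, U_two, hk, hk']
    · obtain ⟨a, b, c, rfl, hc⟩ := hsp p
      set kk := a.val • k + b.val • k' with hkk
      have hkw : Φ.U kk w = w := by
        rw [hkk]
        fin_cases a <;> fin_cases b <;> simp [U_add, U_zero, two_nsmul, U_two, hk, hk']
      have hc0 : c ≠ 0 := fun e => hp (hc.2 e)
      have e : Φ.P (kk + c.val • g) w = Φ.P (c.val • g) w := by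
        simp only [P, Φ.U_add kk, show kk + c.val • g + (kk + c.val • g) = c.val • g + c.val • g + (kk + kk) by abel,
          Φ.U_add (c.val • g + c.val • g) (kk + kk), Φ.U_comm kk (c.val • g), hkw, Φ.U_add kk kk]
      rw [e]
      fin_cases c
      · exact absurd rfl hc0
      · simp [hg]
      · simp only [two_nsmul, P]
        rw [show g + g + (g + g) = g by rw [add_assoc, ← add_assoc g g g, par_three, add_zero], ← hg, P]
        abel
  set e1 : Par := (1, 0, 0)
  set e2 : Par := (0, 1, 0)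
  set e3 : Par := (0, 0, 1)
  have hfix : ∀ {p r : Par} {w : V}, Φ.U p w = w → Φ.U p (Φ.P r w) = Φ.P r w := fun {p r w} h => by
    rw [← P_U, h]
  have hkill : ∀ {p r : Par} {w : V}, Φ.P p w = 0 → Φ.P p (Φ.P r w) = 0 := fun {p r w} h => by
    rw [P_P, h, P_zero]
  have h0 : ∀ w, Φ.U e1 w = w → Φ.U e2 w = w → w ∈ M := by
    intro w h1 h2
    rw [← v_cancel (Φ.P e3 w) w]
    refine hadd _ ?_ _ (leaf (0, 0, 1) e1 e2 e3 _ (by decide) (by decide +kernel) ?_ ?_ ?_)
    · refine hM 0 _ (Φ.mem_W_zero.2 fun p => ?_)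
      obtain ⟨a, b, c, rfl⟩ : ∃ a b c : Fin 3, p = a.val • e1 + b.val • e2 + c.val • e3 := by
        revert p; decide +kernel
      have a1 := hfix (r := e3) h1
      have a2 := hfix (r := e3) h2
      have a3 := Φ.P_fixed e3 w
      fin_cases a <;> fin_cases b <;> fin_cases c <;> simp [U_add, U_zero, two_nsmul, U_two, a1, a2, a3]
    · rw [U_vadd, hfix h1, h1]
    · rw [U_vadd, hfix h2, h2]
    · rw [add_comm, moved_part]
  have h1 : ∀ w, Φ.U e1 w = w → w ∈ M := by
    intro w h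
    rw [← v_cancel (Φ.P e2 w) w]
    refine hadd _ (h0 _ (hfix h) (Φ.P_fixed e2 w)) _ ?_
    have hw : Φ.U e1 (Φ.P e2 w + w) = Φ.P e2 w + w := by rw [U_vadd, hfix h, h]
    have hm : Φ.P e2 (Φ.P e2 w + w) = 0 := by rw [add_comm, moved_part]
    rw [Φ.three_split (r := e3) hm]
    refine hadd _ (hadd _ ?_ _ ?_) _ ?_
    · exact leaf (0, 1, 0) e1 e3 e2 _ (by decide) (by decide +kernel) (hfix hw) (Φ.P_fixed _ _) (hkill hm)
    · exact leaf (0, 1, 2) e1 (e3 + e2) e2 _ (by decide) (by decide +kernel) (hfix hw) (Φ.P_fixed _ _) (hkill hm)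
    · exact leaf (0, 1, 1) e1 (e3 + e2 + e2) e2 _ (by decide) (by decide +kernel) (hfix hw) (Φ.P_fixed _ _) (hkill hm)
  rw [← v_cancel (Φ.P e1 v) v]
  refine hadd _ (h1 _ (Φ.P_fixed e1 v)) _ ?_
  have hm : Φ.P e1 (Φ.P e1 v + v) = 0 := by rw [add_comm, moved_part]
  have h2 : ∀ w k, Φ.P e1 w = 0 → Φ.U k w = w →
      (∀ k' ∈ ({e3, e3 + e1, e3 + e1 + e1} : Finset Par), ∃ l : Frm, fv l e1 ≠ 0 ∧
        ∀ p, ∃ a b c : Fin 3, p = a.val • k + b.val • k' + c.val • e1 ∧ (fv l p = 0 ↔ c = 0)) → w ∈ M := by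
    intro w k hw hk hex
    rw [Φ.three_split (r := e3) hw]
    refine hadd _ (hadd _ ?_ _ ?_) _ ?_
    · obtain ⟨l, hl, hsp⟩ := hex e3 (by simp)
      exact leaf l k e3 e1 _ hl hsp (hfix hk) (Φ.P_fixed _ _) (hkill hw)
    · obtain ⟨l, hl, hsp⟩ := hex (e3 + e1) (by simp)
      exact leaf l k (e3 + e1) e1 _ hl hsp (hfix hk) (Φ.P_fixed _ _) (hkill hw)
    · obtain ⟨l, hl, hsp⟩ := hex (e3 + e1 + e1) (by simp)
      exact leaf l k (e3 + e1 + e1) e1 _ hl hsp (hfix hk) (Φ.P_fixed _ _) (hkill hw)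
  rw [Φ.three_split (r := e2) hm]
  refine hadd _ (hadd _ ?_ _ ?_) _ ?_
  · exact h2 _ e2 (hkill hm) (Φ.P_fixed _ _) (by decide +kernel)
  · exact h2 _ (e2 + e1) (hkill hm) (Φ.P_fixed _ _) (by decide +kernel)
  · exact h2 _ (e2 + e1 + e1) (hkill hm) (Φ.P_fixed _ _) (by decide +kernel)

/-- Four weight spaces of four vectors each. -/
def Natural : Prop := (∀ i, (Φ.W (cone i)).card = 4) ∧ ∀ v, ∃ x : Fin 4 → V, (∀ i, x i ∈ Φ.W (cone i)) ∧ ∑ i, x i = v

/-- Three weight spaces of four vectors each and four fixed vectors. -/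
def Split : Prop := (∀ i, (Φ.W (tri i)).card = 4) ∧ (Φ.W 0).card = 4 ∧
  ∀ v, ∃ x : Option (Fin 3) → V, (∀ i, x i ∈ Φ.W (i.elim 0 tri)) ∧ ∑ i, x i = v

theorem natural_or_split : Φ.Natural ∨ Φ.Split := by
  classical
  have triv : ∀ {l}, ¬ 4 ≤ (Φ.W l).card → l ≠ 0 → ∀ v ∈ Φ.W l, v = 0 := fun {l} h hl v hv => by
    by_contra hne; exact h (Φ.four_le hl hv hne)
  have eq_of : ∀ {n : ℕ} {f : Fin n → Frm} {r : ℕ}, (∀ i j, f j ∈ reach r (f i)) → ∀ i j,
      (Φ.W (f i)).card = (Φ.W (f j)).card := fun {n f r} h i j =>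
    le_antisymm (Φ.card_reach (h j i)) (Φ.card_reach (h i j))
  have h6 : ∀ i, ¬ 4 ≤ (Φ.W (six i)).card := by
    intro i h
    have := (Φ.prod_card_le six fun i j h => (six_ne i).2 j h).1
    rw [Finset.prod_congr rfl fun j _ => eq_of six_reach j i, Finset.prod_const, Finset.card_univ,
      Fintype.card_fin] at this
    have := (Nat.pow_le_pow_left h 6).trans this
    omega
  have hcard : ∀ v : V, ∀ M : Set V, (∀ a ∈ M, ∀ b ∈ M, a + b ∈ M) → (∀ l, ∀ v ∈ Φ.W l, v ∈ M) → v ∈ M :=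
    fun v M h1 h2 => Φ.span h1 h2 v
  by_cases hc : 4 ≤ (Φ.W (cone 0)).card
  · left
    have hprod := Φ.prod_card_le cone fun i j h => (cone_ne i).2 j h
    rw [Finset.prod_congr rfl fun j _ => eq_of cone_reach j 0, Finset.prod_const, Finset.card_univ,
      Fintype.card_fin] at hprod
    have h4 : (Φ.W (cone 0)).card = 4 := by
      by_contra hne
      have := (Nat.pow_le_pow_left (show 5 ≤ (Φ.W (cone 0)).card by omega) 4).trans hprod.1
      omega
    exact ⟨fun i => (eq_of cone_reach i 0).trans h4, hprod.2 (by rw [h4]; norm_num)⟩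
  · right
    let f : Option (Fin 3) → Frm := fun i => i.elim 0 tri
    have hf : ∀ i j, j ≠ i → ¬ SameLine (f i) (f j) := by decide +kernel
    have hspan : ∀ v, ∃ x : Option (Fin 3) → V, (∀ i, x i ∈ Φ.W (f i)) ∧ ∑ i, x i = v := by
      intro v
      refine hcard v {v | ∃ x : Option (Fin 3) → V, (∀ i, x i ∈ Φ.W (f i)) ∧ ∑ i, x i = v} ?_ ?_
      · rintro a ⟨x, hx, rfl⟩ b ⟨y, hy, rfl⟩
        exact ⟨fun i => x i + y i, fun i => (Φ.W_sub _).add (hx i) (hy i), Finset.sum_add_distrib⟩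
      · intro l v hv
        obtain ⟨i, hi⟩ : ∃ i, v ∈ Φ.W (f i) := by
          rcases line_cases l with rfl | ⟨i, h⟩ | ⟨i, h⟩ | ⟨i, h⟩
          · exact ⟨none, hv⟩
          · rw [Φ.W_same h] at hv
            exact ⟨none, by rw [triv ((eq_of cone_reach i 0).symm ▸ hc) (cone_ne i).1 v hv]; exact (Φ.W_sub _).zero⟩
          · exact ⟨some i, (Φ.W_same h) ▸ hv⟩
          · rw [Φ.W_same h] at hv
            exact ⟨none, by rw [triv (h6 i) (six_ne i).1 v hv]; exact (Φ.W_sub _).zero⟩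
        refine ⟨fun j => if j = i then v else 0, fun j => ?_, ?_⟩
        · show (if j = i then v else 0) ∈ _
          split_ifs with e
          · exact e ▸ hi
          · exact (Φ.W_sub _).zero
        · simp
    have ht : 4 ≤ (Φ.W (tri 0)).card := by
      by_contra ht
      obtain ⟨p, v, hpv⟩ : ∃ p v, Φ.U p v ≠ v := by
        refine ⟨(1, 0, 0), ?_⟩
        by_contra hall
        push Not at hall
        exact ue_ne_one (show ((1, 0, 0) : Par) ≠ 0 by decide) (Φ.faithful _ hall)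
      obtain ⟨x, hx, rfl⟩ := hspan v
      refine hpv ?_
      have hz : ∀ i, x (some i) = 0 := fun i =>
        triv ((eq_of tri_reach i 0).symm ▸ ht) (tri_ne i).1 _ (hx (some i))
      rw [Fintype.sum_option, Finset.sum_eq_zero fun i _ => hz i, add_zero]
      exact Φ.mem_W_zero.1 (hx none) p
    have hprod := Φ.prod_card_le f hf
    have heq : ∀ i, (Φ.W (tri i)).card = (Φ.W (tri 0)).card := fun i => eq_of tri_reach i 0
    have hge : 256 ≤ (Φ.W 0).card * (Φ.W (tri 0)).card ^ 3 := by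
      have hsurj : Function.Surjective fun x : (∀ i, ↥(Φ.W (f i))) => ∑ i, (x i : V) := fun v => by
        obtain ⟨x, hx, e⟩ := hspan v; exact ⟨fun i => ⟨x i, hx i⟩, e⟩
      have h := Fintype.card_le_of_surjective _ hsurj
      have e : Fintype.card (∀ i, ↥(Φ.W (f i))) = (Φ.W 0).card * (Φ.W (tri 0)).card ^ 3 := by
        rw [Fintype.card_pi, Fintype.prod_option, Fintype.card_coe]
        refine congrArg ((Φ.W 0).card * ·) ?_
        show ∏ i : Fin 3, Fintype.card ↥(Φ.W (tri i)) = _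
        rw [Finset.prod_congr rfl fun j _ => (Fintype.card_coe _).trans (heq j), Finset.prod_const,
          Finset.card_univ, Fintype.card_fin]
      rw [e] at h
      simpa [V] using h
    have hle := hprod.1
    simp only [Fintype.prod_option, f, Option.elim, Finset.prod_congr rfl fun j _ => heq j, Finset.prod_const,
      Finset.card_univ, Fintype.card_fin] at hle
    have hmul := le_antisymm hle hge
    have hdvd : ∀ l, (Φ.W l).card ∣ 256 := fun l => by
      let K : AddSubgroup V :=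
        { carrier := Φ.W l
          zero_mem' := (Φ.W_sub l).zero
          add_mem' := fun ha hb => (Φ.W_sub l).add ha hb
          neg_mem' := fun {a} ha => by
            rw [show -a = a from neg_eq_of_add_eq_zero_left (v_add_self a)]; exact ha }
      have h := K.card_addSubgroup_dvd_card
      rw [show Nat.card K = (Φ.W l).card from Nat.card_eq_finsetCard (Φ.W l), Nat.card_eq_fintype_card] at h
      simpa [V] using h
    have h4 : (Φ.W (tri 0)).card = 4 := by
      by_contra hne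
      have hle8 : (Φ.W (tri 0)).card < 7 := by
        by_contra hge7
        have h7 := Nat.pow_le_pow_left (show 7 ≤ (Φ.W (tri 0)).card by omega) 3
        have hpos : 0 < (Φ.W 0).card := Finset.card_pos.2 ⟨0, (Φ.W_sub 0).zero⟩
        nlinarith
      have hd := hdvd (tri 0)
      interval_cases h : (Φ.W (tri 0)).card <;> omega
    refine ⟨fun i => (heq i).trans h4, ?_, hspan⟩
    rw [h4] at hmul
    omega

end Act

end CfsgLib.U6Cent
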